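import Groth.Agent.CurveBC.FiniteDim

/-!
# Finite morphisms do not raise the dimension
-/

set_option autoImplicit false

universe u

open CategoryTheory AlgebraicGeometry TopologicalSpace

namespace Groth.Agent.TateIsog

/-- finite morphisms do not raise the dimension -/
theorem topologicalKrullDim_le_of_finite {A B : Scheme.{u}} (f : A ⟶ B) [IsFinite f] :
    topologicalKrullDim A ≤ topologicalKrullDim B := by
  let g : IrreducibleCloseds A → IrreducibleCloseds B := fun Z =>
    ⟨f '' (Z : Set A), Z.isIrreducible.image _ f.continuous.continuousOn, f.isClosedMap _ Z.isClosed⟩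
  refine Order.krullDim_le_of_strictMono g fun S T hST => ?_
  refine lt_of_le_of_ne (Set.image_mono (f := f) hST.le) fun h => ?_
  obtain ⟨a, ha⟩ := QuasiSober.sober S.isIrreducible S.isClosed
  obtain ⟨b, hb⟩ := QuasiSober.sober T.isIrreducible T.isClosed
  have hab : b ⤳ a := hb.specializes (hST.le ha.mem)
  obtain ⟨c, hc, hce⟩ : f b ∈ f '' (S : Set A) :=
    (congrArg (fun Z : IrreducibleCloseds B => (Z : Set B)) h).ge ⟨b, hb.mem, rfl⟩
  have h1 : f a ⤳ f b := hce ▸ (ha.specializes hc).map f.continuous
  have he : f a = f b := (h1.antisymm (hab.map f.continuous)).eq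
  exact hST.ne (IrreducibleCloseds.ext (by
    rw [← ha.def, ← hb.def, CurveBC.eq_of_specializes_fibre f hab he.symm]))

end Groth.Agent.TateIsog
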