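import Groth.Agent.TateIsog.PolModule
import Groth.Agent.AVPrincPol.Four
import Groth.Agent.AVDualMake.Quotient
import Groth.Agent.AVDualMake.EulerKL
import Groth.Agent.AVDualMake.RankKL
import Groth.Agent.S19771
import Groth.Agent.S7782
import Groth.Agent.TateIsog.FinDim

/-!
# Zarhin's trick over an arbitrary field

For a symmetric ample module `L` on an abelian variety `A`, the product of `A⁴` with `A⁴/K(L)⁴` carries an
explicit ample class of Euler characteristic `2 ^ (8 g)`, defined over the ground field.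
-/

noncomputable section

set_option autoImplicit false
set_option linter.style.haveILetI false
set_option linter.unusedSectionVars false
set_option backward.isDefEq.respectTransparency false
set_option backward.isDefEq.respectTransparency.types false
set_option maxHeartbeats 1000000

universe u

open CategoryTheory CategoryTheory.Limits MonoidalCategory CartesianMonoidalCategory MonObj GrpObj AlgebraicGeometry
  TopologicalSpace Order

namespace Groth.Agent.TateIsog

open Groth.Agent Groth.Agent.H23 Groth.Agent.AVPair Groth.Agent.AVPrincPol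
open scoped Groth.Agent.H23.PicMul

/-- A closed surjection does not lower the dimension. -/
theorem le_topologicalKrullDim_of_isClosedMap {A B : Scheme.{u}} (f : A ⟶ B) (hc : IsClosedMap f)
    (hs : Function.Surjective f) : topologicalKrullDim B ≤ topologicalKrullDim A := by
  rw [topologicalKrullDim, topologicalKrullDim, krullDim_eq_of_orderIso (irreducibleSetEquivPoints (α := A)),
    krullDim_eq_of_orderIso (irreducibleSetEquivPoints (α := B))]
  refine iSup_le fun p => ?_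
  suffices h : ∃ q : LTSeries ↥A, q.length = p.length ∧ f q.head = p.head by
    obtain ⟨q, hq, -⟩ := h
    rw [← hq]
    exact le_iSup (fun r : LTSeries ↥A => (r.length : WithBot ℕ∞)) q
  induction p using RelSeries.inductionOn with
  | singleton x =>
    obtain ⟨a, rfl⟩ := hs x
    exact ⟨RelSeries.singleton _ a, rfl, rfl⟩
  | cons p x hx ih =>
    obtain ⟨q, hq, hh⟩ := ih
    have hx' : x < f q.head := by rw [hh]; exact hx
    obtain ⟨a', ha', he⟩ := hc.specializingMap (show f q.head ⤳ x from hx'.le)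
    have hlt : a' < q.head :=
      lt_of_le_of_ne (ha' : q.head ⤳ a') fun e => hx'.ne (by rw [← he, e])
    exact ⟨q.cons a' hlt, by simp [RelSeries.cons_length, hq], by simp [he]⟩

/-- A finite surjection preserves the dimension. -/
theorem topologicalKrullDim_eq_of_finite_surjective {A B : Scheme.{u}} (f : A ⟶ B) [IsFinite f] [Surjective f] :
    topologicalKrullDim A = topologicalKrullDim B :=
  le_antisymm (topologicalKrullDim_le_of_finite f)
    (le_topologicalKrullDim_of_isClosedMap f f.isClosedMap f.surjective)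

/-- A product of proper schemes is proper. -/
theorem isProper_tensor_av {k : Type u} [Field k] (A B : Over (Spec (CommRingCat.of k))) [IsProper A.hom]
    [IsProper B.hom] : IsProper (A ⊗ B).hom := by
  show IsProper (pullback.fst A.hom B.hom ≫ A.hom)
  infer_instance

/-- The identity used for the class on the product. -/
theorem key_identity {M N : Type*} [AddCommGroup M] [AddCommGroup N] (B : M →+ M →+ N)
    (hs : ∀ a b, B a b = B b a) (x y w : M) (n : ℕ) (hw : B w w = n • B x x) :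
    B ((n + 1) • x) x + (2 : ℕ) • B (-(w - y)) w + B (w - y) (w - y) = B x x + B y y := by
  simp only [map_nsmul, map_sub, map_neg, AddMonoidHom.sub_apply, AddMonoidHom.neg_apply, AddMonoidHom.smul_apply,
    hw, hs y w]
  module

variable {k : Type u} [Field k] {F : Over (Spec (CommRingCat.of k))} [GrpObj F] [IsProper F.hom]
  [GeometricallyIntegral F.hom]

/-- The square of the Euler characteristic of an ample module is the rank of `K(L)`, over any field. -/
theorem euler_sq_rank {L : F.left.Modules} (hL : CohB1.IsAmple L) {K : Over (Spec (CommRingCat.of k))} {i : K ⟶ F}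
    (hK : ThetaGrp.IsKL F L i) [IsFinite K.hom] (s : ↥(Spec (CommRingCat.of k))) :
    @Curv2.euler k _ F.left ⟨F.hom⟩ L ^ 2 = (Scheme.Hom.finrank K.hom s : ℤ) := by
  let Ω := AlgebraicClosure k
  let t : Spec (CommRingCat.of Ω) ⟶ Spec (CommRingCat.of k) := Spec.map (CommRingCat.ofHom (algebraMap k Ω))
  let F' := Red.bc t F
  haveI : IsProper F'.hom := MorphismProperty.pullback_snd (P := @IsProper) F.hom t inferInstance
  haveI : GeometricallyIntegral F'.hom :=
    MorphismProperty.pullback_snd (P := @GeometricallyIntegral) F.hom t inferInstance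
  haveI : IsFinite (Red.bc t K).hom := MorphismProperty.pullback_snd (P := @IsFinite) K.hom t inferInstance
  have h := AVDualMake.euler_sq_KL (PicClLib.isInvertible_pullback _ hL.1) (AVDualMake.isKL_bc t hK)
    (IsLocalRing.closedPoint Ω : ↥(Spec (CommRingCat.of Ω)))
  letI : F.left.Over (Spec (CommRingCat.of k)) := ⟨F.hom⟩
  letI : F'.left.Over (Spec (CommRingCat.of Ω)) := ⟨F'.hom⟩
  haveI : CompactSpace F.left := QuasiCompact.compactSpace_of_compactSpace F.hom
  haveI : IsProper (F.left ↘ Spec (CommRingCat.of k)) := ‹IsProper F.hom›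
  haveI := CurveCohLib.isNoetherian_of_proper (k := k) (X := F.left)
  erw [CurveBC.euler_eq k Ω (pullback.fst F.hom t) (IsPullback.of_hasPullback F.hom t) L
    (AmpleVan.isCoh_invertible hL.1).1] at h
  have h2 : Scheme.Hom.finrank (Red.bc t K).hom (IsLocalRing.closedPoint Ω) = Scheme.Hom.finrank K.hom s := by
    haveI : Flat K.hom := AssLib.flat_over_field K.hom
    haveI : Subsingleton ↥(Spec (CommRingCat.of k)) := inferInstanceAs (Subsingleton (PrimeSpectrum k))
    refine (Scheme.Hom.finrank_of_isPullback _ _ _ _ (IsPullback.of_hasPullback K.hom t) _).trans ?_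
    exact congrArg _ (Subsingleton.elim _ _)
  rw [h2] at h
  exact h

/-- **Zarhin's trick over any field**: the general form. -/
theorem exists_zarhin_ample [IsCommMonObj F] {L : F.left.Modules} (hL : CohB1.IsAmple L) {d : PicF.Cl F.left}
    (hLD : PicF.cl L * d = 1) (hsym : pl (𝟙 F)⁻¹ (PicF.cl L) = PicF.cl L)
    (hα : ∀ n : ℕ, ∃ (α αb : F ⟶ F) (_ : IsMonHom α), α ≫ αb = (𝟙 F) ^ n ∧
      ∀ (T : Over (Spec (CommRingCat.of k))) (x y : T ⟶ F),
        E (PicF.cl L) d (x ≫ α) y = E (PicF.cl L) d x (y ≫ αb))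
    {g : ℕ} (hg : topologicalKrullDim (F ⊗ F).left = g) :
    ∃ (Q : Over (Spec (CommRingCat.of k))) (_ : GrpObj Q) (f : F ⊗ F ⟶ F ⊗ Q) (M : (F ⊗ Q).left.Modules),
      IsProper Q.hom ∧ GeometricallyIntegral Q.hom ∧ IsMonHom f ∧ IsFinite f.left ∧ Surjective f.left ∧
        topologicalKrullDim (F ⊗ Q).left = g ∧ CohB1.IsAmple M ∧
          @Curv2.euler k _ (F ⊗ Q).left ⟨(F ⊗ Q).hom⟩ M = 2 ^ g := by
  haveI : Subsingleton ↥(Spec (CommRingCat.of k)) := inferInstanceAs (Subsingleton (PrimeSpectrum k))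
  haveI : Nonempty ↥(Spec (CommRingCat.of k)) := inferInstanceAs (Nonempty (PrimeSpectrum k))
  obtain ⟨s₀⟩ : Nonempty ↥(Spec (CommRingCat.of k)) := inferInstance
  have hl : PicF.IsInvertibleCl (PicF.cl L) := ⟨L, rfl, hL.1⟩
  haveI := smooth_av F
  haveI : GeometricallyConnected F.hom := CubeAb.geometricallyConnected_of_integral F.hom
  -- the kernel `K(L)` and the quotient
  obtain ⟨K, iK, hK⟩ := ThetaLib.exists_isKL F L hL.1
  haveI hKf : IsFinite K.hom := S19771.result F L ((AmpleX.isRelAmple_iff_isAmple F.hom L).2 hL) K iK hK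
  obtain ⟨Q, sQ, q, c, hQp, hQg, hqm, hqs, hqfl, hker, hci, -, hc⟩ := AVDualMake.exists_quotient hL.1 hLD hK
  haveI := hQp; haveI := hQg; haveI := hqm; haveI := hqs; haveI := hqfl
  letI := AVDualMake.klGrpObj hL.1 hK
  haveI := AVDualMake.isMonHom_incl hL.1 hK
  haveI := AVDualMake.mono_incl hK
  haveI : IsCommMonObj K := ⟨by
    rw [← cancel_mono iK, Category.assoc, IsMonHom.mul_hom, ← BraidedCategory.braiding_naturality_assoc,
      IsCommMonObj.mul_comm]⟩
  haveI : IsIntegral F.left := GeometricallyIntegral.isIntegral_of_subsingleton F.hom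
  haveI : IsIntegral Q.left := GeometricallyIntegral.isIntegral_of_subsingleton Q.hom
  have hkk : AlgGrp.IsKernel iK q := GrpQuotLib.isKernel_of_isCosetMap fun T a b => hker T a b
  haveI : IsFinite q.left := AVField.isFinite_of_kernel q iK hkk
  haveI : LocallyOfFinitePresentation q.left := by
    haveI : LocallyOfFinitePresentation (q.left ≫ Q.hom) := by rw [Over.w q]; infer_instance
    exact S12442.locallyOfFinitePresentation_of_comp q.left Q.hom
  obtain ⟨a0⟩ : Nonempty F.left := inferInstance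
  let r := q.left.finrank (q.left a0)
  have hr : ∀ y, q.left.finrank y = r :=
    fun y => q.left.isLocallyConstant_finrank.apply_eq_of_preconnectedSpace _ _
  have hr0 : 0 < r := q.left.one_le_finrank_map a0
  have hKr : ∀ s, Scheme.Hom.finrank K.hom s = r := fun s => by
    have sq : IsPullback iK.left (toUnit K).left q.left η[Q].left :=
      (show IsPullback iK (toUnit K) q η[Q] from hkk).map (Over.forget _)
    rw [show K.hom = (toUnit K).left from (Over.toUnit_left).symm, Scheme.Hom.finrank_of_isPullback _ _ _ _ sq s, hr]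
  haveI : Flat K.hom := AssLib.flat_over_field K.hom
  haveI : LocallyOfFinitePresentation K.hom := inferInstance
  have hkill : iK ^ r = 1 := by
    have h : (𝟙 K) ^ r = 1 := S7782.result K r hKr K (𝟙 K)
    have h' := congrArg (· ≫ iK) h
    simpa only [MonObj.pow_comp, Category.id_comp, MonObj.one_comp] using h'
  obtain ⟨n, hn⟩ : ∃ n, r = n + 1 := ⟨r - 1, by omega⟩
  obtain ⟨α, αb, hαm, hαn, hadj⟩ := hα n
  haveI := hαm
  -- the pairing
  have hsymE : ∀ {T : Over (Spec (CommRingCat.of k))} (x y : T ⟶ F),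
      E (PicF.cl L) d x y = E (PicF.cl L) d y x := fun x y => by
    simp only [E, AVField.mum, map_mul, pl_pl, lift_fst, lift_snd]
    rw [show lift x y ≫ μ[F] = x * y from (Hom.mul_def _ _).symm,
      show lift y x ≫ μ[F] = y * x from (Hom.mul_def _ _).symm, mul_comm x y]
    ac_rfl
  have hEc : ∀ {T : Over (Spec (CommRingCat.of k))} (a b : T ⟶ F),
      pl (lift a (b ≫ q)) c = E (PicF.cl L) d a b := fun a b => by
    rw [E, ← hc, pl_pl, lift_whiskerLeft]
  have hdiag : ∀ {T : Over (Spec (CommRingCat.of k))} (a : T ⟶ F),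
      E (PicF.cl L) d a a = pl a (PicF.cl L) * pl a (PicF.cl L) := fun a => by
    rw [E, show lift a a = a ≫ lift (𝟙 F) (𝟙 F) by rw [comp_lift, Category.comp_id], ← pl_pl,
      pl_diag_mum hl hLD, hsym, map_mul]
  -- maps out of the quotient
  haveI : QuasiCompact q.left := inferInstance
  have hcov : AVQuotLib.Cov q := ⟨inferInstance, inferInstance, inferInstance⟩
  obtain ⟨μ', hμ⟩ := hcov.exists_desc ((𝟙 F) ^ r : F ⟶ F) fun T a b hab => by
    obtain ⟨h, rfl⟩ := (hker T a b).1 hab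
    rw [MonObj.comp_pow, MonObj.comp_pow, Category.comp_id, Category.comp_id, mul_pow,
      show (h ≫ iK) ^ r = h ≫ iK ^ r from (MonObj.comp_pow _ _ _).symm, hkill, MonObj.comp_one, _root_.mul_one]
  have hαK : ∃ h : K ⟶ K, h ≫ iK = iK ≫ α := by
    refine (hK.univ K (iK ≫ α)).1 ((mumfordTriv_iff hL.1 hLD _).2 ?_)
    have h1 := (mumfordTriv_iff hL.1 hLD iK).1 ((hK.univ K iK).2 ⟨𝟙 K, Category.id_comp _⟩)
    have h2 := congrArg (pl (αb ▷ K)) h1
    rw [pl_E, map_one, whiskerRight_fst, whiskerRight_snd_assoc] at h2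
    rw [hsymE, ← Category.assoc, hadj, hsymE]
    exact h2
  obtain ⟨αh, hαh⟩ := hαK
  obtain ⟨α', hα'⟩ := hcov.exists_desc (α ≫ q) fun T a b hab => by
    obtain ⟨h, rfl⟩ := (hker T a b).1 hab
    rw [← Category.assoc, ← Category.assoc, hker]
    exact ⟨h ≫ αh, by rw [MonObj.mul_comp, Category.assoc, Category.assoc, hαh]⟩
  -- the shear and the isogeny
  haveI : IsProper (F ⊗ F).hom := isProper_tensor_av _ _
  haveI : GeometricallyIntegral (F ⊗ F).hom := MaxAbelian.geometricallyIntegral_tensor F F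
  haveI : IsCommMonObj (F ⊗ F) := isCommMonObj_of_isProper_of_geometricallyIntegral _
  haveI : IsProper (F ⊗ Q).hom := isProper_tensor_av _ _
  haveI : GeometricallyIntegral (F ⊗ Q).hom := MaxAbelian.geometricallyIntegral_tensor F Q
  let u : F ⊗ F ⟶ F ⊗ F := lift ((fst F F ≫ α) * (snd F F)⁻¹) (fst F F)
  let v : F ⊗ F ⟶ F ⊗ F := lift (snd F F) ((snd F F ≫ α) * (fst F F)⁻¹)
  have huv : u ≫ v = 𝟙 _ := by
    apply CartesianMonoidalCategory.hom_ext
    · simp only [Category.assoc, v, lift_fst, u, lift_snd, Category.id_comp]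
    · simp only [Category.assoc, v, lift_snd, Category.id_comp, MonObj.comp_mul, GrpObj.comp_inv, u, lift_fst,
        lift_snd_assoc]
      rw [_root_.mul_inv_rev, _root_.inv_inv, mul_comm (snd F F), mul_inv_cancel_left]
  have hvu : v ≫ u = 𝟙 _ := by
    apply CartesianMonoidalCategory.hom_ext
    · simp only [Category.assoc, u, lift_fst, Category.id_comp, MonObj.comp_mul, GrpObj.comp_inv, v, lift_snd,
        lift_fst_assoc]
      rw [_root_.mul_inv_rev, _root_.inv_inv, mul_comm (fst F F), mul_inv_cancel_left]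
    · simp only [Category.assoc, u, lift_snd, v, lift_fst, Category.id_comp]
  haveI : IsIso u := ⟨v, huv, hvu⟩
  let f : F ⊗ F ⟶ F ⊗ Q := u ≫ F ◁ q
  have sqW : IsPullback (F ◁ q).left (snd F F).left (snd F Q).left q.left :=
    (FpqcDescLib.isPullback_whiskerLeft q F).map (Over.forget _)
  haveI : IsFinite (F ◁ q).left := MorphismProperty.of_isPullback (P := @IsFinite) sqW.flip inferInstance
  haveI : Flat (F ◁ q).left := MorphismProperty.of_isPullback (P := @Flat) sqW.flip inferInstance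
  haveI : Surjective (F ◁ q).left := MorphismProperty.of_isPullback (P := @Surjective) sqW.flip inferInstance
  haveI : IsIso u.left := inferInstanceAs (IsIso ((Over.forget _).map u))
  haveI : IsFinite f.left := inferInstanceAs (IsFinite (u.left ≫ (F ◁ q).left))
  haveI : Flat f.left := inferInstanceAs (Flat (u.left ≫ (F ◁ q).left))
  haveI : Surjective f.left := inferInstanceAs (Surjective (u.left ≫ (F ◁ q).left))
  have he1 : ∀ {B : Over (Spec (CommRingCat.of k))} [GrpObj B], (η[B] : 𝟙_ _ ⟶ B) = 1 := fun {B} _ => by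
    rw [Hom.one_def, toUnit_unique (toUnit _) (𝟙 _), Category.id_comp]
  haveI : IsMonHom f := GrpSchLib.RigidHom.isMonHom_of_one f (by
    rw [he1]
    apply CartesianMonoidalCategory.hom_ext
    · simp only [f, u, Category.assoc, whiskerLeft_fst, lift_fst, MonObj.comp_mul, GrpObj.comp_inv]
      rw [show (1 : 𝟙_ _ ⟶ F ⊗ Q) ≫ fst F Q = 1 from MonObj.one_comp _,
        show (1 : 𝟙_ _ ⟶ F ⊗ F) ≫ fst F F ≫ α = 1 by rw [← Category.assoc, MonObj.one_comp, MonObj.one_comp],
        show (1 : 𝟙_ _ ⟶ F ⊗ F) ≫ snd F F = 1 from MonObj.one_comp _, inv_one, _root_.mul_one]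
    · simp only [f, u, Category.assoc, whiskerLeft_snd, lift_snd_assoc]
      rw [show (1 : 𝟙_ _ ⟶ F ⊗ Q) ≫ snd F Q = 1 from MonObj.one_comp _, ← Category.assoc, MonObj.one_comp,
        MonObj.one_comp])
  -- the class
  let a : F ⊗ Q ⟶ F := fst F Q
  let b : F ⊗ Q ⟶ Q := snd F Q
  let cM : PicF.Cl (F ⊗ Q).left :=
    pl (lift (b ≫ μ') b) c * (pl (lift a⁻¹ (b ≫ α')) c * pl (lift a⁻¹ (b ≫ α')) c) * E (PicF.cl L) d a a
  have hcM : PicF.IsInvertibleCl cM := PicMul.isInvertibleCl_mul (PicMul.isInvertibleCl_mul (isInv_pl _ hci)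
    (PicMul.isInvertibleCl_mul (isInv_pl _ hci) (isInv_pl _ hci))) (isInv_pl _ (AVField.isInvertibleCl_mum hl hLD))
  have hfa : f ≫ a = (fst F F ≫ α) * (snd F F)⁻¹ := by
    simp only [f, u, a, Category.assoc, whiskerLeft_fst, lift_fst]
  have hfb : f ≫ b = fst F F ≫ q := by
    simp only [f, u, b, Category.assoc, whiskerLeft_snd, lift_snd_assoc]
  let x : F ⊗ F ⟶ F := fst F F
  let y : F ⊗ F ⟶ F := snd F F
  have hfM : pl f cM = pl x (PicF.cl L) * pl x (PicF.cl L) * (pl y (PicF.cl L) * pl y (PicF.cl L)) := by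
    simp only [cM, map_mul, pl_pl, comp_lift, GrpObj.comp_inv, pl_E, ← Category.assoc]
    rw [hfa, hfb]
    simp only [Category.assoc]
    rw [hμ, hα', MonObj.comp_pow, Category.comp_id, hEc, ← Category.assoc, hEc, ← hdiag, ← hdiag]
    simp only [← val_EA hl hLD, ← Units.val_mul, ← toMul_add]
    congr 2
    rw [hn, ofMul_pow, ofMul_inv, ← div_eq_mul_inv, ofMul_div]
    have hsB : ∀ s t, EA hl hLD (F ⊗ F) s t = EA hl hLD (F ⊗ F) t s := fun s t =>
      Additive.toMul.injective (Units.ext (by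
        obtain ⟨s', rfl⟩ := Additive.ofMul.surjective s
        obtain ⟨t', rfl⟩ := Additive.ofMul.surjective t
        rw [val_EA, val_EA, hsymE]))
    rw [← two_nsmul]
    refine key_identity (EA hl hLD (F ⊗ F)) hsB _ _ _ n ?_
    rw [← map_nsmul (EA hl hLD (F ⊗ F) (Additive.ofMul x)), ← ofMul_pow]
    refine Additive.toMul.injective (Units.ext ?_)
    rw [val_EA, val_EA, hadj]
    congr 1
    rw [Category.assoc, hαn, MonObj.comp_pow, Category.comp_id]
  obtain ⟨M, hM, hMi⟩ := hcM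
  -- the square of the exterior square
  let L₂ : (F ⊗ F).left.Modules := CohB1.tensorMod ((Scheme.Modules.pullback (pullback.fst F.hom F.hom)).obj L)
    ((Scheme.Modules.pullback (pullback.snd F.hom F.hom)).obj L)
  have hL₂a : CohB1.IsAmple L₂ := isAmple_boxProd F.hom F.hom hL hL
  have hcl₂ : PicF.cl L₂ = pl x (PicF.cl L) * pl y (PicF.cl L) := PicMul.cl_tensor _ _
  obtain ⟨ψ⟩ := PicMul.cl_eq_iff.1 (show PicF.cl ((Scheme.Modules.pullback f.left).obj M) =
      PicF.cl (CohB1.tensorPow L₂ 2) by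
    rw [PicMul.cl_tensorPow, sq, hcl₂, show PicF.cl ((Scheme.Modules.pullback f.left).obj M) = pl f (PicF.cl M)
      from rfl, hM, hfM]
    ac_rfl)
  have hpow : CohB1.IsAmple (CohB1.tensorPow L₂ 2) := AmpleX.isAmple_tensorPow hL₂a (by norm_num)
  have hfMa : CohB1.IsAmple ((Scheme.Modules.pullback f.left).obj M) := AmpleX.isAmple_of_iso ψ.symm hpow
  have hMa : CohB1.IsAmple M := NormX.isAmple_of_finite_surjective (F ⊗ Q).hom f.left hMi hfMa
  refine ⟨Q, sQ, f, M, hQp, hQg, inferInstance, inferInstance, inferInstance,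
    (topologicalKrullDim_eq_of_finite_surjective f.left).symm.trans hg, hMa, ?_⟩
  -- Euler characteristics
  letI : (F ⊗ F).left.Over (Spec (CommRingCat.of k)) := ⟨(F ⊗ F).hom⟩
  haveI : IsProper ((F ⊗ F).left ↘ Spec (CommRingCat.of k)) := ‹IsProper (F ⊗ F).hom›
  haveI := CurveCohLib.isNoetherian_of_proper (k := k) (X := (F ⊗ F).left)
  haveI := smooth_av (F ⊗ F)
  haveI : GeometricallyConnected (F ⊗ F).hom := CubeAb.geometricallyConnected_of_integral (F ⊗ F).hom
  haveI : IsIntegral (F ⊗ Q).left := GeometricallyIntegral.isIntegral_of_subsingleton (F ⊗ Q).hom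
  haveI : IsLocallyNoetherian (F ⊗ Q).left := LocallyOfFiniteType.isLocallyNoetherian (F ⊗ Q).hom
  have hfn : ∀ z, f.left.finrank z = r := fun z => by
    show (u.left ≫ (F ◁ q).left).finrank z = r
    rw [Scheme.Hom.finrank_comp_left_of_isIso, Scheme.Hom.finrank_of_isPullback _ _ _ _ sqW.flip z, hr]
  obtain ⟨D, hD, hL₂D⟩ : ∃ D : (F ⊗ F).left.Modules, PicF.IsInvertible D ∧ PicF.cl L₂ * PicF.cl D = 1 := by
    obtain ⟨D, hD, ⟨e'⟩⟩ := PicInv.exists_inverse hL₂a.1
    exact ⟨D, hD, by rw [← PicMul.cl_tensor, PicMul.one_def]; exact PicMul.cl_eq_iff.2 ⟨e'⟩⟩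
  have hχ2 : Curv2.euler k (F ⊗ F).left (CohB1.tensorPow L₂ 2) = 2 ^ g * Curv2.euler k (F ⊗ F).left L₂ := by
    have h := AVEuler.euler_homogeneous hg hL₂a.1 hD hL₂D 2 0
    have he : Curv2.euler k (F ⊗ F).left (CohB1.tensorMod (CohB1.tensorPow L₂ 2) (CohB1.tensorPow D 0)) =
        Curv2.euler k (F ⊗ F).left (CohB1.tensorPow L₂ 2) := by
      refine CurveCohLib.euler_congr (k := k) (PicMul.cl_eq_iff.1 ?_).some
      rw [PicMul.cl_tensor, PicMul.cl_tensorPow D 0, pow_zero, _root_.mul_one]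
    rw [he, Nat.cast_zero, sub_zero] at h
    exact_mod_cast h
  have hχL : Curv2.euler k (F ⊗ F).left L₂ = (r : ℤ) := by
    rw [← hKr s₀, ← euler_sq_rank hL hK s₀, sq]
    refine Eq.trans ?_ (AVDualCx.euler_prod F F hL.1 hL.1)
    have hhom : (F ⊗ F).hom = pullback.snd F.hom F.hom ≫ F.hom := (Over.w (snd F F)).symm
    rw [CurveCohLib.euler_congr (k := k) (PicMul.cl_eq_iff.1 (show PicF.cl L₂ = PicF.cl (CohB1.tensorMod
      ((Scheme.Modules.pullback (pullback.snd F.hom F.hom)).obj L)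
      ((Scheme.Modules.pullback (pullback.fst F.hom F.hom)).obj L)) by
        rw [PicMul.cl_tensor, PicMul.cl_tensor, _root_.mul_comm])).some]
    exact congrArg (fun σ => @Curv2.euler k _ (F ⊗ F).left ⟨σ⟩ _) hhom
  have h1 := AVEuler.euler_pullback f r hfn M (AmpleVan.isCoh_invertible hMi)
  rw [CurveCohLib.euler_congr (k := k) ψ, hχ2, hχL] at h1
  exact mul_left_cancel₀ (Int.natCast_ne_zero.2 hr0.ne') (h1.symm.trans (_root_.mul_comm _ _))

section Four

variable {A : Over (Spec (CommRingCat.of k))} [GrpObj A] [IsCommMonObj A] [IsProper A.hom]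
  [GeometricallyIntegral A.hom]

/-- The class of the exterior fourth power, over any field. -/
theorem cl_pow4' (L : A.left.Modules) : (PicF.cl (pow4 L) : PicF.Cl (A ⊗ A ⊗ A ⊗ A).left) =
    pl p₁ (PicF.cl L) * pl p₂ (PicF.cl L) * pl p₃ (PicF.cl L) * pl p₄ (PicF.cl L) := by
  have h2 : (PicF.cl (CohB1.tensorMod ((Scheme.Modules.pullback (pullback.fst A.hom A.hom)).obj L)
      ((Scheme.Modules.pullback (pullback.snd A.hom A.hom)).obj L)) : PicF.Cl (A ⊗ A).left) =
      pl (fst A A) (PicF.cl L) * pl (snd A A) (PicF.cl L) := PicMul.cl_tensor _ _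
  have h3 : ∀ G : (A ⊗ A).left.Modules, (PicF.cl (CohB1.tensorMod ((Scheme.Modules.pullback (pullback.fst A.hom (A ⊗ A).hom)).obj L)
      ((Scheme.Modules.pullback (pullback.snd A.hom (A ⊗ A).hom)).obj G)) : PicF.Cl (A ⊗ A ⊗ A).left) =
      pl (fst A (A ⊗ A)) (PicF.cl L) * pl (snd A (A ⊗ A)) (PicF.cl G) := fun G => PicMul.cl_tensor _ _
  have h4 : ∀ G : (A ⊗ A ⊗ A).left.Modules, (PicF.cl (CohB1.tensorMod
      ((Scheme.Modules.pullback (pullback.fst A.hom (A ⊗ A ⊗ A).hom)).obj L)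
      ((Scheme.Modules.pullback (pullback.snd A.hom (A ⊗ A ⊗ A).hom)).obj G)) : PicF.Cl (A ⊗ A ⊗ A ⊗ A).left) =
      pl (fst A (A ⊗ A ⊗ A)) (PicF.cl L) * pl (snd A (A ⊗ A ⊗ A)) (PicF.cl G) := fun G => PicMul.cl_tensor _ _
  rw [pow4, h4, h3, h2]
  simp only [map_mul, pl_pl, _root_.mul_assoc]

theorem isAmple_pow4' {L : A.left.Modules} (hLa : CohB1.IsAmple L) : CohB1.IsAmple (pow4 L) := by
  haveI : IsProper (A ⊗ A).hom := isProper_tensor_av _ _
  haveI : GeometricallyIntegral (A ⊗ A).hom := MaxAbelian.geometricallyIntegral_tensor A A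
  haveI : IsProper (A ⊗ A ⊗ A).hom := isProper_tensor_av _ _
  exact isAmple_boxProd A.hom (A ⊗ A ⊗ A).hom hLa
    (isAmple_boxProd A.hom (A ⊗ A).hom hLa (isAmple_boxProd A.hom A.hom hLa hLa))

/-- The inverse of the exterior fourth power. -/
theorem cl_pow4_mul' {L : A.left.Modules} {d : PicF.Cl A.left} (hLD : PicF.cl L * d = 1) : PicF.cl (pow4 L) * dpow4 d = 1 := by
  rw [cl_pow4', dpow4]
  calc _ = pl p₁ (PicF.cl L * d) * pl p₂ (PicF.cl L * d) * pl p₃ (PicF.cl L * d) * pl p₄ (PicF.cl L * d) := by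
        simp only [map_mul]; ac_rfl
    _ = 1 := by simp only [hLD, map_one, _root_.mul_one]

theorem E_pow4' (L : A.left.Modules) (d : PicF.Cl A.left) {T : Over (Spec (CommRingCat.of k))} (x y : T ⟶ A ⊗ A ⊗ A ⊗ A) :
    haveI : IsProper (A ⊗ A).hom := isProper_tensor_av _ _
    haveI : GeometricallyIntegral (A ⊗ A).hom := MaxAbelian.geometricallyIntegral_tensor A A
    haveI : IsProper (A ⊗ A ⊗ A).hom := isProper_tensor_av _ _
    haveI : GeometricallyIntegral (A ⊗ A ⊗ A).hom := MaxAbelian.geometricallyIntegral_tensor A _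
    haveI : IsProper (A ⊗ A ⊗ A ⊗ A).hom := isProper_tensor_av _ _
    haveI : GeometricallyIntegral (A ⊗ A ⊗ A ⊗ A).hom := MaxAbelian.geometricallyIntegral_tensor A _
    E (PicF.cl (pow4 L)) (dpow4 d) x y = E (PicF.cl L) d (x ≫ p₁) (y ≫ p₁) * E (PicF.cl L) d (x ≫ p₂) (y ≫ p₂) *
      E (PicF.cl L) d (x ≫ p₃) (y ≫ p₃) * E (PicF.cl L) d (x ≫ p₄) (y ≫ p₄) := by
  haveI : IsProper (A ⊗ A).hom := isProper_tensor_av _ _
  haveI : GeometricallyIntegral (A ⊗ A).hom := MaxAbelian.geometricallyIntegral_tensor A A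
  haveI : IsProper (A ⊗ A ⊗ A).hom := isProper_tensor_av _ _
  haveI : GeometricallyIntegral (A ⊗ A ⊗ A).hom := MaxAbelian.geometricallyIntegral_tensor A _
  haveI : IsProper (A ⊗ A ⊗ A ⊗ A).hom := isProper_tensor_av _ _
  haveI : GeometricallyIntegral (A ⊗ A ⊗ A ⊗ A).hom := MaxAbelian.geometricallyIntegral_tensor A _
  show E _ _ x y = _
  rw [cl_pow4', dpow4, E_mul, E_mul, E_mul, E_pullback, E_pullback, E_pullback, E_pullback]

/-- The adjoint of a quaternion is the conjugate quaternion. -/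
theorem adjoint_identity {M N : Type*} [AddCommGroup M] [AddCommGroup N] (B : M →+ M →+ N) (a b c d : ℤ)
    (f₁ f₂ f₃ f₄ g₁ g₂ g₃ g₄ : M) :
    B (a • f₁ + -b • f₂ + -c • f₃ + -d • f₄) g₁ + B (b • f₁ + a • f₂ + -d • f₃ + c • f₄) g₂ +
      B (c • f₁ + d • f₂ + a • f₃ + -b • f₄) g₃ + B (d • f₁ + -c • f₂ + b • f₃ + a • f₄) g₄ =
    B f₁ (a • g₁ + - -b • g₂ + - -c • g₃ + - -d • g₄) + B f₂ ((-b) • g₁ + a • g₂ + - -d • g₃ + -c • g₄) +
      B f₃ ((-c) • g₁ + -d • g₂ + a • g₃ + - -b • g₄) + B f₄ ((-d) • g₁ + - -c • g₂ + -b • g₃ + a • g₄) := by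
  simp only [map_add, map_zsmul, map_neg, neg_smul, smul_neg, AddMonoidHom.add_apply, AddMonoidHom.smul_apply,
    AddMonoidHom.neg_apply]
  module

/-- The norm of a quaternion. -/
theorem quat_conj {M : Type*} [AddCommGroup M] (a b c d : ℤ) (f₁ f₂ f₃ f₄ : M) :
    let u₁ := a • f₁ + -b • f₂ + -c • f₃ + -d • f₄
    let u₂ := b • f₁ + a • f₂ + -d • f₃ + c • f₄
    let u₃ := c • f₁ + d • f₂ + a • f₃ + -b • f₄
    let u₄ := d • f₁ + -c • f₂ + b • f₃ + a • f₄
    a • u₁ + - -b • u₂ + - -c • u₃ + - -d • u₄ = (a ^ 2 + b ^ 2 + c ^ 2 + d ^ 2) • f₁ ∧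
    (-b) • u₁ + a • u₂ + - -d • u₃ + -c • u₄ = (a ^ 2 + b ^ 2 + c ^ 2 + d ^ 2) • f₂ ∧
    (-c) • u₁ + -d • u₂ + a • u₃ + - -b • u₄ = (a ^ 2 + b ^ 2 + c ^ 2 + d ^ 2) • f₃ ∧
    (-d) • u₁ + - -c • u₂ + -b • u₃ + a • u₄ = (a ^ 2 + b ^ 2 + c ^ 2 + d ^ 2) • f₄ := by
  refine ⟨?_, ?_, ?_, ?_⟩ <;> module

/-- **Zarhin's trick over any field.** -/
theorem exists_zarhin_four {L : A.left.Modules} (hL : CohB1.IsAmple L)
    (hsym : pl (𝟙 A)⁻¹ (PicF.cl L) = PicF.cl L) {g : ℕ}
    (hg : topologicalKrullDim ((A ⊗ A ⊗ A ⊗ A) ⊗ (A ⊗ A ⊗ A ⊗ A)).left = g) :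
    ∃ (Q : Over (Spec (CommRingCat.of k))) (_ : GrpObj Q)
      (f : (A ⊗ A ⊗ A ⊗ A) ⊗ (A ⊗ A ⊗ A ⊗ A) ⟶ (A ⊗ A ⊗ A ⊗ A) ⊗ Q)
      (M : ((A ⊗ A ⊗ A ⊗ A) ⊗ Q).left.Modules),
      IsProper Q.hom ∧ GeometricallyIntegral Q.hom ∧ IsMonHom f ∧ IsFinite f.left ∧ Surjective f.left ∧
        topologicalKrullDim ((A ⊗ A ⊗ A ⊗ A) ⊗ Q).left = g ∧ CohB1.IsAmple M ∧
          @Curv2.euler k _ ((A ⊗ A ⊗ A ⊗ A) ⊗ Q).left ⟨((A ⊗ A ⊗ A ⊗ A) ⊗ Q).hom⟩ M = 2 ^ g := by
  haveI : IsProper (A ⊗ A).hom := isProper_tensor_av _ _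
  haveI : GeometricallyIntegral (A ⊗ A).hom := MaxAbelian.geometricallyIntegral_tensor A A
  haveI : IsProper (A ⊗ A ⊗ A).hom := isProper_tensor_av _ _
  haveI : GeometricallyIntegral (A ⊗ A ⊗ A).hom := MaxAbelian.geometricallyIntegral_tensor A _
  haveI : IsProper (A ⊗ A ⊗ A ⊗ A).hom := isProper_tensor_av _ _
  haveI : GeometricallyIntegral (A ⊗ A ⊗ A ⊗ A).hom := MaxAbelian.geometricallyIntegral_tensor A _
  haveI : IsCommMonObj (A ⊗ A ⊗ A ⊗ A) := isCommMonObj_of_isProper_of_geometricallyIntegral _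
  obtain ⟨d, -, hd⟩ := AVPair.exists_inv (⟨L, rfl, hL.1⟩ : PicF.IsInvertibleCl (PicF.cl L))
  have hl : PicF.IsInvertibleCl (PicF.cl L) := ⟨L, rfl, hL.1⟩
  have hp : ∀ (p : A ⊗ A ⊗ A ⊗ A ⟶ A) [IsMonHom p],
      pl (𝟙 (A ⊗ A ⊗ A ⊗ A))⁻¹ (pl p (PicF.cl L)) = pl p (PicF.cl L) := fun p _ => by
    rw [pl_pl, GrpObj.inv_comp, Category.id_comp, show p⁻¹ = p ≫ (𝟙 A)⁻¹ by rw [GrpObj.comp_inv, Category.comp_id],
      ← pl_pl, hsym]
  refine exists_zarhin_ample (isAmple_pow4' hL) (cl_pow4_mul' hd) ?_ ?_ hg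
  · rw [cl_pow4', map_mul, map_mul, map_mul, hp p₁, hp p₂, hp p₃, hp p₄]
  intro n
  obtain ⟨a, b, c, e, hn⟩ := Nat.sum_four_squares n
  have hm : IsMonHom (quat (a : ℤ) b c e : A ⊗ A ⊗ A ⊗ A ⟶ A ⊗ A ⊗ A ⊗ A) :=
    GrpSchLib.RigidHom.isMonHom_of_one _ (by
      have h1 : ∀ p : A ⊗ A ⊗ A ⊗ A ⟶ A, IsMonHom p → (η[A ⊗ A ⊗ A ⊗ A] : 𝟙_ _ ⟶ _) ≫ p = 1 := fun p hp => by
        rw [IsMonHom.one_hom p, Hom.one_def, toUnit_unique (toUnit _) (𝟙 _), Category.id_comp]
      obtain ⟨e1, e2, e3, e4⟩ := comp_quat (a : ℤ) b c e (η[A ⊗ A ⊗ A ⊗ A] : 𝟙_ _ ⟶ _)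
      simp only [h1 p₁ inferInstance, h1 p₂ inferInstance, h1 p₃ inferInstance, h1 p₄ inferInstance, comb, one_zpow,
        _root_.mul_one] at e1 e2 e3 e4
      refine four_ext ?_ ?_ ?_ ?_ <;> rw [Category.assoc]
      exacts [e1.trans (h1 _ inferInstance).symm, e2.trans (h1 _ inferInstance).symm,
        e3.trans (h1 _ inferInstance).symm, e4.trans (h1 _ inferInstance).symm])
  refine ⟨quat (a : ℤ) b c e, quat (a : ℤ) (-b) (-c) (-e), hm, ?_, fun T x y => ?_⟩
  · have hsum : ((a : ℤ) ^ 2 + (b : ℤ) ^ 2 + (c : ℤ) ^ 2 + (e : ℤ) ^ 2) = (n : ℤ) := by exact_mod_cast hn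
    obtain ⟨u1, u2, u3, u4⟩ := comp_quat (a : ℤ) b c e (𝟙 (A ⊗ A ⊗ A ⊗ A))
    obtain ⟨v1, v2, v3, v4⟩ := comp_quat (a : ℤ) (-b) (-c) (-e) (quat (a : ℤ) b c e : A ⊗ A ⊗ A ⊗ A ⟶ _)
    simp only [Category.id_comp] at u1 u2 u3 u4
    obtain ⟨q1, q2, q3, q4⟩ := quat_conj (a : ℤ) b c e
      (Additive.ofMul (p₁ : A ⊗ A ⊗ A ⊗ A ⟶ A)) (Additive.ofMul p₂) (Additive.ofMul p₃) (Additive.ofMul p₄)
    have hpn : ∀ (p : A ⊗ A ⊗ A ⊗ A ⟶ A) [IsMonHom p],
        ((𝟙 (A ⊗ A ⊗ A ⊗ A)) ^ n : A ⊗ A ⊗ A ⊗ A ⟶ _) ≫ p = p ^ (n : ℤ) := fun p _ => by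
      rw [MonObj.pow_comp, Category.id_comp, zpow_natCast]
    refine four_ext ?_ ?_ ?_ ?_ <;> rw [Category.assoc, hpn]
    · rw [v1, u1, u2, u3, u4, ← hsum]
      exact Additive.ofMul.injective (by simpa only [comb, ofMul_mul, ofMul_zpow] using q1)
    · rw [v2, u1, u2, u3, u4, ← hsum]
      exact Additive.ofMul.injective (by simpa only [comb, ofMul_mul, ofMul_zpow] using q2)
    · rw [v3, u1, u2, u3, u4, ← hsum]
      exact Additive.ofMul.injective (by simpa only [comb, ofMul_mul, ofMul_zpow] using q3)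
    · rw [v4, u1, u2, u3, u4, ← hsum]
      exact Additive.ofMul.injective (by simpa only [comb, ofMul_mul, ofMul_zpow] using q4)
  · rw [E_pow4', E_pow4']
    obtain ⟨u1, u2, u3, u4⟩ := comp_quat (a : ℤ) b c e x
    obtain ⟨v1, v2, v3, v4⟩ := comp_quat (a : ℤ) (-b) (-c) (-e) y
    simp only [Category.assoc]
    rw [u1, u2, u3, u4, v1, v2, v3, v4]
    simp only [← val_EA hl hd, ← Units.val_mul, ← toMul_add]
    congr 2
    simp only [comb, ofMul_mul, ofMul_zpow]
    exact adjoint_identity _ _ _ _ _ _ _ _ _ _ _ _ _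

end Four

end Groth.Agent.TateIsog
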