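import Groth.Agent.S5700
import Groth.Agent.LineDescQ.PicDescent
import Groth.Agent.LineDesc.DisjointMod
import Groth.Agent.SeesawGen.ProductPic
import Groth.Agent.ASBunLib.GalTensor
import Groth.Agent.ParaFX.TrivDesc
import Groth.Agent.PicBnd.AlgLim
import Groth.Agent.S4788
import Groth.Prelude.Def_PicF2
import Mathlib.FieldTheory.Galois.Basic
import Mathlib.FieldTheory.Galois.GaloisClosure
import Groth.Agent.PicBnd.Descend

/-!
# Galois descent of invertible classes
-/

noncomputable section

set_option linter.style.haveILetI false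
set_option linter.unusedSectionVars false
set_option backward.isDefEq.respectTransparency false
set_option backward.isDefEq.respectTransparency.types false
set_option maxHeartbeats 1000000
set_option autoImplicit false

universe u

open CategoryTheory CategoryTheory.Limits AlgebraicGeometry TopologicalSpace
open scoped TensorProduct

namespace Groth.Agent.TateIsog

open Groth.Agent
open scoped Groth.Agent.H23.PicMul

variable {k : Type u} [Field k] {X : Scheme.{u}} (f : X ⟶ Spec (CommRingCat.of k))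

/-- The structure map of a `k`-algebra. -/
abbrev sp (k : Type u) [Field k] (R : Type u) [CommRing R] [Algebra k R] :
    Spec (CommRingCat.of R) ⟶ Spec (CommRingCat.of k) :=
  Spec.map (CommRingCat.ofHom (algebraMap k R))

/-- The change of algebras. -/
def bcMap {R R' : Type u} [CommRing R] [Algebra k R] [CommRing R'] [Algebra k R'] (φ : R →ₐ[k] R') :
    pullback f (sp k R') ⟶ pullback f (sp k R) :=
  pullback.map f (sp k R') f (sp k R) (𝟙 X) (Spec.map (CommRingCat.ofHom φ.toRingHom)) (𝟙 _) (by simp)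
    (by rw [Category.comp_id, sp, sp, ← Spec.map_comp, ← CommRingCat.ofHom_comp]; congr 2; ext x
        exact (φ.commutes x).symm)

theorem bcMap_fst {R R' : Type u} [CommRing R] [Algebra k R] [CommRing R'] [Algebra k R'] (φ : R →ₐ[k] R') :
    bcMap f φ ≫ pullback.fst f (sp k R) = pullback.fst f (sp k R') :=
  (pullback.lift_fst _ _ _).trans (Category.comp_id _)

theorem bcMap_snd {R R' : Type u} [CommRing R] [Algebra k R] [CommRing R'] [Algebra k R'] (φ : R →ₐ[k] R') :
    bcMap f φ ≫ pullback.snd f (sp k R) = pullback.snd f (sp k R') ≫ Spec.map (CommRingCat.ofHom φ.toRingHom) :=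
  pullback.lift_snd _ _ _

theorem bcMap_comp {R R' R'' : Type u} [CommRing R] [Algebra k R] [CommRing R'] [Algebra k R'] [CommRing R'']
    [Algebra k R''] (φ : R →ₐ[k] R') (ψ : R' →ₐ[k] R'') : bcMap f ψ ≫ bcMap f φ = bcMap f (ψ.comp φ) := by
  refine pullback.hom_ext ?_ ?_
  · rw [Category.assoc, bcMap_fst, bcMap_fst, bcMap_fst]
  · rw [Category.assoc, bcMap_snd, bcMap_snd, ← Category.assoc, bcMap_snd, Category.assoc, ← Spec.map_comp]
    rfl

theorem bcMap_id (R : Type u) [CommRing R] [Algebra k R] : bcMap f (AlgHom.id k R) = 𝟙 _ := by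
  refine pullback.hom_ext ?_ ?_
  · rw [bcMap_fst, Category.id_comp]
  · rw [bcMap_snd, Category.id_comp]
    exact (congrArg (pullback.snd f (sp k R) ≫ ·) (Spec.map_id _)).trans (Category.comp_id _)

theorem twistAut_eq {K : Type u} [Field K] [Algebra k K] (σ : K ≃ₐ[k] K) :
    PicF2.twistAut f σ = bcMap f σ.toAlgHom := rfl

theorem isPullback_bcMap {R R' : Type u} [CommRing R] [Algebra k R] [CommRing R'] [Algebra k R'] (φ : R →ₐ[k] R') :
    IsPullback (bcMap f φ) (pullback.snd f (sp k R')) (pullback.snd f (sp k R))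
      (Spec.map (CommRingCat.ofHom φ.toRingHom)) := by
  refine IsPullback.of_right ?_ (bcMap_snd f φ) (IsPullback.of_hasPullback f (sp k R))
  have h : Spec.map (CommRingCat.ofHom φ.toRingHom) ≫ sp k R = sp k R' := by
    rw [sp, sp, ← Spec.map_comp, ← CommRingCat.ofHom_comp]; congr 2; ext x; exact φ.commutes x
  rw [bcMap_fst, h]
  exact IsPullback.of_hasPullback f (sp k R')

theorem flat_surj_qc_bcMap {K K' : Type u} [Field K] [Algebra k K] [Field K'] [Algebra k K'] (φ : K →ₐ[k] K') :
    Flat (bcMap f φ) ∧ Surjective (bcMap f φ) ∧ QuasiCompact (bcMap f φ) := by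
  haveI : Surjective (Spec.map (CommRingCat.ofHom φ.toRingHom)) := ⟨fun x => ⟨IsLocalRing.closedPoint K',
    Subsingleton.elim (α := PrimeSpectrum K) _ _⟩⟩
  haveI : Flat (Spec.map (CommRingCat.ofHom φ.toRingHom)) := by
    exact GrpSchLib.flat_spec_map_field φ.toRingHom
  have h := (isPullback_bcMap f φ).flip
  exact ⟨MorphismProperty.of_isPullback h inferInstance, MorphismProperty.of_isPullback h inferInstance,
    MorphismProperty.of_isPullback h inferInstance⟩

/-- The components of the spectrum of a power of a ring are open. -/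
theorem isOpenImmersion_eval (ι K : Type u) [CommRing K] (i : ι) :
    IsOpenImmersion (Spec.map (CommRingCat.ofHom (Pi.evalRingHom (fun _ : ι => K) i))) := by
  classical
  let := (Pi.evalRingHom (fun _ : ι => K) i).toAlgebra
  have : IsLocalization.Away (Function.update (β := fun _ : ι => K) 0 i 1) K := by
    apply IsLocalization.away_of_isIdempotentElem_of_mul
    · ext j; by_cases h : j = i <;> aesop
    · intro x y
      constructor
      · intro e; ext j; by_cases h : j = i <;> aesop
      · intro e; simpa using! congr_fun e i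
    · exact Function.surjective_eval _
  exact IsOpenImmersion.of_isLocalization (Function.update (β := fun _ : ι => K) 0 i 1)

section Connected

variable [CompactSpace X] [QuasiSeparatedSpace X] [IsIso f.appTop]

/-- Constants are the only functions after any base change. -/
theorem bijective_appTop_bc (Z : Scheme.{u}) (z : Z ⟶ Spec (CommRingCat.of k)) :
    Function.Bijective (pullback.snd f z).appTop := by
  haveI : QuasiSeparated f := QuasiSeparated.of_quasiSeparatedSpace f
  haveI : QuasiCompact f := AlgebraicGeometry.quasiCompact_of_compactSpace f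
  haveI : Flat z := inferInstance
  refine FlatMisc.bijective_app_of_isBasis (pullback.snd f z) (B := {W | IsAffineOpen W}) ?_ ?_ ⊤
  · exact Z.isBasis_affineOpens
  intro W hW
  have hV : IsAffineOpen (⊤ : (Spec (CommRingCat.of k)).Opens) := isAffineOpen_top _
  have hY : pullback.snd f z ⁻¹ᵁ W = pullback.fst f z ⁻¹ᵁ (f ⁻¹ᵁ ⊤) ⊓ pullback.snd f z ⁻¹ᵁ W := by
    simp only [Scheme.Hom.preimage_top, top_inf_eq]
  have hiso := isIso_pushoutSection_of_isQuasiSeparated_of_flat_right (IsPullback.of_hasPullback f z)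
    (US := ⊤) (UT := W) (UX := f ⁻¹ᵁ ⊤) le_top le_rfl hY hV hW
    (f.isCompact_preimage hV.isCompact) (f.isQuasiSeparated_preimage hV.isQuasiSeparated)
  rw [isIso_pushoutSection_iff] at hiso
  haveI h1 : IsIso (f.appLE ⊤ (f ⁻¹ᵁ ⊤) le_rfl) := by
    rw [← Scheme.Hom.app_eq_appLE]; exact ‹IsIso f.appTop›
  haveI := hiso.isIso_inr_of_isIso h1
  rw [Scheme.Hom.app_eq_appLE]
  exact ConcreteCategory.bijective_of_isIso ((pullback.snd f z).appLE W (pullback.snd f z ⁻¹ᵁ W) le_rfl)

/-- Pullback of invertible classes along a field extension is injective. -/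
theorem injective_bcMap {K K' : Type u} [Field K] [Algebra k K] [Field K'] [Algebra k K'] (φ : K →ₐ[k] K')
    {c c' : PicF.Cl (pullback f (sp k K))} (hc : PicF.IsInvertibleCl c) (hc' : PicF.IsInvertibleCl c')
    (h : PicF.pullCl (bcMap f φ) c = PicF.pullCl (bcMap f φ) c') : c = c' := by
  obtain ⟨b, hb⟩ := H23.PicMul.exists_inv ⟨c', hc'⟩
  replace hb : b.1 * c' = 1 := hb
  suffices h1 : c * b.1 = 1 by
    calc c = c * (b.1 * c') := by rw [hb, _root_.mul_one]
      _ = (c * b.1) * c' := (_root_.mul_assoc _ _ _).symm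
      _ = c' := by rw [h1, _root_.one_mul]
  have ht : PicF.pullCl (bcMap f φ) (c * b.1) = 1 := by
    rw [H23.PicMul.pullCl_mul, h, ← H23.PicMul.pullCl_mul, _root_.mul_comm, hb, H23.PicMul.pullCl_one]
  obtain ⟨M, hM, hMi⟩ := H23.PicMul.isInvertibleCl_mul hc b.2
  rw [← hM] at ht ⊢
  clear h hb hM
  -- descend the triviality
  let t := Spec.map (CommRingCat.ofHom φ.toRingHom)
  let g := pullback.snd f (sp k K)
  haveI : Surjective t := ⟨fun x => ⟨IsLocalRing.closedPoint K', Subsingleton.elim (α := PrimeSpectrum K) _ _⟩⟩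
  haveI : Flat t := by
    exact GrpSchLib.flat_spec_map_field φ.toRingHom
  let i : pullback g t ⟶ pullback f (sp k K') := (isPullback_bcMap f φ).isoPullback.inv
  have hi : i ≫ bcMap f φ = pullback.fst g t := (isPullback_bcMap f φ).isoPullback_inv_fst
  have hfst : PicF.cl ((Scheme.Modules.pullback (pullback.snd g t)).obj (Coh.structureModule (Spec (CommRingCat.of K')))) =
      PicF.cl ((Scheme.Modules.pullback (pullback.fst g t)).obj M) := by
    show PicF.pullCl _ (PicF.cl (Coh.structureModule _)) = PicF.pullCl _ (PicF.cl M)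
    rw [← hi, ← PicClLib.pullCl_comp, ht, H23.PicMul.pullCl_one]
    exact H23.PicMul.pullCl_one _
  obtain ⟨e⟩ := (PicGrp.cl_eq_cl_iff _ _).1 hfst
  let E : LineDescQ.upPr g t ⟶ (⟨pullback f (sp k K), M⟩ : ThetaLib.Pr.{u}) := ThetaLib.mkH (pullback.fst g t) e.hom
  haveI : IsIso (ThetaLib.fib E) := inferInstanceAs (IsIso e.hom)
  have ha : ∀ (Z : Scheme.{u}) (z : Z ⟶ Spec (CommRingCat.of K)), Function.Bijective (pullback.snd g z).appTop := by
    intro Z z
    let j := pullbackLeftPullbackSndIso f (sp k K) z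
    have hj : pullback.snd g z = j.hom ≫ pullback.snd f (z ≫ sp k K) :=
      (pullbackLeftPullbackSndIso_hom_snd f (sp k K) z).symm
    rw [hj, Scheme.Hom.comp_appTop]
    exact (ConcreteCategory.bijective_of_isIso j.hom.appTop).comp (bijective_appTop_bc f Z (z ≫ sp k K))
  obtain ⟨N, hN, hMN⟩ := LineDescQ.exists_of_triv (f := g) (h := t) E rfl ha hMi
  rw [hMN]
  show PicF.pullCl g (PicF.cl N) = 1
  rw [SeesawGen.cl_eq_one_of_field ⟨N, rfl, hN⟩, H23.PicMul.pullCl_one]

variable (x : Spec (CommRingCat.of k) ⟶ X) (hx : x ≫ f = 𝟙 _)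

include x hx in
/-- **Descent along a finite Galois extension.** -/
theorem exists_descent_finite {K : Type u} [Field K] [Algebra k K] [FiniteDimensional k K] [IsGalois k K]
    (d : PicF.Cl (pullback f (sp k K))) (hd : PicF.IsInvertibleCl d)
    (hfix : ∀ σ : K ≃ₐ[k] K, PicF.pullCl (bcMap f σ.toAlgHom) d = d) :
    ∃ c : PicF.Cl X, PicF.IsInvertibleCl c ∧ PicF.pullCl (pullback.fst f (sp k K)) c = d := by
  classical
  let g := sp k K
  let S := Spec (CommRingCat.of k)
  haveI : Surjective g := ⟨fun x => ⟨IsLocalRing.closedPoint K, Subsingleton.elim (α := PrimeSpectrum k) _ _⟩⟩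
  haveI : Flat g := inferInstance
  let T : Over S := Over.mk (𝟙 S)
  let u : Spec (CommRingCat.of K) ⟶ T.left := g
  haveI : Flat T.hom := inferInstanceAs (Flat (𝟙 S))
  haveI : Flat u := ‹Flat g›
  haveI : Surjective u := ‹Surjective g›
  haveI : QuasiCompact u := inferInstanceAs (QuasiCompact g)
  have ha : ∀ (Z : Scheme.{u}) (z : Z ⟶ S), Flat z → Function.Bijective (pullback.snd f z).appTop :=
    fun Z z _ => bijective_appTop_bc f Z z
  let U1 := LineDescQ.Rig.U1 (T := T) u
  let U2 := LineDescQ.Rig.U2 (T := T) u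
  have hU1 : U1.hom = g := Category.comp_id g
  let e1 : PicF.XT f U1 ⟶ pullback f g := (pullback.congrHom rfl hU1).hom
  haveI : IsIso e1 := inferInstanceAs (IsIso (pullback.congrHom rfl hU1).hom)
  have e1fst : e1 ≫ pullback.fst f g = pullback.fst f U1.hom :=
    (pullback.lift_fst _ _ _).trans (Category.comp_id _)
  have e1snd : e1 ≫ pullback.snd f g = pullback.snd f U1.hom := (pullback.lift_snd _ _ _).trans (Category.comp_id _)
  let c' : PicF.Rig f x hx U1 := ⟨PicF.pullCl e1 d, PicLoc.isInvertibleCl_pullCl e1 hd, by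
    show PicF.pullCl (PicF.secT f x hx U1) (PicF.pullCl e1 d) = 1
    exact SeesawGen.cl_eq_one_of_field (PicLoc.isInvertibleCl_pullCl _ (PicLoc.isInvertibleCl_pullCl e1 hd))⟩
  -- the components of the double cover
  let Φ : (K ⊗[k] K) →+* ((K ≃ₐ[k] K) → K) :=
    { toFun := ASBunLib.galTensorMap k K K
      map_one' := funext fun σ => by
        rw [Algebra.TensorProduct.one_def, ASBunLib.galTensorMap_tmul, map_one, smul_eq_mul, _root_.mul_one]; rfl
      map_zero' := map_zero _
      map_add' := map_add _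
      map_mul' := fun a b => by
        induction a using TensorProduct.induction_on with
        | zero => rw [zero_mul, map_zero, zero_mul]
        | add a a' h h' => rw [add_mul, map_add, h, h', map_add, add_mul]
        | tmul p q =>
          induction b using TensorProduct.induction_on with
          | zero => rw [mul_zero, map_zero, mul_zero]
          | add b b' h h' => rw [mul_add, map_add, h, h', map_add, mul_add]
          | tmul r s =>
            funext σ
            rw [Algebra.TensorProduct.tmul_mul_tmul, Pi.mul_apply, ASBunLib.galTensorMap_tmul,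
              ASBunLib.galTensorMap_tmul, ASBunLib.galTensorMap_tmul, smul_eq_mul, smul_eq_mul, smul_eq_mul, map_mul]
            ring }
  have hΦ : Function.Bijective Φ := ASBunLib.bijective_galTensorMap k K K
  let Φi := RingEquiv.ofBijective Φ hΦ
  haveI : IsIso (CommRingCat.ofHom Φ) := (ConcreteCategory.isIso_iff_bijective _).2 hΦ
  let ev : (K ≃ₐ[k] K) → (Spec (CommRingCat.of K) ⟶ Spec (CommRingCat.of ((K ≃ₐ[k] K) → K))) := fun σ =>
    Spec.map (CommRingCat.ofHom (Pi.evalRingHom (fun _ : K ≃ₐ[k] K => K) σ))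
  let iso : Spec (CommRingCat.of ((K ≃ₐ[k] K) → K)) ⟶ pullback g g :=
    Spec.map (CommRingCat.ofHom Φ) ≫ (pullbackSpecIso k K K).inv
  let j : (K ≃ₐ[k] K) → (Spec (CommRingCat.of K) ⟶ pullback g g) := fun σ => ev σ ≫ iso
  have hj1 : ∀ σ, j σ ≫ pullback.fst g g = Spec.map (CommRingCat.ofHom σ.toAlgHom.toRingHom) := fun σ => by
    simp only [j, iso, ev, Category.assoc]
    rw [show (pullbackSpecIso k K K).inv ≫ pullback.fst g g =
      Spec.map (CommRingCat.ofHom Algebra.TensorProduct.includeLeftRingHom) from pullbackSpecIso_inv_fst k K K,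
      ← Spec.map_comp, ← Spec.map_comp]
    congr 1
    ext a
    show ASBunLib.galTensorMap k K K (a ⊗ₜ 1) σ = σ a
    rw [ASBunLib.galTensorMap_tmul, smul_eq_mul, _root_.mul_one]
  have hj2 : ∀ σ, j σ ≫ pullback.snd g g = 𝟙 _ := fun σ => by
    simp only [j, iso, ev, Category.assoc]
    rw [show (pullbackSpecIso k K K).inv ≫ pullback.snd g g =
      Spec.map (CommRingCat.ofHom (Algebra.TensorProduct.includeRight (R := k) (A := K) (B := K)).toRingHom) from
        pullbackSpecIso_inv_snd k K K,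
      ← Spec.map_comp, ← Spec.map_comp, ← Spec.map_id]
    congr 1
    ext a
    show ASBunLib.galTensorMap k K K (1 ⊗ₜ a) σ = a
    rw [ASBunLib.galTensorMap_tmul, map_one, one_smul]
  haveI : IsIso (Spec.map (CommRingCat.ofHom Φ)) := inferInstance
  haveI : IsIso iso := IsIso.comp_isIso' inferInstance inferInstance
  haveI : ∀ σ, IsOpenImmersion (ev σ) := fun σ => isOpenImmersion_eval (K ≃ₐ[k] K) K σ
  haveI hjop : ∀ σ, IsOpenImmersion (j σ) := fun σ => inferInstanceAs (IsOpenImmersion (_ ≫ _))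
  haveI : Finite (K ≃ₐ[k] K) := inferInstance
  have hevcov : ∀ p : Spec (CommRingCat.of ((K ≃ₐ[k] K) → K)), ∃ σ, p ∈ Set.range (ev σ) := fun p => by
    obtain ⟨σ, q, hq⟩ := PrimeSpectrum.exists_comap_evalRingHom_eq p
    exact ⟨σ, q, hq⟩
  have hevdisj : ∀ σ τ, σ ≠ τ → ∀ a b, ev σ a ≠ ev τ b := fun σ τ hne a b he => by
    have h1 : (Pi.single τ 1 : (K ≃ₐ[k] K) → K) ∈ (ev σ a).asIdeal := by
      show Pi.single (M := fun _ => K) τ 1 σ ∈ a.asIdeal
      rw [Pi.single_eq_of_ne hne]
      exact a.asIdeal.zero_mem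
    rw [he] at h1
    have h2 : (Pi.single (M := fun _ : K ≃ₐ[k] K => K) τ (1 : K)) τ ∈ b.asIdeal := h1
    rw [Pi.single_eq_same] at h2
    exact b.isPrime.ne_top ((Ideal.eq_top_iff_one _).2 h2)
  -- gluing
  have hglue : PicF.pullCl (PicF.XTmap f (LineDescQ.Rig.p1 (T := T) u)) c'.1 =
      PicF.pullCl (PicF.XTmap f (LineDescQ.Rig.p2 (T := T) u)) c'.1 := by
    have hU2 : U2.hom = pullback.fst g g ≫ g := congrArg (pullback.fst g g ≫ ·) (Category.comp_id g)
    have hw : ∀ σ, j σ ≫ U2.hom = g := fun σ => by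
      rw [hU2, ← Category.assoc, hj1]
      show Spec.map _ ≫ sp k K = sp k K
      rw [sp, ← Spec.map_comp, ← CommRingCat.ofHom_comp]; congr 2; ext a; exact σ.commutes a
    let J : (K ≃ₐ[k] K) → (pullback f g ⟶ PicF.XT f U2) := fun σ =>
      pullback.map f g f U2.hom (𝟙 X) (j σ) (𝟙 _) (by simp) (by rw [Category.comp_id, hw])
    have hJsnd : ∀ σ, J σ ≫ pullback.snd f U2.hom = pullback.snd f g ≫ j σ := fun σ => pullback.lift_snd _ _ _
    have hJfst : ∀ σ, J σ ≫ pullback.fst f U2.hom = pullback.fst f g := fun σ =>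
      (pullback.lift_fst _ _ _).trans (Category.comp_id _)
    have hJpb : ∀ σ, IsPullback (J σ) (pullback.snd f g) (pullback.snd f U2.hom) (j σ) := fun σ => by
      refine IsPullback.of_right ?_ (hJsnd σ) (IsPullback.of_hasPullback f U2.hom)
      rw [hJfst, hw]
      exact IsPullback.of_hasPullback f g
    haveI : ∀ σ, IsOpenImmersion (J σ) := fun σ => MorphismProperty.of_isPullback (hJpb σ).flip (hjop σ)
    have hrange : ∀ σ, Set.range (J σ) = (pullback.snd f U2.hom) ⁻¹' Set.range (j σ) := fun σ => by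
      rw [← (hJpb σ).isoPullback_hom_fst, Scheme.Hom.comp_base, TopCat.coe_comp, Set.range_comp,
        Set.range_eq_univ.2 (hJpb σ).isoPullback.hom.surjective, Set.image_univ]
      exact Scheme.Pullback.range_fst _ _
    have hjinj : ∀ σ τ a b, j σ a = j τ b → ev σ a = ev τ b := fun σ τ a b h => iso.homeomorph.injective h
    obtain ⟨L', hL'⟩ : ∃ L' : (PicF.XT f U1).Modules, PicF.cl L' = c'.1 := c'.2.1.imp fun _ h => h.1
    rw [← hL']
    refine LineDesc.cl_eq_of_disjoint J (fun p => ?_) (fun σ τ hne => ?_) fun σ => ?_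
    · obtain ⟨σ, a, ha'⟩ : ∃ σ a, j σ a = pullback.snd f U2.hom p := by
        obtain ⟨q, hq⟩ := iso.homeomorph.surjective (pullback.snd f U2.hom p)
        obtain ⟨σ, a, rfl⟩ := hevcov q
        exact ⟨σ, a, hq⟩
      exact ⟨σ, show p ∈ Set.range (J σ) from hrange σ ▸ ⟨a, ha'⟩⟩
    · refine disjoint_iff_inf_le.2 fun p hp => ?_
      have h1 : p ∈ Set.range (J σ) := hp.1
      have h2 : p ∈ Set.range (J τ) := hp.2
      rw [hrange] at h1 h2
      obtain ⟨a, ha1⟩ := h1
      obtain ⟨b, hb1⟩ := h2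
      exact absurd (hjinj σ τ a b (ha1.trans hb1.symm)) (hevdisj σ τ hne a b)
    · show PicF.pullCl (J σ) (PicF.pullCl (PicF.XTmap f (LineDescQ.Rig.p1 (T := T) u)) (PicF.cl L')) =
        PicF.pullCl (J σ) (PicF.pullCl (PicF.XTmap f (LineDescQ.Rig.p2 (T := T) u)) (PicF.cl L'))
      rw [hL']
      show PicF.pullCl (J σ) (PicF.pullCl _ (PicF.pullCl e1 d)) = PicF.pullCl (J σ) (PicF.pullCl _ (PicF.pullCl e1 d))
      rw [PicClLib.pullCl_comp, PicClLib.pullCl_comp, PicClLib.pullCl_comp, PicClLib.pullCl_comp]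
      have m1 : J σ ≫ PicF.XTmap f (LineDescQ.Rig.p1 (T := T) u) ≫ e1 = bcMap f σ.toAlgHom := by
        refine pullback.hom_ext ?_ ?_
        · rw [Category.assoc, Category.assoc, e1fst, bcMap_fst]
          exact (congrArg (J σ ≫ ·) (LineDescQ.Rig.XTmap_fst _)).trans (hJfst σ)
        · rw [Category.assoc, Category.assoc, e1snd, bcMap_snd]
          refine (congrArg (J σ ≫ ·) (LineDescQ.Rig.XTmap_snd _)).trans ?_
          rw [← Category.assoc, hJsnd, Category.assoc]
          exact congrArg (pullback.snd f g ≫ ·) (hj1 σ)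
      have m2 : J σ ≫ PicF.XTmap f (LineDescQ.Rig.p2 (T := T) u) ≫ e1 = 𝟙 _ := by
        refine pullback.hom_ext ?_ ?_
        · rw [Category.assoc, Category.assoc, e1fst, Category.id_comp]
          exact (congrArg (J σ ≫ ·) (LineDescQ.Rig.XTmap_fst _)).trans (hJfst σ)
        · rw [Category.assoc, Category.assoc, e1snd, Category.id_comp]
          refine (congrArg (J σ ≫ ·) (LineDescQ.Rig.XTmap_snd _)).trans ?_
          rw [← Category.assoc, hJsnd, Category.assoc]
          exact (congrArg (pullback.snd f g ≫ ·) (hj2 σ)).trans (Category.comp_id _)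
      rw [Category.assoc, Category.assoc, m1, m2, PicClLib.pullCl_id, hfix σ]
  obtain ⟨c, hc⟩ := LineDescQ.Rig.exists_rig ha u c' hglue
  let jj : X ⟶ PicF.XT f T := pullback.lift (𝟙 X) f
    (by rw [show T.hom = 𝟙 S from rfl, Category.id_comp]; exact (Category.comp_id f).symm)
  refine ⟨PicF.pullCl jj c.1, PicLoc.isInvertibleCl_pullCl jj c.2.1, ?_⟩
  have mA : e1 ≫ pullback.fst f g ≫ jj = LineDescQ.Rig.cov (f := f) (T := T) u := by
    refine pullback.hom_ext ?_ ?_
    · simp only [jj, Category.assoc, pullback.lift_fst, Category.comp_id]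
      rw [e1fst]
      exact (LineDescQ.Rig.XTmap_fst _).symm
    · simp only [jj, Category.assoc, pullback.lift_snd, pullback.condition]
      rw [reassoc_of% e1snd]
      exact (LineDescQ.Rig.XTmap_snd (AbDual.ovrHom T u)).symm
  have h := congrArg (PicF.pullCl (inv e1)) hc
  rw [← mA, ← PicClLib.pullCl_comp, PicClLib.pullCl_comp (inv e1) e1, IsIso.inv_hom_id, PicClLib.pullCl_id,
    PicClLib.pullCl_comp (inv e1) e1, IsIso.inv_hom_id, PicClLib.pullCl_id] at h
  exact (PicClLib.pullCl_comp _ _ _).trans h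

include x hx in
/-- **Galois descent of invertible classes.** -/
theorem exists_descent {K : Type u} [Field K] [Algebra k K] [IsGalois k K]
    (d : PicF.Cl (pullback f (sp k K))) (hd : PicF.IsInvertibleCl d)
    (hfix : ∀ σ : K ≃ₐ[k] K, PicF.pullCl (bcMap f σ.toAlgHom) d = d) :
    ∃ c : PicF.Cl X, PicF.IsInvertibleCl c ∧ PicF.pullCl (pullback.fst f (sp k K)) c = d := by
  classical
  obtain ⟨L, rfl, hL⟩ := hd
  have hfp : CohB1.IsFP L := PicRep.isFP_of_isInvertible hL
  haveI : Coh.IsQCoh L := QCoh.isQCoh_of_isFP hfp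
  obtain ⟨s, -, F, hFq, hFfp, ⟨e⟩⟩ := S4788.result (PicBnd.AlgLim.diag k K f) (PicBnd.AlgLim.cone k K f)
    (PicBnd.AlgLim.isLimitCone k K f) (Opposite.op ∅) L hfp
  let K₀ := FiniteGaloisIntermediateField.adjoin k ((s.unop : Finset K) : Set K)
  have hle : PicBnd.AlgLim.sub k K s.unop ≤ K₀.toIntermediateField.toSubalgebra :=
    Algebra.adjoin_le (FiniteGaloisIntermediateField.subset_adjoin k _)
  let φ₀ : PicBnd.AlgLim.sub k K s.unop →ₐ[k] K₀ := Subalgebra.inclusion hle
  let v : K₀ →ₐ[k] K := K₀.toIntermediateField.val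
  have hproj : bcMap f v ≫ bcMap f φ₀ = (PicBnd.AlgLim.cone k K f).π.app s := by
    rw [bcMap_comp]
    refine pullback.hom_ext ?_ ?_
    · exact (bcMap_fst f _).trans (pullback.lift_fst _ _ _).symm
    · refine (bcMap_snd f _).trans ?_
      refine Eq.trans ?_ (pullback.lift_snd _ _ _).symm
      rfl
  let M := (Scheme.Modules.pullback (bcMap f φ₀)).obj F
  have hMd : PicF.pullCl (bcMap f v) (PicF.cl M) = PicF.cl L := by
    show PicF.pullCl (bcMap f v) (PicF.pullCl (bcMap f φ₀) (PicF.cl F)) = _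
    rw [PicClLib.pullCl_comp, hproj]
    exact (PicGrp.cl_eq_cl_iff _ _).2 ⟨e⟩
  obtain ⟨h1, h2, h3⟩ := flat_surj_qc_bcMap f v
  haveI := h1; haveI := h2; haveI := h3
  have hMi : PicF.IsInvertible M := by
    refine ParaFX.isInvertible_of_pullback (bcMap f v) (QCoh.isQCoh_pullback _ hFq) ?_
    obtain ⟨e'⟩ := (PicGrp.cl_eq_cl_iff _ _).1 hMd.symm
    exact H23.PicMul.isInvertible_of_iso e' hL
  obtain ⟨c, hc, hcd⟩ := exists_descent_finite f x hx (PicF.cl M) ⟨M, rfl, hMi⟩ fun σ => by
    let σ' : K ≃ₐ[k] K := σ.liftNormal K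
    have hcomm : σ'.toAlgHom.comp v = v.comp σ.toAlgHom := AlgHom.ext fun a => σ.liftNormal_commutes K a
    refine injective_bcMap f v (PicLoc.isInvertibleCl_pullCl _ ⟨M, rfl, hMi⟩) ⟨M, rfl, hMi⟩ ?_
    rw [PicClLib.pullCl_comp, bcMap_comp, ← hcomm, ← bcMap_comp, ← PicClLib.pullCl_comp, hMd, hfix]
  refine ⟨c, hc, ?_⟩
  rw [← hMd, ← hcd, PicClLib.pullCl_comp, bcMap_fst]

end Connected

end Groth.Agent.TateIsog
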