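import Groth.Agent.TateIsog.Frob
import Groth.Agent.TorsPtsLib.TateSpan
import Mathlib.RingTheory.Localization.Module
import Mathlib.RingTheory.IntegralClosure.IsIntegralClosure.Basic
import Mathlib.LinearAlgebra.Charpoly.Basic

/-!
# Tate's theorem for homomorphisms over a finite field
-/

noncomputable section

set_option autoImplicit false
set_option linter.style.haveILetI false
set_option linter.unusedSectionVars false
set_option backward.isDefEq.respectTransparency false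
set_option backward.isDefEq.respectTransparency.types false
set_option maxHeartbeats 1000000
set_option synthInstance.maxHeartbeats 200000

universe u

open CategoryTheory CategoryTheory.Limits MonoidalCategory CartesianMonoidalCategory MonObj GrpObj AlgebraicGeometry
open scoped TensorProduct

namespace Groth.Agent.TateIsog

open Groth.Agent Groth.Agent.H23

section Linear

variable (l : ℕ) [Fact l.Prime] {M N : Type*} [AddCommGroup M] [AddCommGroup N] [Module ℤ_[l] M] [Module ℤ_[l] N]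

theorem exists_pow_mul_eq (q : ℚ_[l]) : ∃ (s : ℕ) (z : ℤ_[l]), (l : ℚ_[l]) ^ s * q = z := by
  obtain ⟨s, t, h⟩ := exists_pow_smul_mem l (T := ℤ_[l]) (q ⊗ₜ[ℤ_[l]] (1 : ℤ_[l]))
  refine ⟨s, t, ?_⟩
  have h' := congrArg (TensorProduct.rid ℤ_[l] ℚ_[l]) h
  rw [TensorProduct.smul_tmul', TensorProduct.rid_tmul, TensorProduct.rid_tmul, one_smul, smul_eq_mul,
    Algebra.smul_def t, _root_.mul_one] at h'
  exact h'

theorem tmul_one_injective [Module.Free ℤ_[l] N] :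
    Function.Injective fun y : N => (1 : ℚ_[l]) ⊗ₜ[ℤ_[l]] y := fun y y' h => by
  let b := Module.Free.chooseBasis ℤ_[l] N
  refine b.repr.injective (Finsupp.ext fun i => ?_)
  have h' := congrArg (fun z => (Algebra.TensorProduct.basis ℚ_[l] b).repr z i) h
  simp only [Algebra.TensorProduct.basis_repr_tmul, Finsupp.smul_apply, Finsupp.mapRange_apply,
    smul_eq_mul, _root_.one_mul] at h'
  exact (IsFractionRing.injective ℤ_[l] ℚ_[l]) h'

theorem baseChange_injective [Module.Free ℤ_[l] N] :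
    Function.Injective fun u : M →ₗ[ℤ_[l]] N => u.baseChange ℚ_[l] := fun u v h =>
  LinearMap.ext fun x => tmul_one_injective l (by
    have h' := LinearMap.congr_fun h ((1 : ℚ_[l]) ⊗ₜ[ℤ_[l]] x)
    simp only [LinearMap.baseChange_tmul] at h'
    exact h')

theorem baseChange_pow_smul (s : ℕ) (u : M →ₗ[ℤ_[l]] N) :
    (((l : ℤ_[l]) ^ s) • u).baseChange ℚ_[l] = ((l : ℚ_[l]) ^ s) • u.baseChange ℚ_[l] := by
  rw [LinearMap.baseChange_smul, ← algebraMap_smul ℚ_[l] ((l : ℤ_[l]) ^ s), map_pow, map_natCast]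

/-- Clearing denominators in a span. -/
theorem exists_pow_smul_eq_baseChange (S : Set (M →ₗ[ℤ_[l]] N))
    {v : ℚ_[l] ⊗[ℤ_[l]] M →ₗ[ℚ_[l]] ℚ_[l] ⊗[ℤ_[l]] N}
    (hv : v ∈ Submodule.span ℚ_[l] ((fun u : M →ₗ[ℤ_[l]] N => u.baseChange ℚ_[l]) '' S)) :
    ∃ (s : ℕ), ∃ w ∈ Submodule.span ℤ_[l] S, ((l : ℚ_[l]) ^ s) • v = w.baseChange ℚ_[l] := by
  induction hv using Submodule.span_induction with
  | mem ψ hψ =>
    obtain ⟨u, hu, rfl⟩ := hψ
    exact ⟨0, u, Submodule.subset_span hu, by rw [pow_zero, one_smul]⟩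
  | zero => exact ⟨0, 0, zero_mem _, by rw [smul_zero, LinearMap.baseChange_zero]⟩
  | add a b _ _ ha hb =>
    obtain ⟨s, w, hw, hsw⟩ := ha
    obtain ⟨s', w', hw', hsw'⟩ := hb
    refine ⟨s + s', ((l : ℤ_[l]) ^ s') • w + ((l : ℤ_[l]) ^ s) • w',
      add_mem (Submodule.smul_mem _ _ hw) (Submodule.smul_mem _ _ hw'), ?_⟩
    rw [LinearMap.baseChange_add, baseChange_pow_smul, baseChange_pow_smul, ← hsw, ← hsw', smul_add,
      smul_smul, smul_smul, ← pow_add, ← pow_add, Nat.add_comm s' s]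
  | smul c a _ ha =>
    obtain ⟨s, w, hw, hsw⟩ := ha
    obtain ⟨t, z, hz⟩ := exists_pow_mul_eq l c
    refine ⟨t + s, z • w, Submodule.smul_mem _ _ hw, ?_⟩
    rw [LinearMap.baseChange_smul, ← algebraMap_smul ℚ_[l] z, ← hsw, PadicInt.algebraMap_apply, ← hz, smul_smul,
      smul_smul]
    congr 1
    ring

end Linear

variable {k Ω : Type u} [Field k] [Field Ω] [Algebra k Ω] [IsAlgClosure k Ω] (l : ℕ) [Fact l.Prime]

local notation "pΩ" => SGA7.pt (K := k) Ω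

/-- The integral homomorphism maps. -/
def homSetInt (A B : Over (Spec (CommRingCat.of k))) [GrpObj A] [IsCommMonObj A] [GrpObj B] [IsCommMonObj B] :
    Set (AbDual.TateMod A l pΩ →ₗ[ℤ_[l]] AbDual.TateMod B l pΩ) :=
  {v | ∃ (f : A ⟶ B) (_ : IsMonHom f), v = AbDual.tateMapₗ (l := l) (T := pΩ) f}

/-- The rational homomorphism maps. -/
def homSet (A B : Over (Spec (CommRingCat.of k))) [GrpObj A] [IsCommMonObj A] [GrpObj B] [IsCommMonObj B] :
    Set (ℚ_[l] ⊗[ℤ_[l]] AbDual.TateMod A l pΩ →ₗ[ℚ_[l]] ℚ_[l] ⊗[ℤ_[l]] AbDual.TateMod B l pΩ) :=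
  (fun u : AbDual.TateMod A l pΩ →ₗ[ℤ_[l]] AbDual.TateMod B l pΩ => u.baseChange ℚ_[l]) '' homSetInt l A B

theorem homSetInt_eq_range (A B : Over (Spec (CommRingCat.of k))) [GrpObj A] [IsCommMonObj A] [GrpObj B]
    [IsCommMonObj B] :
    homSetInt (Ω := Ω) l A B = Set.range (EndAV.Hom.tateMap (A := A) (B := B) l pΩ) := by
  ext v
  exact ⟨fun ⟨f, hf, h⟩ => ⟨EndAV.Hom.of f, h.symm⟩, fun ⟨φ, h⟩ => ⟨φ.toHom, inferInstance, h.symm⟩⟩

variable {A B : Over (Spec (CommRingCat.of k))} [GrpObj A] [IsCommMonObj A] [IsProper A.hom]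
  [GeometricallyIntegral A.hom] [GrpObj B] [IsCommMonObj B] [IsProper B.hom] [GeometricallyIntegral B.hom]

/-- **Tate's theorem, rational form.** -/
theorem hom_mem_span [Finite k] (hl : (l : k) ≠ 0)
    (φ : ℚ_[l] ⊗[ℤ_[l]] AbDual.TateMod A l pΩ →ₗ[ℚ_[l]] ℚ_[l] ⊗[ℤ_[l]] AbDual.TateMod B l pΩ)
    (hφ : ∀ τ : Ω ≃ₐ[k] Ω, φ ∘ₗ (gal l A τ).baseChange ℚ_[l] = (gal l B τ).baseChange ℚ_[l] ∘ₗ φ) :
    φ ∈ Submodule.span ℚ_[l] (homSet (Ω := Ω) l A B) := by
  haveI : IsProper (A ⊗ B).hom := isProper_tensor_av _ _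
  haveI : GeometricallyIntegral (A ⊗ B).hom := MaxAbelian.geometricallyIntegral_tensor A B
  haveI : IsCommMonObj (A ⊗ B) := isCommMonObj_of_isProper_of_geometricallyIntegral _
  haveI : IsProper ((A ⊗ B) ⊗ (A ⊗ B)).hom := isProper_tensor_av _ _
  haveI : GeometricallyIntegral ((A ⊗ B) ⊗ (A ⊗ B)).hom := MaxAbelian.geometricallyIntegral_tensor _ _
  let jA : A ⟶ A ⊗ B := lift (𝟙 A) 1
  let jB : B ⟶ A ⊗ B := lift 1 (𝟙 B)
  haveI : IsMonHom jA := GrpSchLib.RigidHom.isMonHom_of_one _ (by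
    apply CartesianMonoidalCategory.hom_ext <;> simp [jA, eta_eq_one, MonObj.comp_one, MonObj.one_comp])
  haveI : IsMonHom jB := GrpSchLib.RigidHom.isMonHom_of_one _ (by
    apply CartesianMonoidalCategory.hom_ext <;> simp [jB, eta_eq_one, MonObj.comp_one, MonObj.one_comp])
  have hn : ∀ {C D : Over (Spec (CommRingCat.of k))} [GrpObj C] [IsCommMonObj C] [GrpObj D] [IsCommMonObj D]
      (f : C ⟶ D) [IsMonHom f] (σ : Ω ≃ₐ[k] Ω) (v : ℚ_[l] ⊗[ℤ_[l]] AbDual.TateMod C l pΩ),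
      (AbDual.tateMapₗ (l := l) (T := pΩ) f).baseChange ℚ_[l] ((gal l C σ).baseChange ℚ_[l] v) =
        (gal l D σ).baseChange ℚ_[l] ((AbDual.tateMapₗ (l := l) (T := pΩ) f).baseChange ℚ_[l] v) := fun f _ σ v => by
    rw [← LinearMap.comp_apply, ← LinearMap.baseChange_comp, tate_gal, LinearMap.baseChange_comp]
    rfl
  let IA := (AbDual.tateMapₗ (l := l) (T := pΩ) jA).baseChange ℚ_[l]
  let IB := (AbDual.tateMapₗ (l := l) (T := pΩ) jB).baseChange ℚ_[l]
  let PA := (AbDual.tateMapₗ (l := l) (T := pΩ) (fst A B)).baseChange ℚ_[l]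
  let PB := (AbDual.tateMapₗ (l := l) (T := pΩ) (snd A B)).baseChange ℚ_[l]
  have e1 : ∀ v, PA (IA v) = v := fun v => by
    simp only [PA, IA]
    rw [← LinearMap.comp_apply, ← LinearMap.baseChange_comp, ← tate_comp, tate_eq_id l _ (lift_fst _ _),
      LinearMap.baseChange_id]
    rfl
  have e2 : ∀ v, PB (IB v) = v := fun v => by
    simp only [PB, IB]
    rw [← LinearMap.comp_apply, ← LinearMap.baseChange_comp, ← tate_comp, tate_eq_id l _ (lift_snd _ _),
      LinearMap.baseChange_id]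
    rfl
  have hmem := mem_span_of_rangeProp l (A ⊗ B) hl (rangeProp_of_finite l ((A ⊗ B) ⊗ (A ⊗ B)) hl)
    (IB ∘ₗ φ ∘ₗ PA) fun τ => LinearMap.ext fun v => by
      simp only [LinearMap.comp_apply, IB, PA]
      rw [hn, ← LinearMap.comp_apply φ, hφ, LinearMap.comp_apply, hn]
  have heq : φ = PB ∘ₗ (IB ∘ₗ φ ∘ₗ PA) ∘ₗ IA := LinearMap.ext fun v => by
    simp only [LinearMap.comp_apply, e1, e2]
  rw [heq]
  revert hmem
  generalize (IB ∘ₗ φ ∘ₗ PA : Module.End ℚ_[l] (ℚ_[l] ⊗[ℤ_[l]] AbDual.TateMod (A ⊗ B) l pΩ)) = U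
  intro hU
  induction hU using Submodule.span_induction with
  | mem ψ hψ =>
    obtain ⟨f, hf, rfl⟩ := hψ
    refine Submodule.subset_span ⟨_, ⟨(jA ≫ f) ≫ snd A B, inferInstance, rfl⟩, ?_⟩
    simp only [tate_comp, LinearMap.baseChange_comp, PB, IA]
  | zero => rw [LinearMap.zero_comp, LinearMap.comp_zero]; exact zero_mem _
  | add a b _ _ ha hb => rw [LinearMap.add_comp, LinearMap.comp_add]; exact add_mem ha hb
  | smul r a _ ha => rw [LinearMap.smul_comp, LinearMap.comp_smul]; exact Submodule.smul_mem _ r ha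

/-- **Tate's theorem, integral form.** -/
theorem hom_mem_span_int [Finite k] (hl : (l : k) ≠ 0)
    (u : AbDual.TateMod A l pΩ →ₗ[ℤ_[l]] AbDual.TateMod B l pΩ)
    (hu : ∀ τ : Ω ≃ₐ[k] Ω, u ∘ₗ gal l A τ = gal l B τ ∘ₗ u) :
    u ∈ Submodule.span ℤ_[l] (homSetInt (Ω := Ω) l A B) := by
  haveI := IsAlgClosure.isAlgClosed k (K := Ω)
  obtain ⟨g, hg⟩ := TorsPtsLib.exists_dim B
  obtain ⟨hfree, -, -⟩ := AVHomForm.tate_free Ω l hl B hg
  haveI := hfree
  obtain ⟨s, w, hw, hsw⟩ := exists_pow_smul_eq_baseChange l _ (hom_mem_span l hl (u.baseChange ℚ_[l]) fun τ => by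
    rw [← LinearMap.baseChange_comp, hu, LinearMap.baseChange_comp])
  have huw : ((l : ℤ_[l]) ^ s) • u = w := baseChange_injective l (by
    show (((l : ℤ_[l]) ^ s) • u).baseChange ℚ_[l] = _
    rw [baseChange_pow_smul]
    exact hsw)
  rw [homSetInt_eq_range] at hw ⊢
  exact TorsPtsLib.mem_span_tateMap A B l hl u s (huw ▸ hw)

end Groth.Agent.TateIsog
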