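import Groth.Agent.TateIsog.Limit
import Mathlib.LinearAlgebra.Semisimple
import Mathlib.LinearAlgebra.Charpoly.ToMatrix
import Mathlib.RingTheory.AdjoinRoot
import Mathlib.LinearAlgebra.Projection
import Mathlib.FieldTheory.Perfect

/-!
# Semisimple operators: similarity, intertwiners and the double commutant
-/

noncomputable section

set_option autoImplicit false
set_option linter.style.haveILetI false
set_option linter.unusedSectionVars false
set_option maxHeartbeats 1000000

open Polynomial UniqueFactorizationMonoid

namespace Groth.Agent.TateIsog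

section Split

variable {K : Type*} [Field K] [DecidableEq K] {V W : Type*} [AddCommGroup V] [Module K V] [AddCommGroup W] [Module K W]

/-- The maps intertwining two operators. -/
def inter (S : Module.End K V) (T : Module.End K W) : Submodule K (V →ₗ[K] W) where
  carrier := {φ | φ ∘ₗ S = T ∘ₗ φ}
  zero_mem' := by simp
  add_mem' {a b} ha hb := by
    simp only [Set.mem_setOf_eq] at ha hb ⊢
    rw [LinearMap.add_comp, LinearMap.comp_add, ha, hb]
  smul_mem' c a ha := by
    simp only [Set.mem_setOf_eq] at ha ⊢
    rw [LinearMap.smul_comp, LinearMap.comp_smul, ha]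

theorem mem_inter {S : Module.End K V} {T : Module.End K W} {φ : V →ₗ[K] W} :
    φ ∈ inter S T ↔ ∀ x, φ (S x) = T (φ x) :=
  ⟨fun h x => LinearMap.congr_fun h x, fun h => LinearMap.ext h⟩

theorem map_aeval_of_mem {S : Module.End K V} {T : Module.End K W} {φ : V →ₗ[K] W} (h : φ ∈ inter S T) (p : K[X])
    (x : V) : φ (aeval S p x) = aeval T p (φ x) := by
  induction p using Polynomial.induction_on generalizing x with
  | C a => simp [Module.algebraMap_end_apply]
  | add p q hp hq => simp [hp, hq]
  | monomial n a ih =>
    rw [pow_succ, ← mul_assoc, map_mul (aeval S) _ X, map_mul (aeval T) _ X, Module.End.mul_apply, Module.End.mul_apply,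
      aeval_X, aeval_X, ih,
      mem_inter.1 h]

theorem coe_aeval_restrict {T : Module.End K V} {p : Submodule K V} (h : ∀ x ∈ p, T x ∈ p) (q : K[X]) (x : p) :
    ((aeval (T.restrict h) q x : p) : V) = aeval T q (x : V) :=
  map_aeval_of_mem (S := T.restrict h) (T := T) (φ := p.subtype) (LinearMap.ext fun _ => rfl) q x

variable [FiniteDimensional K V]

/-- An irreducible factor with a vector killed by it. -/
theorem exists_cyclic (T : Module.End K V) [Nontrivial V] :
    ∃ (P : K[X]) (v : V), P.Monic ∧ Irreducible P ∧ v ≠ 0 ∧ aeval T P v = 0 := by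
  have hint : IsIntegral K T := Algebra.IsIntegral.isIntegral T
  obtain ⟨P, hP, hPm, r, hr⟩ := (minpoly K T).exists_monic_irreducible_factor (minpoly.not_isUnit K T)
    |>.imp fun P h => (⟨h.2.1, h.1, h.2.2⟩ : Irreducible P ∧ P.Monic ∧ P ∣ minpoly K T)
  have hr0 : aeval T r ≠ 0 := fun h0 => by
    have hle := degree_le_of_dvd (minpoly.dvd K T h0) (fun h => minpoly.ne_zero hint (by rw [hr, h, mul_zero]))
    rw [hr, degree_mul] at hle
    have h1 : 0 < P.degree := Polynomial.degree_pos_of_irreducible hP
    rcases eq_or_ne r 0 with h2 | h2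
    · exact minpoly.ne_zero hint (by rw [hr, h2, mul_zero])
    · rw [Polynomial.degree_eq_natDegree hP.ne_zero, Polynomial.degree_eq_natDegree h2] at hle
      rw [Polynomial.degree_eq_natDegree hP.ne_zero] at h1
      norm_cast at hle h1
      omega
  obtain ⟨u, hu⟩ : ∃ u, aeval T r u ≠ 0 := by
    by_contra h
    push Not at h
    exact hr0 (LinearMap.ext h)
  exact ⟨P, _, hPm, hP, hu, by rw [← Module.End.mul_apply, ← map_mul, ← hr, minpoly.aeval, LinearMap.zero_apply]⟩

/-- Splitting off a cyclic block. -/
theorem exists_cyclic_split {T : Module.End K V} (hT : T.IsSemisimple) {P : K[X]} (hPm : P.Monic) (hP : Irreducible P)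
    {v : V} (hv : v ≠ 0) (hPv : aeval T P v = 0) :
    ∃ (U U' : Submodule K V) (hU : ∀ x ∈ U, T x ∈ U) (hU' : ∀ x ∈ U', T x ∈ U'), IsCompl U U' ∧ v ∈ U ∧
      (∀ x ∈ U, ∃ p : K[X], x = aeval T p v) ∧ (∀ x ∈ U, aeval T P x = 0) ∧
      Module.finrank K U = P.natDegree ∧ Module.End.IsSemisimple (T.restrict hU') ∧
      normalizedFactors T.charpoly = P ::ₘ normalizedFactors (T.restrict hU').charpoly := by
  let L : K[X] →ₗ[K] V := (LinearMap.applyₗ v).comp (aeval T).toLinearMap
  have hLapp : ∀ p, L p = aeval T p v := fun p => rfl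
  have hker : LinearMap.ker L = (Ideal.span {P}).restrictScalars K := by
    refine le_antisymm (fun p hp => ?_) fun p hp => ?_
    · rw [Submodule.restrictScalars_mem, Ideal.mem_span_singleton]
      rw [LinearMap.mem_ker, hLapp] at hp
      by_contra hnd
      obtain ⟨a, b, hab⟩ := hP.coprime_iff_not_dvd.2 hnd
      refine hv ?_
      calc v = aeval T (a * P + b * p) v := by rw [hab, map_one, Module.End.one_apply]
        _ = 0 := by rw [map_add, map_mul, map_mul, LinearMap.add_apply, Module.End.mul_apply, Module.End.mul_apply,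
            hPv, hp, map_zero, map_zero, add_zero]
    · rw [Submodule.restrictScalars_mem, Ideal.mem_span_singleton] at hp
      obtain ⟨q, rfl⟩ := hp
      rw [LinearMap.mem_ker, hLapp, mul_comm, map_mul, Module.End.mul_apply, hPv, map_zero]
  have hU : ∀ x ∈ LinearMap.range L, T x ∈ LinearMap.range L := by
    rintro _ ⟨p, rfl⟩
    exact ⟨X * p, by rw [hLapp, hLapp, map_mul, aeval_X, Module.End.mul_apply]⟩
  obtain ⟨U', hU'm, hc⟩ := Module.End.isSemisimple_iff.1 hT (LinearMap.range L) hU
  have hU' : ∀ x ∈ U', T x ∈ U' := hU'm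
  have hgen : ∀ x ∈ LinearMap.range L, ∃ p : K[X], x = aeval T p v := fun x ⟨p, hp⟩ => ⟨p, hp.symm⟩
  have hkill : ∀ x ∈ LinearMap.range L, aeval T P x = 0 := by
    rintro _ ⟨p, rfl⟩
    rw [hLapp, ← Module.End.mul_apply, ← map_mul, mul_comm, map_mul, Module.End.mul_apply, hPv, map_zero]
  have hrank : Module.finrank K (LinearMap.range L) = P.natDegree := by
    rw [← (LinearMap.quotKerEquivRange L).finrank_eq, ← finrank_quotient_span_eq_natDegree (f := P)]
    exact ((Submodule.quotEquivOfEq _ _ hker).trans
      (Submodule.Quotient.restrictScalarsEquiv K (Ideal.span {P}))).finrank_eq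
  have hcp : (T.restrict hU).charpoly = P := by
    have hdvd : P ∣ (T.restrict hU).charpoly := by
      have h1 : (T.restrict hU).charpoly ∈ LinearMap.ker L := by
        have := coe_aeval_restrict hU (T.restrict hU).charpoly ⟨v, 1, by rw [hLapp, map_one, Module.End.one_apply]⟩
        rw [LinearMap.aeval_self_charpoly, LinearMap.zero_apply] at this
        rw [LinearMap.mem_ker, hLapp]
        exact this.symm
      rw [hker, Submodule.restrictScalars_mem, Ideal.mem_span_singleton] at h1
      exact h1
    exact Polynomial.eq_of_monic_of_dvd_of_natDegree_le hPm (LinearMap.charpoly_monic _) hdvd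
      (by rw [LinearMap.charpoly_natDegree, hrank])
  have hchar : T.charpoly = P * (T.restrict hU').charpoly := by
    rw [← hcp, ← LinearMap.charpoly_prodMap,
      ← LinearEquiv.charpoly_conj (Submodule.prodEquivOfIsCompl _ _ hc) (LinearMap.prodMap _ _)]
    congr 1
    refine LinearMap.ext fun x => ?_
    obtain ⟨⟨a, b⟩, rfl⟩ := (Submodule.prodEquivOfIsCompl _ _ hc).surjective x
    rw [LinearEquiv.conj_apply_apply, LinearEquiv.symm_apply_apply, Submodule.coe_prodEquivOfIsCompl',
      Submodule.coe_prodEquivOfIsCompl', map_add]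
    rfl
  refine ⟨LinearMap.range L, U', hU, hU', hc, ⟨1, by rw [hLapp, map_one, Module.End.one_apply]⟩, hgen, hkill, hrank,
    Module.End.IsSemisimple.restrict hU' hT, ?_⟩
  rw [hchar, normalizedFactors_mul hP.ne_zero (LinearMap.charpoly_monic _).ne_zero, normalizedFactors_irreducible hP,
    hPm.normalize_eq_self, Multiset.singleton_add]

theorem finrank_lt_of_isCompl {U U' : Submodule K V} (hc : IsCompl U U') {d : ℕ} (hd : 0 < d)
    (hU : Module.finrank K U = d) : Module.finrank K U' < Module.finrank K V := by
  have := Submodule.finrank_add_eq_of_isCompl hc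
  omega

/-- The kernel of an irreducible polynomial in a semisimple operator. -/
theorem finrank_ker_aeval {T : Module.End K V} (hT : T.IsSemisimple) {P : K[X]} (hPm : P.Monic) (hP : Irreducible P) :
    Module.finrank K (LinearMap.ker (aeval T P)) = (normalizedFactors T.charpoly).count P * P.natDegree := by
  induction hn : Module.finrank K V using Nat.strong_induction_on generalizing V with
  | _ n ih =>
    rcases subsingleton_or_nontrivial V with h | h
    · have hc : T.charpoly = 1 := (Polynomial.Monic.natDegree_eq_zero (LinearMap.charpoly_monic T)).1 (by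
        rw [LinearMap.charpoly_natDegree, Module.finrank_zero_of_subsingleton])
      rw [hc, normalizedFactors_one, Multiset.count_zero, Module.finrank_zero_of_subsingleton, zero_mul]
    obtain ⟨Q, v, hQm, hQ, hv, hQv⟩ := exists_cyclic T
    obtain ⟨U, U', hU, hU', hc, hvU, hgen, hkill, hrank, hss, hfac⟩ := exists_cyclic_split hT hQm hQ hv hQv
    have ih' := ih _ (hn ▸ finrank_lt_of_isCompl hc hQ.natDegree_pos hrank) hss rfl
    let e := Submodule.prodEquivOfIsCompl U U' hc
    have hmap : LinearMap.ker (aeval T P) =
        ((LinearMap.ker (aeval (T.restrict hU) P)).prod (LinearMap.ker (aeval (T.restrict hU') P))).map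
          e.toLinearMap := by
      ext x
      obtain ⟨⟨a, b⟩, rfl⟩ := e.surjective x
      rw [Submodule.mem_map_equiv, LinearEquiv.symm_apply_apply, Submodule.mem_prod, LinearMap.mem_ker,
        LinearMap.mem_ker, LinearMap.mem_ker, show e (a, b) = (a : V) + b from rfl, map_add,
        ← coe_aeval_restrict hU, ← coe_aeval_restrict hU']
      constructor
      · intro h
        have h' : e (aeval (T.restrict hU) P a, aeval (T.restrict hU') P b) = e (0, 0) := by
          rw [show e (aeval (T.restrict hU) P a, aeval (T.restrict hU') P b) = _ from rfl]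
          exact h.trans (add_zero (0 : V)).symm
        exact ⟨congrArg Prod.fst (e.injective h'), congrArg Prod.snd (e.injective h')⟩
      · rintro ⟨h1, h2⟩
        rw [h1, h2, Submodule.coe_zero, Submodule.coe_zero, add_zero]
    have hprod : ∀ (p : Submodule K U) (q : Submodule K U'),
        Module.finrank K (p.prod q) = Module.finrank K p + Module.finrank K q := fun p q => by
      rw [← Module.finrank_prod]
      exact LinearEquiv.finrank_eq
        { toFun := fun x => (⟨x.1.1, x.2.1⟩, ⟨x.1.2, x.2.2⟩)
          invFun := fun x => ⟨(x.1.1, x.2.1), x.1.2, x.2.2⟩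
          map_add' := fun _ _ => rfl
          map_smul' := fun _ _ => rfl
          left_inv := fun _ => rfl
          right_inv := fun _ => rfl }
    rw [hmap, LinearEquiv.finrank_map_eq, hprod, ih', hfac, Multiset.count_cons, add_comm, add_mul]
    congr 1
    by_cases hPQ : P = Q
    · subst hPQ
      rw [if_pos rfl, one_mul, show LinearMap.ker (aeval (T.restrict hU) P) = ⊤ from eq_top_iff.2 fun x _ =>
        LinearMap.mem_ker.2 (Subtype.ext ((coe_aeval_restrict hU P x).trans (hkill x x.2))), finrank_top, hrank]
    · rw [if_neg hPQ, zero_mul, show LinearMap.ker (aeval (T.restrict hU) P) = ⊥ from ?_, finrank_bot]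
      refine (Submodule.eq_bot_iff _).2 fun x hx => ?_
      obtain ⟨a, b, hab⟩ : IsCoprime P Q := hP.coprime_iff_not_dvd.2 fun hd =>
        hPQ (eq_of_monic_of_associated hPm hQm (hP.associated_of_dvd hQ hd))
      refine Subtype.ext ?_
      calc (x : V) = aeval T (a * P + b * Q) x := by rw [hab, map_one, Module.End.one_apply]
        _ = 0 := by
          rw [map_add, map_mul, map_mul, LinearMap.add_apply, Module.End.mul_apply, Module.End.mul_apply,
            hkill x x.2, ← coe_aeval_restrict hU, LinearMap.mem_ker.1 hx, Submodule.coe_zero, map_zero, map_zero,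
            add_zero]

/-- An intertwiner on a cyclic block with prescribed value at the generator. -/
theorem exists_inter_apply {S : Module.End K V} {T : Module.End K W} {U : Submodule K V} (hU : ∀ x ∈ U, S x ∈ U)
    {v : V} (hvU : v ∈ U) (hgen : ∀ x ∈ U, ∃ p : K[X], x = aeval S p v) {P : K[X]} (hP : Irreducible P)
    (hv : v ≠ 0) (hPv : aeval S P v = 0) {w : W} (hw : aeval T P w = 0) :
    ∃ φ ∈ inter (S.restrict hU) T, φ ⟨v, hvU⟩ = w := by
  let L₁ : K[X] →ₗ[K] U := (LinearMap.applyₗ (⟨v, hvU⟩ : U)).comp (aeval (S.restrict hU)).toLinearMap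
  let L₂ : K[X] →ₗ[K] W := (LinearMap.applyₗ w).comp (aeval T).toLinearMap
  have hsurj : Function.Surjective L₁ := fun x => by
    obtain ⟨p, hp⟩ := hgen x x.2
    exact ⟨p, Subtype.ext ((coe_aeval_restrict hU p ⟨v, hvU⟩).trans hp.symm)⟩
  have hle : LinearMap.ker L₁ ≤ LinearMap.ker L₂ := fun p hp => by
    have hp' : aeval S p v = 0 := by
      rw [← coe_aeval_restrict hU p ⟨v, hvU⟩]
      exact congrArg Subtype.val hp
    obtain ⟨q, rfl⟩ : P ∣ p := by
      by_contra hnd
      obtain ⟨a, b, hab⟩ := hP.coprime_iff_not_dvd.2 hnd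
      refine hv ?_
      calc v = aeval S (a * P + b * p) v := by rw [hab, map_one, Module.End.one_apply]
        _ = 0 := by rw [map_add, map_mul, map_mul, LinearMap.add_apply, Module.End.mul_apply, Module.End.mul_apply,
            hPv, hp', map_zero, map_zero, add_zero]
    show aeval T (P * q) w = 0
    rw [mul_comm, map_mul, Module.End.mul_apply, hw, map_zero]
  let φ := (Submodule.liftQ _ L₂ hle).comp (LinearMap.quotKerEquivOfSurjective L₁ hsurj).symm.toLinearMap
  have hφ : ∀ p, φ (L₁ p) = L₂ p := fun p => by
    show Submodule.liftQ _ L₂ hle ((LinearMap.quotKerEquivOfSurjective L₁ hsurj).symm (L₁ p)) = _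
    rw [show (LinearMap.quotKerEquivOfSurjective L₁ hsurj).symm (L₁ p) = Submodule.Quotient.mk p from
      (LinearEquiv.symm_apply_eq _).2 rfl, Submodule.liftQ_apply]
  refine ⟨φ, mem_inter.2 fun x => ?_, ?_⟩
  · obtain ⟨p, rfl⟩ := hsurj x
    rw [hφ, show S.restrict hU (L₁ p) = L₁ (X * p) by
      show _ = aeval (S.restrict hU) (X * p) _
      rw [map_mul, aeval_X]
      rfl, hφ]
    show aeval T (X * p) w = _
    rw [map_mul, aeval_X]
    rfl
  · have h1 : (⟨v, hvU⟩ : U) = L₁ 1 := by
      show _ = aeval (S.restrict hU) 1 _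
      rw [map_one, Module.End.one_apply]
    rw [h1, hφ]
    show aeval T 1 w = w
    rw [map_one, Module.End.one_apply]

/-- An intertwiner on a cyclic block is determined by its value at the generator. -/
theorem inter_ext {S : Module.End K V} {T : Module.End K W} {U : Submodule K V} (hU : ∀ x ∈ U, S x ∈ U)
    {v : V} (hvU : v ∈ U) (hgen : ∀ x ∈ U, ∃ p : K[X], x = aeval S p v) {φ ψ : U →ₗ[K] W}
    (hφ : φ ∈ inter (S.restrict hU) T) (hψ : ψ ∈ inter (S.restrict hU) T) (h : φ ⟨v, hvU⟩ = ψ ⟨v, hvU⟩) : φ = ψ := by
  refine LinearMap.ext fun x => ?_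
  obtain ⟨p, hp⟩ := hgen x x.2
  rw [show x = aeval (S.restrict hU) p ⟨v, hvU⟩ from Subtype.ext (hp.trans (coe_aeval_restrict hU p ⟨v, hvU⟩).symm),
    map_aeval_of_mem hφ, map_aeval_of_mem hψ, h]

variable [FiniteDimensional K W]

/-- **The dimension of the space of intertwiners.** -/
theorem finrank_inter {S : Module.End K V} {T : Module.End K W} (hS : S.IsSemisimple) (hT : T.IsSemisimple) :
    Module.finrank K (inter S T) =
      ((normalizedFactors S.charpoly).map fun P => (normalizedFactors T.charpoly).count P * P.natDegree).sum := by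
  induction hn : Module.finrank K V using Nat.strong_induction_on generalizing V with
  | _ n ih =>
    rcases subsingleton_or_nontrivial V with h | h
    · have hc : S.charpoly = 1 := (Polynomial.Monic.natDegree_eq_zero (LinearMap.charpoly_monic S)).1 (by
        rw [LinearMap.charpoly_natDegree, Module.finrank_zero_of_subsingleton])
      haveI : Subsingleton (inter S T) := ⟨fun a b => Subtype.ext (LinearMap.ext fun x => by
        rw [Subsingleton.elim x 0, map_zero, map_zero])⟩
      rw [hc, normalizedFactors_one, Multiset.map_zero, Multiset.sum_zero, Module.finrank_zero_of_subsingleton]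
    obtain ⟨P, v, hPm, hP, hv, hPv⟩ := exists_cyclic S
    obtain ⟨U, U', hU, hU', hc, hvU, hgen, hkill, hrank, hss, hfac⟩ := exists_cyclic_split hS hPm hP hv hPv
    have ih' := ih _ (hn ▸ finrank_lt_of_isCompl hc hP.natDegree_pos hrank) hss rfl
    let e := Submodule.prodEquivOfIsCompl U U' hc
    let split : inter S T ≃ₗ[K] inter (S.restrict hU) T × inter (S.restrict hU') T :=
      { toFun := fun φ =>
          (⟨φ.1 ∘ₗ U.subtype, mem_inter.2 fun x => mem_inter.1 φ.2 x⟩,
           ⟨φ.1 ∘ₗ U'.subtype, mem_inter.2 fun x => mem_inter.1 φ.2 x⟩)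
        invFun := fun ψ => ⟨LinearMap.coprod ψ.1.1 ψ.2.1 ∘ₗ e.symm.toLinearMap, mem_inter.2 fun x => by
          obtain ⟨⟨a, b⟩, rfl⟩ := e.surjective x
          have he : S (e (a, b)) = e (S.restrict hU a, S.restrict hU' b) := map_add S (a : V) b
          simp only [LinearMap.comp_apply, LinearEquiv.coe_coe, he, LinearEquiv.symm_apply_apply,
            LinearMap.coprod_apply, map_add, mem_inter.1 ψ.1.2, mem_inter.1 ψ.2.2]⟩
        map_add' := fun _ _ => rfl
        map_smul' := fun _ _ => rfl
        left_inv := fun φ => Subtype.ext (LinearMap.ext fun x => by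
          obtain ⟨⟨a, b⟩, rfl⟩ := e.surjective x
          simp only [LinearMap.comp_apply, LinearEquiv.coe_coe, LinearEquiv.symm_apply_apply, LinearMap.coprod_apply]
          exact (map_add φ.1 (a : V) b).symm)
        right_inv := fun ψ => by
          refine Prod.ext (Subtype.ext (LinearMap.ext fun a => ?_)) (Subtype.ext (LinearMap.ext fun b => ?_))
          · show LinearMap.coprod ψ.1.1 ψ.2.1 (e.symm (a : V)) = ψ.1.1 a
            rw [Submodule.prodEquivOfIsCompl_symm_apply_left, LinearMap.coprod_apply, map_zero, add_zero]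
          · show LinearMap.coprod ψ.1.1 ψ.2.1 (e.symm (b : V)) = ψ.2.1 b
            rw [Submodule.prodEquivOfIsCompl_symm_apply_right, LinearMap.coprod_apply, map_zero, zero_add] }
    let ev : inter (S.restrict hU) T →ₗ[K] LinearMap.ker (aeval T P) :=
      { toFun := fun φ => ⟨φ.1 ⟨v, hvU⟩, LinearMap.mem_ker.2 (by
          rw [← map_aeval_of_mem φ.2,
            show aeval (S.restrict hU) P ⟨v, hvU⟩ = 0 from Subtype.ext ((coe_aeval_restrict hU P _).trans hPv),
            map_zero])⟩
        map_add' := fun _ _ => rfl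
        map_smul' := fun _ _ => rfl }
    have hev : Function.Bijective ev := by
      refine ⟨fun φ ψ h => Subtype.ext (inter_ext hU hvU hgen φ.2 ψ.2 (congrArg Subtype.val h)), fun w => ?_⟩
      obtain ⟨φ, hφ, hφv⟩ := exists_inter_apply hU hvU hgen hP hv hPv (LinearMap.mem_ker.1 w.2)
      exact ⟨⟨φ, hφ⟩, Subtype.ext hφv⟩
    rw [split.finrank_eq, Module.finrank_prod, (LinearEquiv.ofBijective ev hev).finrank_eq,
      finrank_ker_aeval hT hPm hP, ih', hfac, Multiset.map_cons, Multiset.sum_cons]

/-- **Semisimple operators with the same characteristic polynomial are similar.** -/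
theorem exists_similar {S : Module.End K V} {T : Module.End K W} (hS : S.IsSemisimple) (hT : T.IsSemisimple)
    (h : S.charpoly = T.charpoly) : ∃ e : V ≃ₗ[K] W, ∀ x, e (S x) = T (e x) := by
  induction hn : Module.finrank K V using Nat.strong_induction_on generalizing V W with
  | _ n ih =>
    have hdim : Module.finrank K V = Module.finrank K W := by
      rw [← LinearMap.charpoly_natDegree S, h, LinearMap.charpoly_natDegree]
    rcases subsingleton_or_nontrivial V with hV | hV
    · haveI : Subsingleton W := Module.finrank_zero_iff.1 (hdim ▸ Module.finrank_zero_of_subsingleton)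
      exact ⟨LinearEquiv.ofFinrankEq _ _ hdim, fun _ => Subsingleton.elim _ _⟩
    obtain ⟨P, v, hPm, hP, hv, hPv⟩ := exists_cyclic S
    obtain ⟨U, U', hU, hU', hc, hvU, hgen, hkill, hrank, hss, hfac⟩ := exists_cyclic_split hS hPm hP hv hPv
    have hpos : 0 < Module.finrank K (LinearMap.ker (aeval T P)) := by
      rw [finrank_ker_aeval hT hPm hP, ← h, hfac, Multiset.count_cons_self]
      exact Nat.mul_pos (Nat.succ_pos _) hP.natDegree_pos
    haveI := Module.finrank_pos_iff.1 hpos
    obtain ⟨⟨w, hw⟩, hw0⟩ := exists_ne (0 : LinearMap.ker (aeval T P))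
    have hw0' : w ≠ 0 := fun e => hw0 (Subtype.ext e)
    obtain ⟨Y, Y', hY, hY', hcY, hwY, hgenY, hkillY, hrankY, hssY, hfacY⟩ :=
      exists_cyclic_split hT hPm hP hw0' (LinearMap.mem_ker.1 hw)
    obtain ⟨φ, hφ, hφv⟩ := exists_inter_apply (T := T.restrict hY) (w := ⟨w, hwY⟩) hU hvU hgen hP hv hPv
      (Subtype.ext ((coe_aeval_restrict hY P _).trans (LinearMap.mem_ker.1 hw)))
    have hsurj : Function.Surjective φ := fun y => by
      obtain ⟨p, hp⟩ := hgenY y y.2
      refine ⟨aeval (S.restrict hU) p ⟨v, hvU⟩, ?_⟩
      rw [map_aeval_of_mem hφ, hφv]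
      exact Subtype.ext ((coe_aeval_restrict hY p _).trans hp.symm)
    have hinj : Function.Injective φ :=
      (LinearMap.injective_iff_surjective_of_finrank_eq_finrank (hrank.trans hrankY.symm)).2 hsurj
    have hcp : (S.restrict hU').charpoly = (T.restrict hY').charpoly := by
      have h2 : normalizedFactors (S.restrict hU').charpoly = normalizedFactors (T.restrict hY').charpoly := by
        have := hfac.symm.trans ((congrArg normalizedFactors h).trans hfacY)
        exact (Multiset.cons_inj_right P).1 this
      exact eq_of_monic_of_associated (LinearMap.charpoly_monic _) (LinearMap.charpoly_monic _)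
        ((associated_iff_normalizedFactors_eq_normalizedFactors (LinearMap.charpoly_monic _).ne_zero
          (LinearMap.charpoly_monic _).ne_zero).2 h2)
    obtain ⟨e', he'⟩ := ih _ (hn ▸ finrank_lt_of_isCompl hc hP.natDegree_pos hrank) hss hssY hcp rfl
    let e₁ := LinearEquiv.ofBijective φ ⟨hinj, hsurj⟩
    let eV := Submodule.prodEquivOfIsCompl U U' hc
    let eW := Submodule.prodEquivOfIsCompl Y Y' hcY
    refine ⟨(eV.symm.trans (e₁.prodCongr e')).trans eW, fun x => ?_⟩
    obtain ⟨⟨a, b⟩, rfl⟩ := eV.surjective x
    have he : S (eV (a, b)) = eV (S.restrict hU a, S.restrict hU' b) := map_add S (a : V) b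
    simp only [LinearEquiv.trans_apply, he, LinearEquiv.symm_apply_apply]
    show ((φ (S.restrict hU a) : W) + (e' (S.restrict hU' b) : W)) = T ((φ a : W) + (e' b : W))
    rw [mem_inter.1 hφ, he', map_add]
    rfl

/-- The algebra generated by a semisimple operator is semisimple. -/
theorem isSemisimpleRing_adjoin {T : Module.End K V} (hT : T.IsSemisimple) :
    IsSemisimpleRing (Algebra.adjoin K {T} : Subalgebra K (Module.End K V)) := by
  letI : CommRing (Algebra.adjoin K {T} : Subalgebra K (Module.End K V)) :=
    { (inferInstance : Ring (Algebra.adjoin K {T} : Subalgebra K (Module.End K V))) with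
      mul_comm := fun a b => Subtype.ext (Algebra.commute_of_mem_adjoin_singleton_of_commute b.2
        (Algebra.commute_of_mem_adjoin_self a.2).symm).eq }
  haveI : IsArtinianRing (Algebra.adjoin K {T} : Subalgebra K (Module.End K V)) := IsArtinianRing.of_finite K _
  haveI : IsReduced (Algebra.adjoin K {T} : Subalgebra K (Module.End K V)) := ⟨fun a ha => Subtype.ext
    (Module.End.eq_zero_of_isNilpotent_isSemisimple (ha.map (Subalgebra.val _))
      (Module.End.IsSemisimple.of_mem_adjoin_singleton hT a.2))⟩
  exact IsArtinianRing.isSemisimpleRing_of_isReduced _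

/-- **The double commutant of a semisimple operator.** -/
theorem mem_adjoin_of_commute {T : Module.End K V} (hT : T.IsSemisimple) (φ : Module.End K V)
    (h : ∀ c : Module.End K V, Commute c T → Commute c φ) : φ ∈ Algebra.adjoin K {T} := by
  haveI := isSemisimpleRing_adjoin hT
  exact mem_of_commutant _ φ fun c hc => h c (hc ⟨T, Algebra.self_mem_adjoin_singleton K T⟩)

/-- The dimension of the algebra generated by an operator. -/
theorem finrank_adjoin_eq (T : Module.End K V) :
    Module.finrank K (Algebra.adjoin K {T} : Subalgebra K (Module.End K V)) = (minpoly K T).natDegree := by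
  have h := (Ideal.quotientKerEquivRange (aeval T : K[X] →ₐ[K] Module.End K V)).toLinearEquiv.finrank_eq
  rw [← Algebra.adjoin_singleton_eq_range_aeval] at h
  rw [← h, ← finrank_quotient_span_eq_natDegree (f := minpoly K T)]
  exact (Ideal.quotientEquivAlgOfEq K (minpoly.ker_aeval_eq_span_minpoly K T)).toLinearEquiv.finrank_eq

end Split

end Groth.Agent.TateIsog
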