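import Groth.Agent.TateIsog.Isog
import Groth.Agent.TateIsog.SemiOp
import Groth.Agent.AVFrobLib.Data
import Mathlib.LinearAlgebra.Dimension.Constructions

/-!
# The Frobenius, the rank of `Hom`, and the centre, over a finite field
-/

noncomputable section

set_option autoImplicit false
set_option linter.style.haveILetI false
set_option linter.unusedSectionVars false
set_option backward.isDefEq.respectTransparency false
set_option backward.isDefEq.respectTransparency.types false
set_option maxHeartbeats 1000000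
set_option synthInstance.maxHeartbeats 200000

universe u

open CategoryTheory CategoryTheory.Limits MonoidalCategory CartesianMonoidalCategory MonObj GrpObj AlgebraicGeometry
open scoped TensorProduct
open Polynomial UniqueFactorizationMonoid

namespace Groth.Agent.TateIsog

open Groth.Agent Groth.Agent.H23

section RPoly

variable {K : Type*} [Field K] [DecidableEq K]

/-- `∑ mult_P(f) mult_P(g) deg P`. -/
def rPoly (f g : K[X]) : ℕ :=
  ((normalizedFactors f).map fun P => (normalizedFactors g).count P * P.natDegree).sum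

theorem rPoly_eq_sum (f g : K[X]) :
    rPoly f g = ∑ P ∈ (normalizedFactors f).toFinset,
      (normalizedFactors f).count P * (normalizedFactors g).count P * P.natDegree := by
  rw [rPoly, Finset.sum_multiset_map_count]
  exact Finset.sum_congr rfl fun P _ => by rw [smul_eq_mul, _root_.mul_assoc]

theorem monic_of_mem_factors {f P : K[X]} (h : P ∈ normalizedFactors f) : P.Monic :=
  normalize_normalized_factor P h ▸ monic_normalize (irreducible_of_normalized_factor P h).ne_zero

theorem sum_natDegree_factors {f : K[X]} (hf : f.Monic) :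
    ((normalizedFactors f).map natDegree).sum = f.natDegree := by
  rw [← natDegree_multiset_prod_of_monic _ fun P hP => monic_of_mem_factors hP,
    prod_normalizedFactors_eq hf.ne_zero, hf.normalize_eq_self]

variable {L : Type*} [Field L] [DecidableEq L] (i : K →+* L)

theorem normalizedFactors_map {f : K[X]} (hf : f.Monic) :
    normalizedFactors (f.map i) = (normalizedFactors f).bind fun P => normalizedFactors (P.map i) := by
  have h : ∀ s : Multiset K[X], (∀ P ∈ s, P.Monic) →
      normalizedFactors (s.prod.map i) = s.bind fun P => normalizedFactors (P.map i) := by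
    intro s hs
    induction s using Multiset.induction_on with
    | empty => simp
    | cons P s ih =>
      rw [Multiset.prod_cons, Multiset.cons_bind, Polynomial.map_mul, normalizedFactors_mul
        ((hs P (Multiset.mem_cons_self _ _)).map i).ne_zero
        (Polynomial.map_ne_zero (Multiset.prod_ne_zero fun h0 => (hs 0 (Multiset.mem_cons_of_mem h0)).ne_zero rfl)),
        ih fun Q hQ => hs Q (Multiset.mem_cons_of_mem hQ)]
  conv_lhs => rw [← hf.normalize_eq_self, ← prod_normalizedFactors_eq hf.ne_zero]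
  exact h _ fun P hP => monic_of_mem_factors hP

/-- `rPoly` is unchanged by an extension of a perfect field. -/
theorem rPoly_map [PerfectField K] {f g : K[X]} (hf : f.Monic) (hg : g.Monic) :
    rPoly (f.map i) (g.map i) = rPoly f g := by
  classical
  rw [rPoly, rPoly, normalizedFactors_map i hf, normalizedFactors_map i hg, Multiset.map_bind, Multiset.sum_bind]
  congr 1
  refine Multiset.map_congr rfl fun P hP => ?_
  have hPi := irreducible_of_normalized_factor P hP
  have hcount : ∀ Q ∈ normalizedFactors (P.map i),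
      ((normalizedFactors g).bind fun P => normalizedFactors (P.map i)).count Q = (normalizedFactors g).count P := by
    intro Q hQ
    have hnodup : (normalizedFactors (P.map i)).Nodup :=
      (squarefree_iff_nodup_normalizedFactors ((monic_of_mem_factors hP).map i).ne_zero).1
        ((PerfectField.separable_of_irreducible hPi).map (f := i)).squarefree
    rw [Multiset.count_bind, show (normalizedFactors g).map (fun P' => (normalizedFactors (P'.map i)).count Q) =
      (normalizedFactors g).map (fun P' => if P = P' then 1 else 0) from Multiset.map_congr rfl fun P' hP' => ?_,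
      Multiset.sum_map_eq_nsmul_single P (fun P' hne _ => if_neg (Ne.symm hne)), if_pos rfl, smul_eq_mul, _root_.mul_one]
    by_cases h : P = P'
    · subst h
      rw [if_pos rfl]
      exact Multiset.count_eq_one_of_mem hnodup hQ
    · rw [if_neg h]
      refine Multiset.count_eq_zero_of_notMem fun hQ' => ?_
      obtain ⟨a, b, hab⟩ := hPi.coprime_iff_not_dvd.2 fun hd => h (eq_of_monic_of_associated (monic_of_mem_factors hP)
        (monic_of_mem_factors hP') (hPi.associated_of_dvd (irreducible_of_normalized_factor P' hP') hd))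
      refine (irreducible_of_normalized_factor Q hQ).not_isUnit (isUnit_of_dvd_one ?_)
      have hone : (a.map i) * (P.map i) + (b.map i) * (P'.map i) = 1 := by
        rw [← Polynomial.map_mul, ← Polynomial.map_mul, ← Polynomial.map_add, hab, Polynomial.map_one]
      rw [← hone]
      exact dvd_add (dvd_mul_of_dvd_right (dvd_of_mem_normalizedFactors hQ) _)
        (dvd_mul_of_dvd_right (dvd_of_mem_normalizedFactors hQ') _)
  rw [Multiset.map_congr rfl fun Q hQ => by rw [hcount Q hQ], Multiset.sum_map_mul_left,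
    sum_natDegree_factors ((monic_of_mem_factors hP).map i), (monic_of_mem_factors hP).natDegree_map]

theorem natDegree_le_rPoly {f : K[X]} (hf : f.Monic) : f.natDegree ≤ rPoly f f := by
  rw [← sum_natDegree_factors hf, rPoly]
  refine Multiset.sum_map_le_sum_map _ _ fun P hP => ?_
  exact Nat.le_mul_of_pos_left _ (Multiset.count_pos.2 hP)

/-- Squarefree iff the minimal value is attained. -/
theorem rPoly_eq_natDegree_iff {f : K[X]} (hf : f.Monic) : rPoly f f = f.natDegree ↔ Squarefree f := by
  rw [squarefree_iff_nodup_normalizedFactors hf.ne_zero, ← sum_natDegree_factors hf, rPoly]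
  constructor
  · intro h
    rw [Multiset.nodup_iff_count_le_one]
    intro P
    by_contra hc
    push Not at hc
    have hP : P ∈ normalizedFactors f := Multiset.count_pos.1 (by omega)
    refine (Multiset.sum_lt_sum (s := normalizedFactors f) (f := natDegree)
      (g := fun Q => (normalizedFactors f).count Q * Q.natDegree)
      (fun Q hQ => Nat.le_mul_of_pos_left _ (Multiset.count_pos.2 hQ)) ⟨P, hP, ?_⟩).ne h.symm
    exact lt_mul_of_one_lt_left (irreducible_of_normalized_factor P hP).natDegree_pos hc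
  · intro h
    exact congrArg Multiset.sum (Multiset.map_congr rfl fun P hP => by
      rw [Multiset.count_eq_one_of_mem h hP, _root_.one_mul])

end RPoly

variable {k Ω : Type u} [Field k] [Finite k] [Field Ω] [Algebra k Ω] [IsAlgClosure k Ω] (l : ℕ) [Fact l.Prime]

local notation "pΩ" => SGA7.pt (K := k) Ω

variable {A B : Over (Spec (CommRingCat.of k))} [GrpObj A] [IsCommMonObj A] [IsProper A.hom]
  [GeometricallyIntegral A.hom] [GrpObj B] [IsCommMonObj B] [IsProper B.hom] [GeometricallyIntegral B.hom]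

variable (Ω) in
/-- The rational Tate map of an endomorphism. -/
abbrev endMap (φ : EndAV.End A) : Module.End ℚ_[l] (ℚ_[l] ⊗[ℤ_[l]] AbDual.TateMod A l pΩ) :=
  ratMap Ω l (φ : EndAV.Hom A A)

theorem endMap_pow (φ : EndAV.End A) (i : ℕ) : endMap Ω l (φ ^ i) = endMap Ω l φ ^ i := by
  induction i with
  | zero =>
    rw [pow_zero, pow_zero]
    exact ratMap_id l
  | succ i ih =>
    rw [pow_succ, pow_succ, Module.End.mul_eq_comp, ← ih]
    exact ratMap_comp l (φ : EndAV.Hom A A) (φ ^ i : EndAV.End A)

theorem endMap_eq_gal (π : EndAV.End A) (hπ : WeilLib.IsPowMap π.toHom.left (Nat.card k)) :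
    endMap Ω l π = (gal l A (frobAut k Ω)).baseChange ℚ_[l] :=
  congrArg (LinearMap.baseChange ℚ_[l]) (tate_frobenius l π.toHom hπ)

/-- **Frobenius acts semisimply.** -/
theorem isSemisimple_frob (hl : (l : k) ≠ 0) (π : EndAV.End A) (hπ : WeilLib.IsPowMap π.toHom.left (Nat.card k)) :
    (endMap Ω l π).IsSemisimple := by
  rw [endMap_eq_gal l π hπ, Module.End.isSemisimple_iff]
  intro W hW
  have hWτ : ∀ τ : Ω ≃ₐ[k] Ω, W.map ((gal l A τ).baseChange ℚ_[l]) ≤ W := by
    intro τ
    suffices ∀ ψ ∈ Submodule.span ℤ_[l] (Set.range fun i : ℕ => gal l A (frobAut k Ω) ^ i),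
        ∀ x ∈ W, ψ.baseChange ℚ_[l] x ∈ W by
      rintro _ ⟨x, hx, rfl⟩
      exact this _ (gal_mem_span l hl A τ) x hx
    intro ψ hψ
    induction hψ using Submodule.span_induction with
    | mem ψ hψ =>
      obtain ⟨i, rfl⟩ := hψ
      intro x hx
      show (Module.End.baseChangeHom ℤ_[l] ℚ_[l] _) (gal l A (frobAut k Ω) ^ i) x ∈ W
      rw [map_pow, Module.End.coe_pow]
      induction i with
      | zero => exact hx
      | succ i ih =>
        rw [Function.iterate_succ', Function.comp_apply]
        exact hW ih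
    | zero => intro x _; rw [LinearMap.baseChange_zero]; exact zero_mem _
    | add a b _ _ ha hb => intro x hx; rw [LinearMap.baseChange_add]; exact add_mem (ha x hx) (hb x hx)
    | smul c a _ ha =>
      intro x hx
      rw [LinearMap.baseChange_smul, ← algebraMap_smul ℚ_[l] c]
      exact W.smul_mem _ (ha x hx)
  obtain ⟨W', hc, hW'⟩ := semisimple_of_rangeProp l A hl (rangeProp_of_finite l A hl) W hWτ
  exact ⟨W', fun x hx => hW' (frobAut k Ω) ⟨x, hx, rfl⟩, hc⟩

/-- **Homomorphisms are the maps intertwining Frobenius.** -/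
theorem span_homSet_eq_inter (hl : (l : k) ≠ 0) (πA : EndAV.End A) (hπA : WeilLib.IsPowMap πA.toHom.left (Nat.card k))
    (πB : EndAV.End B) (hπB : WeilLib.IsPowMap πB.toHom.left (Nat.card k)) :
    Submodule.span ℚ_[l] (homSet (Ω := Ω) l A B) = inter (endMap Ω l πA) (endMap Ω l πB) := by
  rw [endMap_eq_gal l πA hπA, endMap_eq_gal l πB hπB]
  refine le_antisymm (Submodule.span_le.2 ?_) fun φ hφ => hom_mem_span l hl φ fun τ => comm_gal_of_frobenius l hl φ hφ τ
  rw [homSet_eq_range]
  rintro _ ⟨φ, rfl⟩
  exact ratMap_gal l φ (frobAut k Ω)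

theorem charpoly_endMap (π : EndAV.End A) [Module.Free ℤ_[l] (AbDual.TateMod A l pΩ)]
    [Module.Finite ℤ_[l] (AbDual.TateMod A l pΩ)] :
    (endMap Ω l π).charpoly = (EndAV.End.tateRep l pΩ π).charpoly.map (algebraMap ℤ_[l] ℚ_[l]) :=
  LinearMap.charpoly_baseChange (EndAV.End.tateRep l pΩ π) ℚ_[l]

theorem charpoly_endMap_int (π : EndAV.End A) [Module.Free ℤ_[l] (AbDual.TateMod A l pΩ)]
    [Module.Finite ℤ_[l] (AbDual.TateMod A l pΩ)] {P : ℤ[X]}
    (hP : (EndAV.End.tateRep l pΩ π).charpoly = P.map (Int.castRingHom ℤ_[l])) :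
    (endMap Ω l π).charpoly = (P.map (Int.castRingHom ℚ)).map (algebraMap ℚ ℚ_[l]) := by
  rw [charpoly_endMap, hP, Polynomial.map_map, Polynomial.map_map]
  congr 1

/-- **The rank of the group of homomorphisms.** -/
theorem finrank_hom_eq [DecidableEq ℚ_[l]] (hl : (l : k) ≠ 0) (πA : EndAV.End A)
    (hπA : WeilLib.IsPowMap πA.toHom.left (Nat.card k)) (πB : EndAV.End B)
    (hπB : WeilLib.IsPowMap πB.toHom.left (Nat.card k))
    [Module.Free ℤ_[l] (AbDual.TateMod A l pΩ)] [Module.Finite ℤ_[l] (AbDual.TateMod A l pΩ)]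
    [Module.Free ℤ_[l] (AbDual.TateMod B l pΩ)] [Module.Finite ℤ_[l] (AbDual.TateMod B l pΩ)] :
    Module.finrank ℤ (EndAV.Hom A B) = rPoly (endMap Ω l πA).charpoly (endMap Ω l πB).charpoly := by
  rw [← finrank_span_homSet (Ω := Ω) l hl, span_homSet_eq_inter l hl πA hπA πB hπB,
    finrank_inter (isSemisimple_frob l hl πA hπA) (isSemisimple_frob l hl πB hπB)]
  rfl

/-- The rank of the group of homomorphisms, from the rational characteristic polynomials. -/
theorem finrank_hom_eq_rat (hl : (l : k) ≠ 0) (πA : EndAV.End A)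
    (hπA : WeilLib.IsPowMap πA.toHom.left (Nat.card k)) (πB : EndAV.End B)
    (hπB : WeilLib.IsPowMap πB.toHom.left (Nat.card k))
    [Module.Free ℤ_[l] (AbDual.TateMod A l pΩ)] [Module.Finite ℤ_[l] (AbDual.TateMod A l pΩ)]
    [Module.Free ℤ_[l] (AbDual.TateMod B l pΩ)] [Module.Finite ℤ_[l] (AbDual.TateMod B l pΩ)] {P Q : ℤ[X]}
    (hP : (EndAV.End.tateRep l pΩ πA).charpoly = P.map (Int.castRingHom ℤ_[l]))
    (hQ : (EndAV.End.tateRep l pΩ πB).charpoly = Q.map (Int.castRingHom ℤ_[l])) :
    Module.finrank ℤ (EndAV.Hom A B) = rPoly (P.map (Int.castRingHom ℚ)) (Q.map (Int.castRingHom ℚ)) := by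
  classical
  haveI := IsAlgClosure.isAlgClosed k (K := Ω)
  obtain ⟨gA, hgA⟩ := TorsPtsLib.exists_dim A
  obtain ⟨gB, hgB⟩ := TorsPtsLib.exists_dim B
  obtain ⟨hPm, -, -⟩ := AVFrobLib.degPoly_of_charpoly Ω l hl hgA πA hP
  obtain ⟨hQm, -, -⟩ := AVFrobLib.degPoly_of_charpoly Ω l hl hgB πB hQ
  rw [finrank_hom_eq (Ω := Ω) l hl πA hπA πB hπB, charpoly_endMap_int l πA hP, charpoly_endMap_int l πB hQ,
    rPoly_map _ (hPm.map _) (hQm.map _)]

/-- **Semisimple, so the characteristic polynomial determines the isogeny class.** -/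
theorem isogenous_of_charpoly (hl : (l : k) ≠ 0) (πA : EndAV.End A)
    (hπA : WeilLib.IsPowMap πA.toHom.left (Nat.card k)) (πB : EndAV.End B)
    (hπB : WeilLib.IsPowMap πB.toHom.left (Nat.card k))
    [Module.Free ℤ_[l] (AbDual.TateMod A l pΩ)] [Module.Finite ℤ_[l] (AbDual.TateMod A l pΩ)]
    [Module.Free ℤ_[l] (AbDual.TateMod B l pΩ)] [Module.Finite ℤ_[l] (AbDual.TateMod B l pΩ)]
    (h : (endMap Ω l πA).charpoly = (endMap Ω l πB).charpoly) :
    ∃ (u : A ⟶ B) (_ : IsMonHom u) (v : B ⟶ A) (_ : IsMonHom v) (n : ℕ), 0 < n ∧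
      u ≫ v = (𝟙 A) ^ n ∧ v ≫ u = (𝟙 B) ^ n := by
  classical
  obtain ⟨e, he⟩ := exists_similar (isSemisimple_frob (Ω := Ω) l hl πA hπA) (isSemisimple_frob (Ω := Ω) l hl πB hπB) h
  refine isogenous_of_equiv l hl e fun τ => comm_gal_of_frobenius l hl e.toLinearMap ?_ τ
  rw [← endMap_eq_gal l πA hπA, ← endMap_eq_gal l πB hπB]
  exact LinearMap.ext he

variable (Ω) in
include Ω in
/-- Frobenius is central. -/
theorem commute_frob (hl : (l : k) ≠ 0) (π : EndAV.End A) (hπ : WeilLib.IsPowMap π.toHom.left (Nat.card k))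
    (φ : EndAV.End A) : φ * π = π * φ := by
  refine ratMap_injective (Ω := Ω) l hl (A := A) (B := A) ?_
  show ratMap Ω l ((π : EndAV.Hom A A) ≫ φ) = ratMap Ω l ((φ : EndAV.Hom A A) ≫ π)
  rw [ratMap_comp, ratMap_comp, show ratMap Ω l (π : EndAV.Hom A A) = _ from endMap_eq_gal l π hπ]
  exact ratMap_gal l (φ : EndAV.Hom A A) (frobAut k Ω)

/-- Descent of membership in a span. -/
theorem exists_nsmul_mem_span (hl : (l : k) ≠ 0) (S : Set (EndAV.Hom A B)) (φ : EndAV.Hom A B)
    (h : ratMap Ω l φ ∈ Submodule.span ℚ_[l] (ratMap Ω l '' S)) :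
    ∃ N : ℕ, 0 < N ∧ N • φ ∈ Submodule.span ℤ S := by
  classical
  haveI := AVHomForm.moduleFinite_hom (A := A) (B := B)
  haveI := AVHomForm.moduleFree_hom (A := A) (B := B)
  let M := Submodule.span ℤ S
  let b := Module.Free.chooseBasis ℤ M
  have hspan : ratMap Ω l φ ∈ Submodule.span ℚ_[l] (Set.range fun i => ratMap Ω l (b i : EndAV.Hom A B)) := by
    refine Submodule.span_le.2 ?_ h
    rintro _ ⟨ψ, hψ, rfl⟩
    show ratHom Ω l ((⟨ψ, Submodule.subset_span hψ⟩ : M) : EndAV.Hom A B) ∈ _
    rw [← b.sum_repr (⟨ψ, Submodule.subset_span hψ⟩ : M), AddSubmonoidClass.coe_finsetSum, map_sum]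
    refine sum_mem fun i _ => ?_
    rw [SetLike.val_smul, map_zsmul]
    exact zsmul_mem (Submodule.subset_span (Set.mem_range_self i)) _
  have hdep : ¬ LinearIndependent ℤ (fun o : Option _ => o.elim φ fun i => (b i : EndAV.Hom A B)) := fun hli => by
    have := linearIndependent_ratMap (Ω := Ω) l hl _ hli
    rw [linearIndependent_option] at this
    exact this.2 hspan
  rw [Fintype.linearIndependent_iff] at hdep
  push Not at hdep
  obtain ⟨c, hc, j, hj⟩ := hdep
  rw [Fintype.sum_option] at hc
  simp only [Option.elim_none, Option.elim_some] at hc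
  have hc0 : c none ≠ 0 := fun h0 => by
    rw [h0, zero_smul, zero_add] at hc
    have := Fintype.linearIndependent_iff.1 (b.linearIndependent.map' M.subtype (Submodule.ker_subtype _))
      (fun i => c (some i)) hc
    rcases j with _ | i
    · exact hj h0
    · exact hj (this i)
  have hmem : c none • φ ∈ M := by
    rw [eq_neg_of_add_eq_zero_left hc]
    exact neg_mem (sum_mem fun i _ => M.smul_mem _ (b i).2)
  refine ⟨(c none).natAbs, Int.natAbs_pos.2 hc0, ?_⟩
  rw [← natCast_zsmul]
  rcases Int.natAbs_eq (c none) with he | he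
  · rw [← he]; exact hmem
  · rw [show ((c none).natAbs : ℤ) = -c none by omega, neg_smul]
    exact neg_mem hmem

variable (Ω) in
include Ω in
/-- **Central endomorphisms are polynomials in Frobenius, up to a multiple.** -/
theorem exists_nsmul_mem_powers (hl : (l : k) ≠ 0) (π : EndAV.End A)
    (hπ : WeilLib.IsPowMap π.toHom.left (Nat.card k)) (φ : EndAV.End A) (hφ : ∀ ψ : EndAV.End A, φ * ψ = ψ * φ) :
    ∃ N : ℕ, 0 < N ∧ N • φ ∈ Submodule.span ℤ (Set.range fun i : ℕ => π ^ i) := by
  classical
  haveI := IsAlgClosure.isAlgClosed k (K := Ω)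
  obtain ⟨g, hg⟩ := TorsPtsLib.exists_dim A
  obtain ⟨hfree, hfin, -⟩ := AVHomForm.tate_free Ω l hl A hg
  haveI := hfree; haveI := hfin
  refine exists_nsmul_mem_span (Ω := Ω) (A := A) (B := A) l hl _ φ ?_
  have hmem : endMap Ω l φ ∈ Algebra.adjoin ℚ_[l] {endMap Ω l π} := by
    refine mem_adjoin_of_commute (isSemisimple_frob l hl π hπ) _ fun c hc => ?_
    have hc' : c ∈ Submodule.span ℚ_[l] (homSet (Ω := Ω) l A A) := by
      rw [span_homSet_eq_inter l hl π hπ π hπ]
      exact hc.eq
    rw [homSet_eq_range] at hc'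
    clear hc
    induction hc' using Submodule.span_induction with
    | mem ψ hψ =>
      obtain ⟨ψ, rfl⟩ := hψ
      show ratMap Ω l ψ ∘ₗ ratMap Ω l (φ : EndAV.Hom A A) = ratMap Ω l (φ : EndAV.Hom A A) ∘ₗ ratMap Ω l ψ
      rw [← ratMap_comp, ← ratMap_comp]
      exact congrArg (ratMap Ω l) (hφ ψ).symm
    | zero => exact Commute.zero_left _
    | add a b _ _ ha hb => exact ha.add_left hb
    | smul r a _ ha => exact ha.smul_left r
  rw [Algebra.adjoin_singleton_eq_range_aeval] at hmem
  obtain ⟨p, hp⟩ := hmem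
  show endMap Ω l φ ∈ _
  rw [← hp, AlgHom.toRingHom_eq_coe, RingHom.coe_coe, aeval_eq_sum_range]
  refine sum_mem fun i _ => Submodule.smul_mem _ _ (Submodule.subset_span ⟨π ^ i, ⟨i, rfl⟩, ?_⟩)
  exact endMap_pow l π i

end Groth.Agent.TateIsog
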