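import Groth.Agent.TateIsog.Centre

/-!
# The rank in terms of families of homomorphisms
-/

noncomputable section

set_option autoImplicit false
set_option linter.style.haveILetI false
set_option linter.unusedSectionVars false
set_option backward.isDefEq.respectTransparency false
set_option backward.isDefEq.respectTransparency.types false
set_option maxHeartbeats 1000000
set_option synthInstance.maxHeartbeats 200000

universe u

open CategoryTheory CategoryTheory.Limits MonoidalCategory CartesianMonoidalCategory MonObj GrpObj AlgebraicGeometry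
open scoped TensorProduct

namespace Groth.Agent.TateIsog

open Groth.Agent

variable {k : Type u} [Field k] {A B : Over (Spec (CommRingCat.of k))} [GrpObj A] [IsCommMonObj A]
  [IsProper A.hom] [GeometricallyIntegral A.hom] [GrpObj B] [IsCommMonObj B] [IsProper B.hom]
  [GeometricallyIntegral B.hom]

/-- A basis of the homomorphisms, as a family of morphisms. -/
theorem exists_family {r : ℕ} (hr : r ≤ Module.finrank ℤ (EndAV.Hom A B)) :
    ∃ e : Fin r → (A ⟶ B), (∀ i, IsMonHom (e i)) ∧ LinearIndependent ℤ (fun i => Additive.ofMul (e i)) ∧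
      (r = Module.finrank ℤ (EndAV.Hom A B) →
        ∀ f : A ⟶ B, IsMonHom f → ∃ N : ℕ, 0 < N ∧ ∃ a : Fin r → ℤ, f ^ N = ∏ i, e i ^ a i) := by
  haveI := AVHomForm.moduleFinite_hom (A := A) (B := B)
  haveI := AVHomForm.moduleFree_hom (A := A) (B := B)
  let b := Module.finBasis ℤ (EndAV.Hom A B)
  let j : EndAV.Hom A B →+ Additive (A ⟶ B) :=
    { toFun := fun φ => Additive.ofMul φ.toHom, map_zero' := rfl, map_add' := fun _ _ => rfl }
  refine ⟨fun i => (b (Fin.castLE hr i)).toHom, fun i => inferInstance, ?_, ?_⟩
  · exact (b.linearIndependent.comp _ (Fin.castLE_injective hr)).map' j.toIntLinearMap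
      (LinearMap.ker_eq_bot.2 fun x y h => EndAV.Hom.ext (congrArg Additive.toMul h))
  · intro he f hf
    haveI := hf
    subst he
    refine ⟨1, one_pos, fun i => b.repr (EndAV.Hom.of f) i, ?_⟩
    have h := congrArg j (b.sum_repr (EndAV.Hom.of f))
    simp only [map_sum, map_zsmul] at h
    have h2 := congrArg Additive.toMul h
    rw [toMul_sum] at h2
    simp only [toMul_zsmul] at h2
    rw [pow_one]
    exact h2.symm

end Groth.Agent.TateIsog
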