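import Groth.Agent.TateIsog.FrobRank
import Groth.Agent.AVFrobLib.Exist
import Groth.Agent.AVSimpleLib.Basic
import Mathlib.FieldTheory.IsAlgClosed.AlgebraicClosure

/-!
# The centre of the endomorphism algebra over a finite field
-/

noncomputable section

set_option autoImplicit false
set_option linter.style.haveILetI false
set_option linter.unusedSectionVars false
set_option backward.isDefEq.respectTransparency false
set_option backward.isDefEq.respectTransparency.types false
set_option maxHeartbeats 1000000
set_option synthInstance.maxHeartbeats 200000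

universe u

open CategoryTheory CategoryTheory.Limits MonoidalCategory CartesianMonoidalCategory MonObj GrpObj AlgebraicGeometry
open scoped TensorProduct

namespace Groth.Agent.TateIsog

open Groth.Agent

variable {k : Type u} [Field k] [Finite k] {A : Over (Spec (CommRingCat.of k))} [GrpObj A] [IsCommMonObj A]
  [IsProper A.hom] [GeometricallyIntegral A.hom]

/-- Frobenius is central in the ring of endomorphisms. -/
theorem commute_frob' (π : EndAV.End A) (hπ : WeilLib.IsPowMap π.toHom.left (Nat.card k)) (φ : EndAV.End A) :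
    φ * π = π * φ := by
  obtain ⟨l, hp, hl⟩ := AVHomForm.exists_prime_ne_zero (k := k)
  exact commute_frob (AlgebraicClosure k) l hl π hπ φ

/-- Central endomorphisms, up to a multiple. -/
theorem exists_nsmul_mem_powers' (π : EndAV.End A) (hπ : WeilLib.IsPowMap π.toHom.left (Nat.card k))
    (φ : EndAV.End A) (hφ : ∀ ψ : EndAV.End A, φ * ψ = ψ * φ) :
    ∃ N : ℕ, 0 < N ∧ N • φ ∈ Submodule.span ℤ (Set.range fun i : ℕ => π ^ i) := by
  obtain ⟨l, hp, hl⟩ := AVHomForm.exists_prime_ne_zero (k := k)
  exact exists_nsmul_mem_powers (AlgebraicClosure k) l hl π hπ φ hφ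

/-- **The centre is generated by Frobenius.** -/
theorem center_eq_qAdj (π : EndAV.End A) (hπ : WeilLib.IsPowMap π.toHom.left (Nat.card k)) :
    Subalgebra.center ℚ (EndAV.End0 A) = EndAV.QAdj π := by
  refine le_antisymm (fun z hz => ?_) (Algebra.adjoin_le ?_)
  · rw [Subalgebra.mem_center_iff] at hz
    obtain ⟨q, φ, rfl⟩ := AVSimpleLib.exists_toEnd0 z
    rcases eq_or_ne q 0 with rfl | hq
    · rw [zero_smul]; exact zero_mem _
    have hφ : ∀ ψ : EndAV.End A, φ * ψ = ψ * φ := fun ψ => AVCharpoly.toEnd0_injective (by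
      rw [map_mul, map_mul]
      have h := hz (EndAV.toEnd0 ψ)
      rw [mul_smul_comm, smul_mul_assoc] at h
      exact (smul_right_injective _ hq h).symm)
    obtain ⟨N, hN, hmem⟩ := exists_nsmul_mem_powers' π hπ φ hφ
    have h1 : EndAV.toEnd0 (N • φ) ∈ EndAV.QAdj π := by
      revert hmem
      generalize N • φ = x
      intro hmem
      induction hmem using Submodule.span_induction with
      | mem x hx =>
        obtain ⟨i, rfl⟩ := hx
        rw [map_pow]
        exact pow_mem (Algebra.self_mem_adjoin_singleton ℚ _) i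
      | zero => rw [map_zero]; exact zero_mem _
      | add a b _ _ ha hb => rw [map_add]; exact add_mem ha hb
      | smul r a _ ha => rw [map_zsmul]; exact zsmul_mem ha r
    rw [map_nsmul] at h1
    have h2 := Subalgebra.smul_mem _ h1 (q * ((N : ℚ)⁻¹))
    rwa [← Nat.cast_smul_eq_nsmul ℚ, smul_smul, _root_.mul_assoc, inv_mul_cancel₀ (Nat.cast_ne_zero.2 hN.ne'),
      _root_.mul_one] at h2
  · rintro _ rfl
    rw [SetLike.mem_coe, Subalgebra.mem_center_iff]
    intro b
    obtain ⟨q, φ, rfl⟩ := AVSimpleLib.exists_toEnd0 b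
    rw [smul_mul_assoc, mul_smul_comm, ← map_mul, ← map_mul, commute_frob' π hπ φ]

/-- `ℚ[π]` is everything iff the endomorphisms commute. -/
theorem qAdj_eq_top_iff (π : EndAV.End A) (hπ : WeilLib.IsPowMap π.toHom.left (Nat.card k)) :
    EndAV.QAdj π = ⊤ ↔ ∀ a b : EndAV.End A, a * b = b * a := by
  rw [← center_eq_qAdj π hπ]
  constructor
  · intro h a b
    refine AVCharpoly.toEnd0_injective ?_
    have hm : EndAV.toEnd0 a ∈ Subalgebra.center ℚ (EndAV.End0 A) := h ▸ Algebra.mem_top
    rw [map_mul, map_mul, Subalgebra.mem_center_iff.1 hm]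
  · intro h
    refine eq_top_iff.2 fun z _ => Subalgebra.mem_center_iff.2 fun w => ?_
    obtain ⟨q, φ, rfl⟩ := AVSimpleLib.exists_toEnd0 z
    obtain ⟨r, ψ, rfl⟩ := AVSimpleLib.exists_toEnd0 w
    rw [smul_mul_assoc, mul_smul_comm, smul_mul_assoc, mul_smul_comm, smul_comm, ← map_mul, ← map_mul, h ψ φ]

/-- The dimension of `End⁰`. -/
theorem finrank_end0 : Module.finrank ℚ (EndAV.End0 A) = Module.finrank ℤ (EndAV.End A) := by
  haveI : Module.Free ℤ (EndAV.End A) := AVHomForm.moduleFree_hom (A := A) (B := A)
  exact Module.finrank_baseChange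

end Groth.Agent.TateIsog
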