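import Groth.Agent.TateIsog.Finiteness
import Groth.Agent.JacBC.DualBC
import Groth.Agent.AVPrincPol.Main
import Groth.Agent.AVFieldDual.Symm
import Groth.Agent.CurveBC.Coh

/-!
# The ample module over the ground field of a polarisation
-/

noncomputable section

set_option linter.style.haveILetI false
set_option linter.unusedSectionVars false
set_option backward.isDefEq.respectTransparency false
set_option backward.isDefEq.respectTransparency.types false
set_option maxHeartbeats 1000000
set_option autoImplicit false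

universe u

open CategoryTheory CategoryTheory.Limits MonoidalCategory CartesianMonoidalCategory MonObj GrpObj AlgebraicGeometry
  TopologicalSpace

namespace Groth.Agent.TateIsog

open Groth.Agent Groth.Agent.H23 Groth.Agent.AVPair Groth.Agent.AVPrincPol
open scoped Groth.Agent.H23.PicMul

/-- A tensor product of ample modules is ample. -/
theorem isAmple_tensorMod {X : Scheme.{u}} {L L' : X.Modules} (h : CohB1.IsAmple L) (h' : CohB1.IsAmple L') :
    CohB1.IsAmple (CohB1.tensorMod L L') := AmpleX.isAmple_tensor h h'.1 fun x => by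
  obtain ⟨-, -, hx⟩ := AmpleX.isAmple_iff.1 h'
  obtain ⟨m, hm, s, hs, -⟩ := hx x
  obtain ⟨m', rfl⟩ : ∃ m', m = m' + 1 := ⟨m - 1, by omega⟩
  exact ⟨m', s, hs⟩

/-- The dual of an abelian variety over any field is an abelian variety. -/
theorem isAV_dual {k : Type u} [Field k] {A At : Over (Spec (CommRingCat.of k))} [GrpObj A] [IsProper A.hom]
    [GeometricallyIntegral A.hom] [GrpObj At] {φ : AgPol.DualMap A At}
    (hφ : AbDual.IsDualAV Scheme.fppfPrecoverage A At φ) {g : ℕ} (hg : topologicalKrullDim A.left = g) :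
    IsProper At.hom ∧ GeometricallyIntegral At.hom := by
  haveI := smooth_av A
  haveI : GeometricallyConnected A.hom := CubeAb.geometricallyConnected_of_integral A.hom
  let Ω := AlgebraicClosure k
  let q : Spec (CommRingCat.of Ω) ⟶ Spec (CommRingCat.of k) := Spec.map (CommRingCat.ofHom (algebraMap k Ω))
  haveI : IsProper (Red.bc q A).hom := MorphismProperty.pullback_snd (P := @IsProper) A.hom q inferInstance
  haveI : GeometricallyIntegral (Red.bc q A).hom :=
    MorphismProperty.pullback_snd (P := @GeometricallyIntegral) A.hom q inferInstance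
  haveI : Flat q := GrpSchLib.flat_spec_map_field _
  haveI : Surjective q := GrpSchLib.surjective_spec_map_field _
  obtain ⟨hTp', hTg', -⟩ := AVDualExist.isAV_of_isDualAV (A := Red.bc q A) (At := Red.bc q At) g
    ((FibDim.topologicalKrullDim_baseChange (IsPullback.of_hasPullback A.hom q)).trans hg) (AVField.isDualAV_bc q hφ)
  refine ⟨?_, ?_⟩
  · have := EtFound.fpqc_isProper.{u}
    exact MorphismProperty.of_pullback_snd_of_descendsAlong (P := @IsProper)
      (Q := (@Surjective ⊓ @Flat ⊓ @QuasiCompact : MorphismProperty Scheme.{u})) (g := q) (f := At.hom)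
      ⟨⟨inferInstance, inferInstance⟩, inferInstance⟩ hTp'
  haveI : ObjectProperty.IsClosedUnderIsomorphisms (fun X : Scheme.{u} => IsIntegral X) :=
    ⟨fun {X Y} e hX => by
      haveI : IsIntegral X := hX
      haveI : Nonempty Y := ⟨e.hom.base (Classical.arbitrary X)⟩
      exact isIntegral_of_isOpenImmersion e.inv⟩
  exact ⟨FBaseLib.geometrically_of_surjective (P := fun X : Scheme.{u} => IsIntegral X)
    (fun {Z W} w _ _ hz => by
      haveI : IsIntegral Z := hz
      haveI := FBaseLib.isReduced_of_flat_surjective w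
      haveI := FBaseLib.irreducibleSpace_of_surjective w
      exact isIntegral_of_irreducibleSpace_of_isReduced W) At.hom q hTg'.geometrically_isIntegral⟩

section Class

variable {k : Type u} [Field k] {A : Over (Spec (CommRingCat.of k))} [GrpObj A] [IsProper A.hom]
  [GeometricallyIntegral A.hom]

/-- The pairing of inverse points. -/
theorem E_inv_inv {l d : PicF.Cl A.left} (hl : PicF.IsInvertibleCl l) (hld : l * d = 1)
    {T : Over (Spec (CommRingCat.of k))} (x y : T ⟶ A) : E l d x⁻¹ y⁻¹ = E l d x y := by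
  have h1 : E l d x⁻¹ y * E l d x⁻¹ y⁻¹ = 1 := by
    rw [← E_mul_right hl hld, mul_inv_cancel, E_one_right hl hld]
  have h2 : E l d x y * E l d x⁻¹ y = 1 := by
    rw [← E_mul_left hl hld, mul_inv_cancel, E_one_left hl hld]
  calc E l d x⁻¹ y⁻¹ = (E l d x y * E l d x⁻¹ y) * E l d x⁻¹ y⁻¹ := by rw [h2, _root_.one_mul]
    _ = E l d x y * (E l d x⁻¹ y * E l d x⁻¹ y⁻¹) := _root_.mul_assoc _ _ _
    _ = E l d x y := by rw [h1, _root_.mul_one]

theorem E_fst_snd (l d : PicF.Cl A.left) : E l d (fst A A) (snd A A) = AVField.mum l d := by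
  rw [E, lift_fst_snd, pl_id]

/-- The Mumford class of a symmetrisation is the square of the Mumford class. -/
theorem mum_symm {l d : PicF.Cl A.left} (hl : PicF.IsInvertibleCl l) (hld : l * d = 1) :
    AVField.mum (l * pl (𝟙 A)⁻¹ l) (d * pl (𝟙 A)⁻¹ d) = AVField.mum (l * l) (d * d) := by
  haveI : IsCommMonObj A := isCommMonObj_of_isProper_of_geometricallyIntegral A
  have hi : IsMonHom ((𝟙 A)⁻¹ : A ⟶ A) := inferInstance
  rw [← E_fst_snd, ← E_fst_snd (l * l), E_mul, E_mul, E_pullback, GrpObj.comp_inv, GrpObj.comp_inv, Category.comp_id,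
    Category.comp_id, E_inv_inv hl hld]

/-- The Mumford class on the diagonal. -/
theorem pl_diag_mum {l d : PicF.Cl A.left} (hl : PicF.IsInvertibleCl l) (hld : l * d = 1) :
    pl (lift (𝟙 A) (𝟙 A)) (AVField.mum l d) = l * pl (𝟙 A)⁻¹ l := by
  obtain ⟨L, rfl, hL⟩ := hl
  have h3 : pl (𝟙 A ^ 2) (PicF.cl L) = PicF.cl L ^ 3 * pl (𝟙 A)⁻¹ (PicF.cl L) := by
    have h := congrArg Units.val (AVEuler.pc_pow (A := A) hL 2)
    rw [show Nat.choose (2 + 1) 2 = 3 from rfl, show Nat.choose 2 2 = 1 from rfl, pow_one, Units.val_mul,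
      Units.val_pow_eq_pow_val, AVCube.val_pc_id] at h
    exact h
  simp only [AVField.mum, map_mul, pl_pl, lift_fst, lift_snd, pl_id]
  rw [show lift (𝟙 A) (𝟙 A) ≫ μ[A] = 𝟙 A ^ 2 from (sq (𝟙 A)).symm, h3]
  calc PicF.cl L ^ 3 * pl (𝟙 A)⁻¹ (PicF.cl L) * d * d
      = (PicF.cl L * d) * (PicF.cl L * d) * (PicF.cl L * pl (𝟙 A)⁻¹ (PicF.cl L)) := by
        rw [pow_succ, sq]; ac_rfl
    _ = _ := by rw [hld, _root_.one_mul, _root_.one_mul]

/-- The symmetrisation of an ample module is ample, of Euler characteristic `2 ^ g` times the original one. -/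
theorem euler_symm {At : Over (Spec (CommRingCat.of k))} [GrpObj At] [IsProper At.hom] [GeometricallyIntegral At.hom]
    {φ : AgPol.DualMap A At} (hφ : AbDual.IsDualAV Scheme.fppfPrecoverage A At φ) {g : ℕ}
    (hg : topologicalKrullDim A.left = g) {L : A.left.Modules} (hL : CohB1.IsAmple L) {d : PicF.Cl A.left}
    (hld : PicF.cl L * d = 1) {M : A.left.Modules} (hM : PicF.cl M = PicF.cl L * pl (𝟙 A)⁻¹ (PicF.cl L)) :
    CohB1.IsAmple M ∧ @Curv2.euler k _ A.left ⟨A.hom⟩ M = 2 ^ g * @Curv2.euler k _ A.left ⟨A.hom⟩ L := by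
  letI : A.left.Over (Spec (CommRingCat.of k)) := ⟨A.hom⟩
  haveI : IsProper (A.left ↘ Spec (CommRingCat.of k)) := ‹IsProper A.hom›
  haveI := CurveCohLib.isNoetherian_of_proper (k := k) (X := A.left)
  haveI := smooth_av A
  haveI : GeometricallyConnected A.hom := CubeAb.geometricallyConnected_of_integral A.hom
  haveI : IsCommMonObj A := isCommMonObj_of_isProper_of_geometricallyIntegral A
  haveI : CompactSpace A.left := hL.2.1
  haveI : QuasiSeparatedSpace A.left := inferInstance
  let ν : A.left ⟶ A.left := ((𝟙 A)⁻¹ : A ⟶ A).left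
  haveI : IsIso ν := by
    haveI : IsIso ((𝟙 A)⁻¹ : A ⟶ A) := ⟨(𝟙 A)⁻¹, by
      rw [GrpObj.comp_inv, Category.comp_id, _root_.inv_inv], by
      rw [GrpObj.comp_inv, Category.comp_id, _root_.inv_inv]⟩
    exact (Over.forget _).map_isIso ((𝟙 A)⁻¹ : A ⟶ A)
  obtain ⟨e⟩ := PicMul.cl_eq_iff.1 (show PicF.cl M = PicF.cl (CohB1.tensorMod L ((Scheme.Modules.pullback ν).obj L)) by
    rw [hM, PicMul.cl_tensor]; rfl)
  have hMa : CohB1.IsAmple M := AmpleX.isAmple_of_iso e.symm
    (isAmple_tensorMod hL (RGLib.Lim8.isAmple_pullback_affine ν hL))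
  refine ⟨hMa, ?_⟩
  have hL2 := AmpleX.isAmple_tensorPow hL (show 0 < 2 by norm_num)
  have hdM : PicF.cl M * (d * pl (𝟙 A)⁻¹ d) = 1 := by
    rw [hM]
    calc _ = (PicF.cl L * d) * pl (𝟙 A)⁻¹ (PicF.cl L * d) := by rw [map_mul]; ac_rfl
      _ = 1 := by rw [hld, map_one, _root_.mul_one]
  have hd2 : PicF.cl (CohB1.tensorPow L 2) * (d * d) = 1 := by
    rw [PicMul.cl_tensorPow, sq]
    calc _ = (PicF.cl L * d) * (PicF.cl L * d) := by ac_rfl
      _ = 1 := by rw [hld, _root_.one_mul]
  obtain ⟨-, -, -, h1⟩ := AVField.isogeny_phi_mum hφ hMa hdM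
  obtain ⟨-, -, -, h2⟩ := AVField.isogeny_phi_mum hφ hL2 hd2
  obtain ⟨y⟩ : Nonempty At.left := by
    haveI : IsIntegral At.left := GeometricallyIntegral.isIntegral_of_subsingleton At.hom
    infer_instance
  have hsq : @Curv2.euler k _ A.left ⟨A.hom⟩ M ^ 2 = @Curv2.euler k _ A.left ⟨A.hom⟩ (CohB1.tensorPow L 2) ^ 2 := by
    rw [← h1 y, ← h2 y]
    congr 2
    rw [hM, mum_symm ⟨L, rfl, hL.1⟩ hld, PicMul.cl_tensorPow, sq]
  obtain ⟨D, hD, hLD⟩ : ∃ D : A.left.Modules, PicF.IsInvertible D ∧ PicF.cl L * PicF.cl D = 1 := by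
    obtain ⟨D, hD, ⟨e'⟩⟩ := PicInv.exists_inverse hL.1
    exact ⟨D, hD, by rw [← PicMul.cl_tensor, PicMul.one_def]; exact PicMul.cl_eq_iff.2 ⟨e'⟩⟩
  have hχ2 : Curv2.euler k A.left (CohB1.tensorPow L 2) = 2 ^ g * Curv2.euler k A.left L := by
    have h := AVEuler.euler_homogeneous hg hL.1 hD hLD 2 0
    have he : Curv2.euler k A.left (CohB1.tensorMod (CohB1.tensorPow L 2) (CohB1.tensorPow D 0)) =
        Curv2.euler k A.left (CohB1.tensorPow L 2) := by
      refine CurveCohLib.euler_congr (k := k) (PicMul.cl_eq_iff.1 ?_).some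
      rw [PicMul.cl_tensor, PicMul.cl_tensorPow D 0, pow_zero, _root_.mul_one]
    rw [he, Nat.cast_zero, sub_zero] at h
    exact_mod_cast h
  have hpos : ∀ {N : A.left.Modules}, CohB1.IsAmple N → 0 ≤ Curv2.euler k A.left N := fun {N} hN => by
    rw [VolLib.euler_one (k := k) (AVEuler.ample_vanishing_field hN).1]
    exact Int.natCast_nonneg _
  rw [← hχ2]
  exact (sq_eq_sq₀ (hpos hMa) (hpos hL2)).1 hsq

end Class

/-- **The module of a polarisation.** A polarised abelian variety over any field has, over that field, an ample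
module of Euler characteristic `2 ^ g * d`. -/
theorem exists_ample_euler {k : Type u} [Field k] (B Bt : Over (Spec (CommRingCat.of k))) [GrpObj B]
    [IsProper B.hom] [GeometricallyIntegral B.hom] [GrpObj Bt] {φ : AgPol.DualMap B Bt}
    (hφ : AbDual.IsDualAV Scheme.fppfPrecoverage B Bt φ) {lam : B ⟶ Bt} (hpol : AgPol.IsPolarization B Bt φ lam)
    {d : ℕ} (hdeg : AgPol.HasDegSq lam d) {g : ℕ} (hg : topologicalKrullDim B.left = g) :
    ∃ M : B.left.Modules, CohB1.IsAmple M ∧
      @Curv2.euler k _ B.left ⟨B.hom⟩ M = ((2 ^ g * d : ℕ) : ℤ) := by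
  haveI : IsIntegral B.left := GeometricallyIntegral.isIntegral_of_subsingleton B.hom
  haveI := smooth_av B
  haveI : GeometricallyConnected B.hom := CubeAb.geometricallyConnected_of_integral B.hom
  obtain ⟨hBtp, hBtg⟩ := isAV_dual hφ hg
  haveI := hBtp; haveI := hBtg
  haveI := smooth_av Bt
  haveI : GeometricallyConnected Bt.hom := CubeAb.geometricallyConnected_of_integral Bt.hom
  obtain ⟨P, hP, hξ⟩ := AVField.exists_poincare' hφ
  let M : B.left.Modules := (Scheme.Modules.pullback (lift (𝟙 B) lam).left).obj P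
  have hMi : PicF.IsInvertible M := PicClLib.isInvertible_pullback _ hP
  let Ω := AlgebraicClosure k
  let t : Spec (CommRingCat.of Ω) ⟶ Spec (CommRingCat.of k) := Spec.map (CommRingCat.ofHom (algebraMap k Ω))
  haveI : Surjective t := ⟨fun x => ⟨IsLocalRing.closedPoint Ω, Subsingleton.elim _ _⟩⟩
  let B' := Red.bc t B
  let Bt' := Red.bc t Bt
  haveI : IsProper B'.hom := MorphismProperty.pullback_snd (P := @IsProper) B.hom t inferInstance
  haveI : GeometricallyIntegral B'.hom :=
    MorphismProperty.pullback_snd (P := @GeometricallyIntegral) B.hom t inferInstance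
  haveI : IsProper Bt'.hom := MorphismProperty.pullback_snd (P := @IsProper) Bt.hom t inferInstance
  haveI : GeometricallyIntegral Bt'.hom :=
    MorphismProperty.pullback_snd (P := @GeometricallyIntegral) Bt.hom t inferInstance
  haveI := smooth_av B'
  haveI : GeometricallyConnected B'.hom := CubeAb.geometricallyConnected_of_integral B'.hom
  have hφ' : AbDual.IsDualAV Scheme.fppfPrecoverage B' Bt' (AgPol.bcDual t B Bt φ) := AVField.isDualAV_bc t hφ
  obtain ⟨L, hL, N, hN, hN', hφN⟩ := hpol.2 Ω t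
  obtain ⟨D, hD, ⟨e⟩⟩ := PicInv.exists_inverse hL.1
  have hLD : PicF.cl L * PicF.cl D = 1 := by rw [← PicMul.cl_tensor]; exact PicMul.cl_eq_iff.2 ⟨e⟩
  have hl : PicF.IsInvertibleCl (PicF.cl L) := ⟨L, rfl, hL.1⟩
  let lam' : B' ⟶ Bt' := (Over.pullback t).map lam
  rw [AVBase.cl_eq_mum hN' hLD] at hφN
  let ξ' : PicF.Cl (B' ⊗ Bt').left := JacBC.poinBC t (PicF.cl P)
  have hξ' : AbDual.IsPoincareCl B' Bt' (AgPol.bcDual t B Bt φ) ξ' := JacBC.isPoincareCl_bc t hφ hξ
  haveI : IsCommMonObj B' := isCommMonObj_of_isProper_of_geometricallyIntegral B'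
  have key : AVBase.pb (B' ◁ lam') ξ' = AVField.mum (PicF.cl L) (PicF.cl D) := by
    refine AVBase.eq_of_point hφ' (AVBase.pz_graph hξ' lam') (AVField.pz_mum hl hLD) ?_ ?_ ?_
    · rw [AVBase.phi_graph hφ' hξ', hφN]
    · rw [AVBase.pb_pb, lift_whiskerLeft, Category.id_comp, AVBase.graph_rigid hξ']
    · exact (AVPrincPol.mum_axes hl hLD).1
  -- the pulled back module is the symmetrisation
  have hgraph : (lift (𝟙 B') lam').left ≫ ((AgPol.bcXTIso t B Bt').hom ≫ PicF.XTmap B.hom (JacBC.prO t Bt)) =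
      pullback.fst B.hom t ≫ (lift (𝟙 B) lam).left := by
    refine pullback.hom_ext ?_ ?_
    · rw [Category.assoc, Category.assoc, Category.assoc]
      refine (congrArg (fun m => (lift (𝟙 B') lam').left ≫ (AgPol.bcXTIso t B Bt').hom ≫ m)
        (pullback.lift_fst _ _ _)).trans ?_
      rw [show (lift (𝟙 B) lam).left ≫ pullback.fst B.hom Bt.hom = (lift (𝟙 B) lam ≫ fst B Bt).left from rfl,
        lift_fst, Over.id_left, Category.comp_id]
      refine (congrArg ((lift (𝟙 B') lam').left ≫ ·) (show _ = (fst B' Bt').left ≫ pullback.fst B.hom t from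
        pullbackLeftPullbackSndIso_hom_fst B.hom t Bt'.hom)).trans ?_
      rw [← Category.assoc, ← Over.comp_left, lift_fst, Over.id_left, Category.id_comp]
      exact (Category.comp_id _).symm
    · rw [Category.assoc, Category.assoc, Category.assoc]
      refine (congrArg (fun m => (lift (𝟙 B') lam').left ≫ (AgPol.bcXTIso t B Bt').hom ≫ m)
        (pullback.lift_snd _ _ _)).trans ?_
      rw [show (lift (𝟙 B) lam).left ≫ pullback.snd B.hom Bt.hom = (lift (𝟙 B) lam ≫ snd B Bt).left from rfl,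
        lift_snd]
      refine (congrArg ((lift (𝟙 B') lam').left ≫ ·) ((Category.assoc _ _ _).symm.trans
        (congrArg (· ≫ (JacBC.prO t Bt).left) (show _ = (snd B' Bt').left from
        pullbackLeftPullbackSndIso_hom_snd B.hom t Bt'.hom)))).trans ?_
      rw [← Category.assoc, ← Over.comp_left, lift_snd, JacBC.prO_left]
      exact pullback.lift_fst _ _ _
  have hcl : PicF.cl ((Scheme.Modules.pullback (pullback.fst B.hom t)).obj M) =
      PicF.cl L * pl (𝟙 B')⁻¹ (PicF.cl L) := by
    rw [← pl_diag_mum hl hLD, ← key]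
    show PicF.pullCl (pullback.fst B.hom t) (PicF.pullCl (lift (𝟙 B) lam).left (PicF.cl P)) = _
    rw [PicClLib.pullCl_comp, ← hgraph]
    show _ = AVBase.pb (lift (𝟙 B') (𝟙 B')) (AVBase.pb (B' ◁ lam') ξ')
    rw [AVBase.pb_pb, lift_whiskerLeft, Category.id_comp]
    exact (PicClLib.pullCl_comp _ _ _).symm
  have hg' : topologicalKrullDim B'.left = g :=
    (FibDim.topologicalKrullDim_baseChange (IsPullback.of_hasPullback B.hom t)).trans hg
  obtain ⟨hMa', hM'⟩ := euler_symm hφ' hg' hL hLD hcl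
  refine ⟨M, AVProj.isAmple_of_baseChange B.hom M hMi (K' := Ω) ?_, ?_⟩
  · exact hMa'
  -- Euler characteristics
  letI : B.left.Over (Spec (CommRingCat.of k)) := ⟨B.hom⟩
  letI : B'.left.Over (Spec (CommRingCat.of Ω)) := ⟨B'.hom⟩
  haveI : CompactSpace B.left := QuasiCompact.compactSpace_of_compactSpace B.hom
  haveI : IsProper (B.left ↘ Spec (CommRingCat.of k)) := ‹IsProper B.hom›
  haveI := CurveCohLib.isNoetherian_of_proper (k := k) (X := B.left)
  rw [← CurveBC.euler_eq k Ω (pullback.fst B.hom t) (IsPullback.of_hasPullback B.hom t) M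
    (AmpleVan.isCoh_invertible hMi).1]
  refine hM'.trans ?_
  obtain ⟨-, -, -, hr⟩ := AVField.isogeny_phi_mum hφ' hL hLD
  obtain ⟨y⟩ : Nonempty Bt'.left := by
    haveI : IsIntegral Bt'.left := GeometricallyIntegral.isIntegral_of_subsingleton Bt'.hom
    infer_instance
  have h := hr y
  rw [hφN] at h
  obtain ⟨hf, hfl, hlfp, hd⟩ := hdeg
  haveI := hf; haveI := hfl; haveI := hlfp
  rw [Scheme.Hom.finrank_of_isPullback _ _ _ _ (AVField.isPullback_map t lam) y, hd] at h
  have hpos : 0 ≤ Curv2.euler Ω B'.left L := by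
    haveI : IsProper (B'.left ↘ Spec (CommRingCat.of Ω)) := ‹IsProper B'.hom›
    haveI := CurveCohLib.isNoetherian_of_proper (k := Ω) (X := B'.left)
    rw [VolLib.euler_one (k := Ω) (AVEuler.ample_vanishing_field hL).1]
    exact Int.natCast_nonneg _
  have hd' : Curv2.euler Ω B'.left L = d := (sq_eq_sq₀ hpos (Int.natCast_nonneg _)).1 (by exact_mod_cast h.symm)
  rw [hd']
  push_cast
  rfl

end Groth.Agent.TateIsog
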