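import Groth.Agent.TateIsog.Hom
import Mathlib.Topology.Instances.Matrix
import Mathlib.NumberTheory.Padics.PadicIntegers
import Mathlib.LinearAlgebra.Charpoly.Basic
import Mathlib.LinearAlgebra.Determinant

/-!
# Isogenies and Tate modules over a finite field
-/

noncomputable section

set_option autoImplicit false
set_option linter.style.haveILetI false
set_option linter.unusedSectionVars false
set_option backward.isDefEq.respectTransparency false
set_option backward.isDefEq.respectTransparency.types false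
set_option maxHeartbeats 1000000
set_option synthInstance.maxHeartbeats 200000

universe u

open CategoryTheory CategoryTheory.Limits MonoidalCategory CartesianMonoidalCategory MonObj GrpObj AlgebraicGeometry
open scoped TensorProduct

namespace Groth.Agent.TateIsog

open Groth.Agent Groth.Agent.H23

variable {k Ω : Type u} [Field k] [Field Ω] [Algebra k Ω] [IsAlgClosure k Ω] (l : ℕ) [Fact l.Prime]

local notation "pΩ" => SGA7.pt (K := k) Ω

section General

variable {A B C : Over (Spec (CommRingCat.of k))} [GrpObj A] [IsCommMonObj A] [GrpObj B] [IsCommMonObj B]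
  [GrpObj C] [IsCommMonObj C]

variable (Ω) in
/-- The map on rational Tate modules. -/
def ratMap (φ : EndAV.Hom A B) :
    ℚ_[l] ⊗[ℤ_[l]] AbDual.TateMod A l pΩ →ₗ[ℚ_[l]] ℚ_[l] ⊗[ℤ_[l]] AbDual.TateMod B l pΩ :=
  (EndAV.Hom.tateMap l pΩ φ).baseChange ℚ_[l]

theorem ratMap_comp (φ : EndAV.Hom A B) (ψ : EndAV.Hom B C) :
    ratMap Ω l (φ ≫ ψ) = ratMap Ω l ψ ∘ₗ ratMap Ω l φ := by
  rw [ratMap, ratMap, ratMap, ← LinearMap.baseChange_comp]
  congr 1

theorem ratMap_add (φ ψ : EndAV.Hom A B) : ratMap Ω l (φ + ψ) = ratMap Ω l φ + ratMap Ω l ψ := by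
  rw [ratMap, map_add, LinearMap.baseChange_add]; rfl

theorem ratMap_zero : ratMap Ω l (0 : EndAV.Hom A B) = 0 := by
  rw [ratMap, map_zero, LinearMap.baseChange_zero]

variable (Ω) in
/-- The map on rational Tate modules, additively. -/
def ratHom : EndAV.Hom A B →+
    (ℚ_[l] ⊗[ℤ_[l]] AbDual.TateMod A l pΩ →ₗ[ℚ_[l]] ℚ_[l] ⊗[ℤ_[l]] AbDual.TateMod B l pΩ) where
  toFun := ratMap Ω l
  map_zero' := ratMap_zero l
  map_add' := ratMap_add l

theorem ratMap_id : ratMap Ω l (𝟙 (CommGrp.mk A) : EndAV.Hom A A) = LinearMap.id := by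
  rw [ratMap, show EndAV.Hom.tateMap l pΩ (𝟙 (CommGrp.mk A) : EndAV.Hom A A) = LinearMap.id from
    tate_eq_id l (𝟙 A) rfl, LinearMap.baseChange_id]

theorem homSet_eq_range (A B : Over (Spec (CommRingCat.of k))) [GrpObj A] [IsCommMonObj A] [GrpObj B]
    [IsCommMonObj B] : homSet (Ω := Ω) l A B = Set.range (ratMap Ω l (A := A) (B := B)) := by
  rw [homSet, homSetInt_eq_range, ← Set.range_comp]
  rfl

theorem ratMap_gal (φ : EndAV.Hom A B) (τ : Ω ≃ₐ[k] Ω) :
    ratMap Ω l φ ∘ₗ (gal l A τ).baseChange ℚ_[l] = (gal l B τ).baseChange ℚ_[l] ∘ₗ ratMap Ω l φ := by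
  rw [ratMap, ← LinearMap.baseChange_comp, ← LinearMap.baseChange_comp]
  congr 1

end General

section AV

variable {A B : Over (Spec (CommRingCat.of k))} [GrpObj A] [IsCommMonObj A] [IsProper A.hom]
  [GeometricallyIntegral A.hom] [GrpObj B] [IsCommMonObj B] [IsProper B.hom] [GeometricallyIntegral B.hom]

/-- Independent homomorphisms give independent maps of rational Tate modules. -/
theorem linearIndependent_ratMap (hl : (l : k) ≠ 0) {σ : Type*} (a : σ → EndAV.Hom A B)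
    (ha : LinearIndependent ℤ a) : LinearIndependent ℚ_[l] fun i => ratMap Ω l (a i) := by
  haveI := IsAlgClosure.isAlgClosed k (K := Ω)
  obtain ⟨g, hg⟩ := TorsPtsLib.exists_dim B
  obtain ⟨hfree, -, -⟩ := AVHomForm.tate_free Ω l hl B hg
  haveI := hfree
  refine (LinearIndependent.iff_fractionRing ℤ_[l] ℚ_[l]).1 ?_
  exact (AVHomForm.linearIndependent_tateMap Ω l hl a ha).map'
    ({ toFun := fun u => u.baseChange ℚ_[l]
       map_add' := fun u v => LinearMap.baseChange_add u v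
       map_smul' := fun c u => LinearMap.baseChange_smul c u } :
      (AbDual.TateMod A l pΩ →ₗ[ℤ_[l]] AbDual.TateMod B l pΩ) →ₗ[ℤ_[l]]
        (ℚ_[l] ⊗[ℤ_[l]] AbDual.TateMod A l pΩ →ₗ[ℚ_[l]] ℚ_[l] ⊗[ℤ_[l]] AbDual.TateMod B l pΩ))
    (LinearMap.ker_eq_bot.2 (baseChange_injective l))

/-- The span of the homomorphism maps is the span of a basis. -/
theorem span_homSet_eq {σ : Type*} (b : Module.Basis σ ℤ (EndAV.Hom A B)) :
    Submodule.span ℚ_[l] (homSet (Ω := Ω) l A B) =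
      Submodule.span ℚ_[l] (Set.range fun i => ratMap Ω l (b i)) := by
  refine le_antisymm (Submodule.span_le.2 ?_) (Submodule.span_mono ?_)
  · rw [homSet_eq_range]
    rintro _ ⟨φ, rfl⟩
    show ratHom Ω l φ ∈ Submodule.span ℚ_[l] _
    rw [← b.linearCombination_repr φ, Finsupp.linearCombination_apply, Finsupp.sum, map_sum]
    refine sum_mem fun i _ => ?_
    rw [map_zsmul]
    exact zsmul_mem (Submodule.subset_span (Set.mem_range_self i)) _
  · rw [homSet_eq_range]
    rintro _ ⟨i, rfl⟩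
    exact ⟨_, rfl⟩

/-- The rank of the group of homomorphisms. -/
theorem finrank_span_homSet (hl : (l : k) ≠ 0) :
    Module.finrank ℚ_[l] (Submodule.span ℚ_[l] (homSet (Ω := Ω) l A B)) = Module.finrank ℤ (EndAV.Hom A B) := by
  haveI := AVHomForm.moduleFinite_hom (A := A) (B := B)
  haveI := AVHomForm.moduleFree_hom (A := A) (B := B)
  let b := Module.Free.chooseBasis ℤ (EndAV.Hom A B)
  rw [span_homSet_eq l b, finrank_span_eq_card (linearIndependent_ratMap l hl b b.linearIndependent),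
    Module.finrank_eq_card_basis b]

theorem ratMap_injective (hl : (l : k) ≠ 0) : Function.Injective (ratMap Ω l (A := A) (B := B)) := by
  classical
  haveI := AVHomForm.moduleFinite_hom (A := A) (B := B)
  haveI := AVHomForm.moduleFree_hom (A := A) (B := B)
  let b := Module.Free.chooseBasis ℤ (EndAV.Hom A B)
  refine (injective_iff_map_eq_zero (ratHom Ω l (A := A) (B := B))).2 fun φ hφ => ?_
  have hli := linearIndependent_ratMap (Ω := Ω) l hl b b.linearIndependent
  rw [← b.sum_repr φ, map_sum] at hφ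
  simp only [map_zsmul, ← Int.cast_smul_eq_zsmul ℚ_[l]] at hφ
  refine b.ext_elem_iff.2 fun i => ?_
  rw [map_zero]
  exact Int.cast_injective (α := ℚ_[l]) (by
    rw [Finsupp.zero_apply, Int.cast_zero]
    exact Fintype.linearIndependent_iff.1 hli _ hφ i)

/-- Approximating an invertible combination by an actual homomorphism. -/
theorem exists_injective_ratMap (hl : (l : k) ≠ 0)
    (e : (ℚ_[l] ⊗[ℤ_[l]] AbDual.TateMod A l pΩ) ≃ₗ[ℚ_[l]] (ℚ_[l] ⊗[ℤ_[l]] AbDual.TateMod B l pΩ))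
    (he : (e : ℚ_[l] ⊗[ℤ_[l]] AbDual.TateMod A l pΩ →ₗ[ℚ_[l]] ℚ_[l] ⊗[ℤ_[l]] AbDual.TateMod B l pΩ) ∈
      Submodule.span ℚ_[l] (homSet (Ω := Ω) l A B)) :
    ∃ φ : EndAV.Hom A B, Function.Bijective (ratMap Ω l φ) := by
  classical
  haveI := IsAlgClosure.isAlgClosed k (K := Ω)
  obtain ⟨g, hg⟩ := TorsPtsLib.exists_dim A
  obtain ⟨hfree, hfin, -⟩ := AVHomForm.tate_free Ω l hl A hg
  haveI := hfree; haveI := hfin
  haveI := AVHomForm.moduleFinite_hom (A := A) (B := B)
  haveI := AVHomForm.moduleFree_hom (A := A) (B := B)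
  let b := Module.Free.chooseBasis ℤ (EndAV.Hom A B)
  rw [span_homSet_eq l b, Submodule.mem_span_range_iff_exists_fun] at he
  obtain ⟨c, hc⟩ := he
  choose s z hz using fun i => exists_pow_mul_eq l (c i)
  let bV := Module.Free.chooseBasis ℚ_[l] (ℚ_[l] ⊗[ℤ_[l]] AbDual.TateMod A l pΩ)
  let M := fun i => LinearMap.toMatrix bV bV (e.symm.toLinearMap ∘ₗ ratMap Ω l (b i))
  let F : (Module.Free.ChooseBasisIndex ℤ (EndAV.Hom A B) → ℤ_[l]) → ℚ_[l] :=
    fun x => (∑ i, ((x i : ℚ_[l]) • M i)).det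
  have hF : Continuous F :=
    Continuous.matrix_det (continuous_finsetSum _ fun i _ =>
      Continuous.smul (show Continuous fun x : Module.Free.ChooseBasisIndex ℤ (EndAV.Hom A B) → ℤ_[l] => (x i : ℚ_[l])
        from continuous_subtype_val.comp (continuous_apply i)) continuous_const)
  have hsum : ∑ i, c i • M i = 1 := by
    simp only [M, ← map_smul, ← map_sum, ← LinearMap.comp_smul]
    rw [← LinearMap.toMatrix_id bV]
    congr 1
    refine LinearMap.ext fun v => ?_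
    rw [LinearMap.sum_apply]
    simp only [LinearMap.comp_apply, ← map_sum]
    rw [← LinearMap.sum_apply, hc]
    exact e.symm_apply_apply v
  have hne : F (fun i => ((l : ℤ_[l]) ^ ((∑ j, s j) - s i)) * z i) ≠ 0 := by
    have h : ∀ i, ((((l : ℤ_[l]) ^ ((∑ j, s j) - s i)) * z i : ℤ_[l]) : ℚ_[l]) = (l : ℚ_[l]) ^ (∑ j, s j) * c i :=
      fun i => by
        rw [PadicInt.coe_mul, PadicInt.coe_pow, PadicInt.coe_natCast, ← hz, ← _root_.mul_assoc, ← pow_add,
          Nat.sub_add_cancel (Finset.single_le_sum (fun _ _ => Nat.zero_le _) (Finset.mem_univ i))]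
    simp only [F, h, mul_smul, ← Finset.smul_sum, hsum, Matrix.det_smul, Matrix.det_one, _root_.mul_one]
    exact pow_ne_zero _ (pow_ne_zero _ (Nat.cast_ne_zero.2 (Fact.out : l.Prime).ne_zero))
  obtain ⟨n, hn⟩ := (DenseRange.piMap fun _ : Module.Free.ChooseBasisIndex ℤ (EndAV.Hom A B) =>
    PadicInt.denseRange_intCast (p := l)).exists_mem_open (isOpen_ne.preimage hF) ⟨_, hne⟩
  refine ⟨∑ i, n i • b i, ?_⟩
  have hdet : LinearMap.det (e.symm.toLinearMap ∘ₗ ratMap Ω l (∑ i, n i • b i)) ≠ 0 := by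
    rw [← LinearMap.det_toMatrix bV,
      show ratMap Ω l (∑ i, n i • b i) = ∑ i, ((n i : ℤ) : ℚ_[l]) • ratMap Ω l (b i) from by
        show ratHom Ω l _ = _
        rw [map_sum]
        simp only [map_zsmul, Int.cast_smul_eq_zsmul]
        rfl]
    have : F (Pi.map (fun _ => ((↑) : ℤ → ℤ_[l])) n) ≠ 0 := hn
    convert this using 2
    simp only [M, ← map_smul, ← map_sum, ← LinearMap.comp_smul, Pi.map, PadicInt.coe_intCast]
    congr 1
    refine LinearMap.ext fun v => ?_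
    simp only [LinearMap.comp_apply, LinearMap.sum_apply, map_sum]
  let E := LinearMap.equivOfDetNeZero _ hdet
  have hE : ⇑(ratMap Ω l (∑ i, n i • b i)) = e ∘ E := funext fun v => (e.apply_symm_apply _).symm
  rw [hE]
  exact e.bijective.comp E.bijective

/-- An endomorphism injective on the Tate module divides a positive integer. -/
theorem exists_mul_eq_natCast (hl : (l : k) ≠ 0) (h : EndAV.End A)
    (hinj : Function.Bijective (ratMap Ω l (h : EndAV.Hom A A))) :
    ∃ n : ℕ, 0 < n ∧ ∃ x : EndAV.End A, x * h = (n : EndAV.End A) := by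
  haveI : Module.Finite ℤ (EndAV.End A) := AVHomForm.moduleFinite_hom (A := A) (B := A)
  haveI := AVHomForm.noZeroSMulDivisors_hom (A := A) (B := A)
  let L : Module.End ℤ (EndAV.End A) := (AddMonoidHom.mulRight h).toIntLinearMap
  have hL : Function.Injective L := by
    refine (injective_iff_map_eq_zero L).2 fun x hx => ?_
    refine ratMap_injective (Ω := Ω) l hl (A := A) (B := A) (a₂ := 0) ?_
    rw [ratMap_zero]
    refine LinearMap.ext fun v => ?_
    obtain ⟨w, rfl⟩ := hinj.2 v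
    have := LinearMap.congr_fun (congrArg (ratMap Ω l) (show (x * h : EndAV.End A) = 0 from hx)) w
    rw [show (x * h : EndAV.End A) = (h : EndAV.Hom A A) ≫ x from rfl, ratMap_comp] at this
    exact this.trans (LinearMap.congr_fun (ratMap_zero l) w)
  obtain ⟨p, hp, -, hp0⟩ := LinearMap.exists_monic_and_natDegree_eq_and_aeval_eq_zero ℤ L
  obtain ⟨q, hq, hq0⟩ := p.exists_eq_pow_rootMultiplicity_mul_and_not_dvd hp.ne_zero (0 : ℤ)
  rw [map_zero, sub_zero] at hq hq0
  rw [Polynomial.X_dvd_iff] at hq0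
  have hqL : Polynomial.aeval L q = 0 := by
    refine LinearMap.ext fun x => ?_
    have := LinearMap.congr_fun hp0 x
    rw [hq, map_mul, map_pow, Polynomial.aeval_X] at this
    exact (injective_iff_map_eq_zero (L ^ p.rootMultiplicity 0)).1
      (by rw [Module.End.coe_pow]; exact hL.iterate _) _ this
  refine ⟨(q.coeff 0).natAbs, Int.natAbs_pos.2 hq0, ?_⟩
  have h1 := LinearMap.congr_fun hqL 1
  rw [← Polynomial.X_mul_divX_add q, map_add, map_mul, Polynomial.aeval_X, Polynomial.aeval_C] at h1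
  rw [LinearMap.add_apply, Module.End.mul_apply, Module.algebraMap_end_apply] at h1
  have h2 : (Polynomial.aeval L q.divX 1) * h = -((q.coeff 0 : ℤ) : EndAV.End A) := by
    rw [← zsmul_one]
    exact eq_neg_of_add_eq_zero_left h1
  rcases Int.natAbs_eq (q.coeff 0) with hc | hc
  · exact ⟨-(Polynomial.aeval L q.divX 1), by rw [neg_mul, h2, neg_neg, hc, Int.cast_natCast, Int.natAbs_natCast]⟩
  · exact ⟨Polynomial.aeval L q.divX 1, by
      rw [h2, hc, Int.cast_neg, neg_neg, Int.cast_natCast, Int.natAbs_neg, Int.natAbs_natCast]⟩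

theorem natCast_comp_eq (φ : EndAV.Hom A B) (n : ℕ) :
    (show EndAV.Hom A A from ((n : EndAV.End A))) ≫ φ = n • φ := EndAV.Hom.ext (by
  rw [EndAV.Hom.toHom_nsmul]
  show (n : EndAV.End A).toHom ≫ φ.toHom = _
  rw [EndAV.End.toHom_natCast, MonObj.pow_comp, Category.id_comp])

/-- **Equivariantly isomorphic Tate modules give isogenous varieties.** -/
theorem isogenous_of_equiv [Finite k] (hl : (l : k) ≠ 0)
    (e : (ℚ_[l] ⊗[ℤ_[l]] AbDual.TateMod A l pΩ) ≃ₗ[ℚ_[l]] (ℚ_[l] ⊗[ℤ_[l]] AbDual.TateMod B l pΩ))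
    (he : ∀ τ : Ω ≃ₐ[k] Ω,
      (e : ℚ_[l] ⊗[ℤ_[l]] AbDual.TateMod A l pΩ →ₗ[ℚ_[l]] ℚ_[l] ⊗[ℤ_[l]] AbDual.TateMod B l pΩ) ∘ₗ
          (gal l A τ).baseChange ℚ_[l] =
        (gal l B τ).baseChange ℚ_[l] ∘ₗ
          (e : ℚ_[l] ⊗[ℤ_[l]] AbDual.TateMod A l pΩ →ₗ[ℚ_[l]] ℚ_[l] ⊗[ℤ_[l]] AbDual.TateMod B l pΩ)) :
    ∃ (u : A ⟶ B) (_ : IsMonHom u) (v : B ⟶ A) (_ : IsMonHom v) (n : ℕ), 0 < n ∧
      u ≫ v = (𝟙 A) ^ n ∧ v ≫ u = (𝟙 B) ^ n := by
  obtain ⟨φ, hφ⟩ := exists_injective_ratMap l hl e (hom_mem_span l hl _ he)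
  obtain ⟨ψ, hψ⟩ := exists_injective_ratMap l hl e.symm (hom_mem_span l hl _ fun τ => LinearMap.ext fun v => by
    simp only [LinearMap.comp_apply, LinearEquiv.coe_coe]
    refine e.injective ?_
    have := LinearMap.congr_fun (he τ) (e.symm v)
    simp only [LinearMap.comp_apply, LinearEquiv.coe_coe, e.apply_symm_apply] at this
    rw [e.apply_symm_apply]
    exact this.symm)
  obtain ⟨n, hn, x, hx⟩ := exists_mul_eq_natCast (Ω := Ω) l hl (φ ≫ ψ : EndAV.End A) (by
    rw [ratMap_comp]; exact hψ.comp hφ)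
  let ψ' : EndAV.Hom B A := ψ ≫ x
  have h1 : φ ≫ ψ' = (n : EndAV.End A) := by
    rw [← hx]; exact (Category.assoc _ _ _).symm
  have h2 : ψ' ≫ φ = (n : EndAV.End B) := by
    refine ratMap_injective (Ω := Ω) l hl (A := B) (B := B) (LinearMap.ext fun v => ?_)
    obtain ⟨w, rfl⟩ := hφ.2 v
    rw [← LinearMap.comp_apply (ratMap Ω l (ψ' ≫ φ)), ← ratMap_comp, ← Category.assoc, h1, natCast_comp_eq,
      ← LinearMap.comp_apply (ratMap Ω l ((n : EndAV.End B) : EndAV.Hom B B)), ← ratMap_comp]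
    congr 2
    refine EndAV.Hom.ext ?_
    rw [EndAV.Hom.toHom_nsmul]
    show _ = φ.toHom ≫ (n : EndAV.End B).toHom
    rw [EndAV.End.toHom_natCast, MonObj.comp_pow, Category.comp_id]
  refine ⟨φ.toHom, inferInstance, ψ'.toHom, inferInstance, n, hn, ?_, ?_⟩
  · rw [← EndAV.End.toHom_natCast, ← h1]; rfl
  · rw [← EndAV.End.toHom_natCast, ← h2]; rfl

/-- Isogenies induce isomorphisms of rational Tate modules. -/
theorem ratMap_bijective_of_isogeny {C D : Over (Spec (CommRingCat.of k))} [GrpObj C] [IsCommMonObj C] [GrpObj D]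
    [IsCommMonObj D] (u : C ⟶ D) [IsMonHom u] (v : D ⟶ C) [IsMonHom v] (n : ℕ) (hn : 0 < n)
    (h₁ : u ≫ v = (𝟙 C) ^ n) (h₂ : v ≫ u = (𝟙 D) ^ n) :
    Function.Bijective (ratMap Ω l (EndAV.Hom.of u)) := by
  have key : ∀ {C D : Over (Spec (CommRingCat.of k))} [GrpObj C] [IsCommMonObj C] [GrpObj D] [IsCommMonObj D]
      (u : C ⟶ D) [IsMonHom u] (v : D ⟶ C) [IsMonHom v], u ≫ v = (𝟙 C) ^ n →
        ∀ w, ratMap Ω l (EndAV.Hom.of v) (ratMap Ω l (EndAV.Hom.of u) w) = ((n : ℚ_[l])) • w := by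
    intro C D _ _ _ _ u _ v _ h w
    have he : (EndAV.Hom.of u ≫ EndAV.Hom.of v : EndAV.Hom C C) = n • 𝟙 (CommGrp.mk C) :=
      EndAV.Hom.ext (by rw [EndAV.Hom.toHom_nsmul]; exact h)
    rw [← LinearMap.comp_apply, ← ratMap_comp, he]
    show ratHom Ω l (n • (𝟙 (CommGrp.mk C) : EndAV.Hom C C)) w = _
    rw [map_nsmul]
    show (n • ratMap Ω l (𝟙 (CommGrp.mk C) : EndAV.Hom C C)) w = _
    rw [ratMap_id, LinearMap.smul_apply, LinearMap.id_apply, ← Nat.cast_smul_eq_nsmul ℚ_[l]]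
  have hn0 : (n : ℚ_[l]) ≠ 0 := Nat.cast_ne_zero.2 hn.ne'
  refine ⟨fun a b hab => ?_, fun w => ⟨ratMap Ω l (EndAV.Hom.of v) ((n : ℚ_[l])⁻¹ • w), ?_⟩⟩
  · have := congrArg (ratMap Ω l (EndAV.Hom.of v)) hab
    rw [key u v h₁, key u v h₁] at this
    exact smul_right_injective _ hn0 this
  · rw [key v u h₂, smul_smul, mul_inv_cancel₀ hn0, one_smul]

end AV

end Groth.Agent.TateIsog
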