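import Groth.Agent.TateIsog.Dim

/-!
# The endomorphism algebra when Frobenius generates a field
-/

noncomputable section

set_option autoImplicit false
set_option linter.style.haveILetI false
set_option linter.unusedSectionVars false
set_option backward.isDefEq.respectTransparency false
set_option backward.isDefEq.respectTransparency.types false
set_option maxHeartbeats 1000000
set_option synthInstance.maxHeartbeats 200000

universe u

open CategoryTheory CategoryTheory.Limits MonoidalCategory CartesianMonoidalCategory MonObj GrpObj AlgebraicGeometry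
open scoped TensorProduct
open Polynomial UniqueFactorizationMonoid

namespace Groth.Agent.TateIsog

open Groth.Agent

variable {k Ω : Type u} [Field k] [Finite k] [Field Ω] [Algebra k Ω] [IsAlgClosure k Ω] (l : ℕ) [Fact l.Prime]
  {A : Over (Spec (CommRingCat.of k))} [GrpObj A] [IsCommMonObj A] [IsProper A.hom] [GeometricallyIntegral A.hom]

local notation "pΩ" => SGA7.pt (K := k) Ω

/-- **The invariants when `ℚ[π]` is a field.** -/
theorem field_invariants (hl : (l : k) ≠ 0) (π : EndAV.End A) (hπ : WeilLib.IsPowMap π.toHom.left (Nat.card k))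
    [Module.Free ℤ_[l] (AbDual.TateMod A l pΩ)] [Module.Finite ℤ_[l] (AbDual.TateMod A l pΩ)]
    {g : ℕ} (hg : topologicalKrullDim A.left = g) {P : ℤ[X]}
    (hP : (EndAV.End.tateRep l pΩ π).charpoly = P.map (Int.castRingHom ℤ_[l])) (hK : IsField (EndAV.QAdj π)) :
    ∃ d : ℕ, Module.finrank ℚ (EndAV.End0 A) = Module.finrank ℚ (EndAV.QAdj π) * d ^ 2 ∧
      d * Module.finrank ℚ (EndAV.QAdj π) = 2 * g ∧
      P.map (Int.castRingHom ℚ) = minpoly ℚ (EndAV.toEnd0 π) ^ d := by
  classical
  haveI := IsAlgClosure.isAlgClosed k (K := Ω)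
  obtain ⟨hPm, hPd, hPdeg⟩ := AVFrobLib.degPoly_of_charpoly Ω l hl hg π hP
  obtain ⟨ν, hm, h0, he, hli⟩ := AVCharpoly.exists_int_minpoly π
  have hint : _root_.IsIntegral ℚ (EndAV.toEnd0 π) := ⟨ν.map (Int.castRingHom ℚ), hm.map _, by
    show Polynomial.aeval (EndAV.toEnd0 π) (ν.map (Int.castRingHom ℚ)) = 0
    rw [he, minpoly.aeval]⟩
  have hirr : Irreducible (minpoly ℚ (EndAV.toEnd0 π)) := (AVFrobLib.isField_adjoin_iff _ hint).1 hK
  have hPQ : (P.map (Int.castRingHom ℚ)).natDegree = 2 * g := by rw [hPm.natDegree_map, hPd]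
  have hpow := AVCharpoly.eq_pow_of_irreducible hg π (hPm.map _) hPQ hPdeg hm h0 (he ▸ hirr)
  rw [he] at hpow
  generalize 2 * g / (minpoly ℚ (EndAV.toEnd0 π)).natDegree = d at hpow
  have hK' : Module.finrank ℚ (EndAV.QAdj π) = (minpoly ℚ (EndAV.toEnd0 π)).natDegree :=
    finrank_adjoin_singleton _
  refine ⟨d, ?_, ?_, hpow⟩
  · rw [finrank_end0, hK']
    refine (finrank_hom_eq_rat (Ω := Ω) l hl π hπ π hπ hP hP).trans ?_
    rw [hpow, rPoly, normalizedFactors_pow, normalizedFactors_irreducible hirr,
      (minpoly.monic hint).normalize_eq_self, Multiset.nsmul_singleton, Multiset.map_replicate,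
      Multiset.sum_replicate, Multiset.count_replicate_self, smul_eq_mul, sq]
    ring
  · rw [hK', ← hPQ, hpow, natDegree_pow]

end Groth.Agent.TateIsog

namespace Groth.Agent.TateIsog

open Groth.Agent

/-- In an endomorphism algebra without zero divisors, `ℚ[π]` is a field. -/
theorem isField_qAdj {k : Type u} [Field k] {A : Over (Spec (CommRingCat.of k))} [GrpObj A] [IsCommMonObj A]
    [IsProper A.hom] [GeometricallyIntegral A.hom] [Nontrivial (EndAV.End0 A)] [NoZeroDivisors (EndAV.End0 A)]
    (π : EndAV.End A) : IsField (EndAV.QAdj π) := by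
  haveI : Module.Finite ℤ (EndAV.End A) := AVHomForm.moduleFinite_hom (A := A) (B := A)
  haveI : Module.Finite ℚ (EndAV.End0 A) := Module.Finite.base_change ℤ ℚ (EndAV.End A)
  haveI : IsDomain (EndAV.End0 A) := NoZeroDivisors.to_isDomain _
  exact (AVFrobLib.isField_adjoin_iff _ (Algebra.IsIntegral.isIntegral _)).2
    (minpoly.irreducible (Algebra.IsIntegral.isIntegral _))

end Groth.Agent.TateIsog
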