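import Groth.Agent.TateIsog.Isog
import Mathlib.RingTheory.Nakayama
import Mathlib.RingTheory.OrzechProperty

/-!
# Isomorphic integral Tate modules and isogenies of degree prime to `l`
-/

noncomputable section

set_option autoImplicit false
set_option linter.style.haveILetI false
set_option linter.unusedSectionVars false
set_option backward.isDefEq.respectTransparency false
set_option backward.isDefEq.respectTransparency.types false
set_option maxHeartbeats 1000000
set_option synthInstance.maxHeartbeats 200000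

universe u

open CategoryTheory CategoryTheory.Limits MonoidalCategory CartesianMonoidalCategory MonObj GrpObj AlgebraicGeometry
open scoped TensorProduct

namespace Groth.Agent.TateIsog

open Groth.Agent

variable {k Ω : Type u} [Field k] [Field Ω] [Algebra k Ω] [IsAlgClosure k Ω] (l : ℕ) [Fact l.Prime]

local notation "pΩ" => SGA7.pt (K := k) Ω

theorem bijective_of_congr_id {T : Type*} [AddCommGroup T] [Module ℤ_[l] T] [Module.Finite ℤ_[l] T]
    (h w : Module.End ℤ_[l] T) (hw : h = 1 + (l : ℤ_[l]) • w) : Function.Bijective h := by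
  have hsurj : Function.Surjective h := by
    rw [← LinearMap.range_eq_top]
    refine eq_top_iff.2 (Submodule.le_of_le_smul_of_le_jacobson_bot Module.Finite.fg_top
      (I := IsLocalRing.maximalIdeal ℤ_[l]) (IsLocalRing.maximalIdeal_le_jacobson _) fun t _ => ?_)
    have e : t = h t + (l : ℤ_[l]) • (-(w t)) := by
      rw [hw, LinearMap.add_apply, LinearMap.smul_apply, Module.End.one_apply, smul_neg, add_neg_cancel_right]
    rw [e]
    exact Submodule.add_mem_sup ⟨t, rfl⟩ (Submodule.smul_mem_smul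
      (by rw [PadicInt.maximalIdeal_eq_span_p]; exact Ideal.mem_span_singleton_self _) Submodule.mem_top)
  exact ⟨OrzechProperty.injective_of_surjective_endomorphism h hsurj, hsurj⟩

variable {A B : Over (Spec (CommRingCat.of k))} [GrpObj A] [IsCommMonObj A] [IsProper A.hom]
  [GeometricallyIntegral A.hom] [GrpObj B] [IsCommMonObj B] [IsProper B.hom] [GeometricallyIntegral B.hom]

/-- An integral combination is approximated modulo `l` by a homomorphism. -/
theorem exists_congr (u : AbDual.TateMod A l pΩ →ₗ[ℤ_[l]] AbDual.TateMod B l pΩ)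
    (hu : u ∈ Submodule.span ℤ_[l] (homSetInt (Ω := Ω) l A B)) :
    ∃ (φ : EndAV.Hom A B) (w : AbDual.TateMod A l pΩ →ₗ[ℤ_[l]] AbDual.TateMod B l pΩ),
      EndAV.Hom.tateMap l pΩ φ = u + (l : ℤ_[l]) • w := by
  rw [homSetInt_eq_range] at hu
  induction hu using Submodule.span_induction with
  | mem ψ hψ =>
    obtain ⟨φ, rfl⟩ := hψ
    exact ⟨φ, 0, by rw [smul_zero, add_zero]⟩
  | zero => exact ⟨0, 0, by rw [map_zero, smul_zero, add_zero]⟩
  | add a b _ _ ha hb =>
    obtain ⟨φ, w, h⟩ := ha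
    obtain ⟨φ', w', h'⟩ := hb
    exact ⟨φ + φ', w + w', by rw [map_add, h, h', smul_add]; abel⟩
  | smul c a _ ha =>
    obtain ⟨φ, w, h⟩ := ha
    obtain ⟨d, hd⟩ : ∃ d : ℤ_[l], (c.zmodRepr : ℤ_[l]) = c + (l : ℤ_[l]) * d := by
      have := c.sub_zmodRepr_mem
      rw [PadicInt.maximalIdeal_eq_span_p, Ideal.mem_span_singleton] at this
      obtain ⟨d, hd⟩ := this
      exact ⟨-d, by linear_combination -hd⟩
    refine ⟨c.zmodRepr • φ, d • a + (c.zmodRepr : ℤ_[l]) • w, ?_⟩
    rw [map_nsmul, ← Nat.cast_smul_eq_nsmul ℤ_[l], h, smul_add, hd, add_smul, smul_add, mul_smul,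
      smul_comm (c + (l : ℤ_[l]) * d) (l : ℤ_[l]) w, add_assoc]

/-- A homomorphism inducing a bijection of Tate modules. -/
theorem exists_bijective_int [Finite k] (hl : (l : k) ≠ 0)
    (e : AbDual.TateMod A l pΩ ≃ₗ[ℤ_[l]] AbDual.TateMod B l pΩ)
    (he : ∀ τ : Ω ≃ₐ[k] Ω, e.toLinearMap ∘ₗ gal l A τ = gal l B τ ∘ₗ e.toLinearMap) :
    ∃ φ : EndAV.Hom A B, Function.Bijective (EndAV.Hom.tateMap l pΩ φ) := by
  haveI := IsAlgClosure.isAlgClosed k (K := Ω)
  obtain ⟨g, hg⟩ := TorsPtsLib.exists_dim A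
  haveI := (AVHomForm.tate_free Ω l hl A hg).2.1
  obtain ⟨φ, w, h⟩ := exists_congr l _ (hom_mem_span_int l hl e.toLinearMap he)
  refine ⟨φ, ?_⟩
  have h1 := bijective_of_congr_id l (e.symm.toLinearMap ∘ₗ EndAV.Hom.tateMap l pΩ φ) (e.symm.toLinearMap ∘ₗ w)
    (LinearMap.ext fun x => by
      rw [h]
      simp only [LinearMap.comp_apply, LinearMap.add_apply, LinearMap.smul_apply, map_add, map_smul,
        LinearEquiv.coe_coe, LinearEquiv.symm_apply_apply, Module.End.one_apply])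
  have : ⇑(EndAV.Hom.tateMap l pΩ φ) = e ∘ (e.symm.toLinearMap ∘ₗ EndAV.Hom.tateMap l pΩ φ) :=
    funext fun x => (e.apply_symm_apply _).symm
  rw [this]
  exact e.bijective.comp h1

/-- An endomorphism bijective on the integral Tate module divides an integer prime to `l`. -/
theorem exists_mul_eq_natCast_primeTo (hl : (l : k) ≠ 0) (h : EndAV.End A)
    (hb : Function.Bijective (EndAV.Hom.tateMap l pΩ (h : EndAV.Hom A A))) :
    ∃ n : ℕ, 0 < n ∧ ¬ l ∣ n ∧ ∃ x : EndAV.End A, x * h = (n : EndAV.End A) := by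
  haveI := IsAlgClosure.isAlgClosed k (K := Ω)
  haveI : Module.Free ℤ (EndAV.End A) := AVHomForm.moduleFree_hom (A := A) (B := A)
  let eh := LinearEquiv.ofBijective (EndAV.Hom.tateMap l pΩ (h : EndAV.Hom A A)) hb
  have hQ : Function.Bijective (ratMap Ω l (h : EndAV.Hom A A)) := (eh.baseChange ℤ_[l] ℚ_[l]).bijective
  obtain ⟨n, hn, x, hx⟩ := exists_mul_eq_natCast (Ω := Ω) l hl h hQ
  induction n using Nat.strong_induction_on generalizing x with
  | _ n ih =>
    by_cases hdvd : l ∣ n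
    · obtain ⟨m, rfl⟩ := hdvd
      have hm : 0 < m := Nat.pos_of_ne_zero fun h0 => by simp [h0] at hn
      obtain ⟨x', hx'⟩ := AVHomForm.endRep_div (A := A) (B := A) Ω l hl (x : EndAV.Hom A A) 1 fun v => by
        refine ⟨(0, (m : ℤ_[l]) • eh.symm v.1), Prod.ext (by simp [AVHomForm.endRep]) ?_⟩
        show EndAV.Hom.tateMap l pΩ (x : EndAV.Hom A A) v.1 = ((l : ℤ_[l]) ^ 1) • ((m : ℤ_[l]) • eh.symm v.1)
        conv_lhs => rw [← eh.apply_symm_apply v.1]
        have := LinearMap.congr_fun (congrArg (EndAV.End.tateRep l pΩ) hx) (eh.symm v.1)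
        rw [map_mul, map_natCast, Module.End.mul_apply, Module.End.natCast_apply] at this
        rw [pow_one, smul_smul, ← Nat.cast_mul, Nat.cast_smul_eq_nsmul]
        exact this
      rw [pow_one] at hx'
      let y : EndAV.End A := x'
      refine ih m ?_ hm y ?_
      · have := (Fact.out : l.Prime).two_le
        nlinarith
      · refine smul_right_injective (EndAV.End A) (show (l : ℤ) ≠ 0 from Nat.cast_ne_zero.2 (Fact.out : l.Prime).ne_zero) ?_
        show (l : ℤ) • (y * h) = (l : ℤ) • (m : EndAV.End A)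
        rw [natCast_zsmul, natCast_zsmul, ← smul_mul_assoc, show l • y = x from hx'.symm, hx, Nat.cast_mul, nsmul_eq_mul]
    · exact ⟨n, hn, hdvd, x, hx⟩

/-- **Isogenies of degree prime to `l`.** -/
theorem primeTo_iff [Finite k] (hl : (l : k) ≠ 0) :
    (∃ e : AbDual.TateMod A l pΩ ≃ₗ[ℤ_[l]] AbDual.TateMod B l pΩ,
        ∀ τ : Ω ≃ₐ[k] Ω, e.toLinearMap ∘ₗ gal l A τ = gal l B τ ∘ₗ e.toLinearMap) ↔
      ∃ (f : A ⟶ B) (_ : IsMonHom f) (g : B ⟶ A) (_ : IsMonHom g) (N : ℕ), 0 < N ∧ ¬ l ∣ N ∧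
        f ≫ g = (𝟙 A) ^ N ∧ g ≫ f = (𝟙 B) ^ N := by
  constructor
  · rintro ⟨e, he⟩
    obtain ⟨φ, hφ⟩ := exists_bijective_int l hl e he
    obtain ⟨ψ, hψ⟩ := exists_bijective_int l hl e.symm fun τ => LinearMap.ext fun v => by
      refine e.injective ?_
      have := LinearMap.congr_fun (he τ) (e.symm v)
      simp only [LinearMap.comp_apply, LinearEquiv.coe_coe, LinearEquiv.apply_symm_apply] at this ⊢
      exact this.symm
    obtain ⟨n, hn, hln, x, hx⟩ := exists_mul_eq_natCast_primeTo (Ω := Ω) l hl (φ ≫ ψ : EndAV.End A) (by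
      have h : EndAV.Hom.tateMap l pΩ (φ ≫ ψ) = EndAV.Hom.tateMap l pΩ ψ ∘ₗ EndAV.Hom.tateMap l pΩ φ :=
        tate_comp l φ.toHom ψ.toHom
      rw [h]
      exact hψ.comp hφ)
    let ψ' : EndAV.Hom B A := ψ ≫ x
    have h1 : φ ≫ ψ' = (n : EndAV.End A) := by
      rw [← hx]; exact (Category.assoc _ _ _).symm
    have hφQ : Function.Bijective (ratMap Ω l φ) :=
      ((LinearEquiv.ofBijective _ hφ).baseChange ℤ_[l] ℚ_[l]).bijective
    have h2 : ψ' ≫ φ = (n : EndAV.End B) := by
      refine ratMap_injective (Ω := Ω) l hl (A := B) (B := B) (LinearMap.ext fun v => ?_)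
      obtain ⟨w, rfl⟩ := hφQ.2 v
      rw [← LinearMap.comp_apply (ratMap Ω l (ψ' ≫ φ)), ← ratMap_comp, ← Category.assoc, h1, natCast_comp_eq,
        ← LinearMap.comp_apply (ratMap Ω l ((n : EndAV.End B) : EndAV.Hom B B)), ← ratMap_comp]
      congr 2
      refine EndAV.Hom.ext ?_
      rw [EndAV.Hom.toHom_nsmul]
      show _ = φ.toHom ≫ (n : EndAV.End B).toHom
      rw [EndAV.End.toHom_natCast, MonObj.comp_pow, Category.comp_id]
    refine ⟨φ.toHom, inferInstance, ψ'.toHom, inferInstance, n, hn, hln, ?_, ?_⟩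
    · rw [← EndAV.End.toHom_natCast, ← h1]; rfl
    · rw [← EndAV.End.toHom_natCast, ← h2]; rfl
  · rintro ⟨f, hf, g, hg, N, hN, hlN, h1, h2⟩
    haveI := hf; haveI := hg
    have hu : IsUnit (N : ℤ_[l]) := by
      exact PadicInt.isUnit_iff.2 ((PadicInt.norm_natCast_eq_one_iff (p := l)).2
        ((Fact.out : l.Prime).coprime_iff_not_dvd.2 hlN))
    have key : ∀ {C D : Over (Spec (CommRingCat.of k))} [GrpObj C] [IsCommMonObj C] [GrpObj D] [IsCommMonObj D]
        (u : C ⟶ D) [IsMonHom u] (v : D ⟶ C) [IsMonHom v], u ≫ v = (𝟙 C) ^ N →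
          ∀ z, AbDual.tateMapₗ (l := l) (T := pΩ) v (AbDual.tateMapₗ (l := l) (T := pΩ) u z) = (N : ℤ_[l]) • z := by
      intro C D _ _ _ _ u _ v _ h z
      rw [Nat.cast_smul_eq_nsmul]
      refine AbDual.TateMod.ext fun m => Additive.toMul.injective ?_
      show (((z : ℕ → Additive (pΩ ⟶ C)) m).toMul ≫ u) ≫ v = ((z : ℕ → Additive (pΩ ⟶ C)) m).toMul ^ N
      rw [Category.assoc, h, MonObj.comp_pow, Category.comp_id]
    have hb : Function.Bijective (AbDual.tateMapₗ (l := l) (T := pΩ) f) := by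
      refine ⟨fun a b hab => ?_, fun z => ⟨((hu.unit⁻¹ : ℤ_[l]ˣ) : ℤ_[l]) • AbDual.tateMapₗ (l := l) (T := pΩ) g z, ?_⟩⟩
      · have := congrArg (AbDual.tateMapₗ (l := l) (T := pΩ) g) hab
        rw [key f g h1, key f g h1] at this
        have h' := congrArg (((hu.unit⁻¹ : ℤ_[l]ˣ) : ℤ_[l]) • ·) this
        simpa only [smul_smul, IsUnit.val_inv_mul, one_smul] using h'
      · rw [map_smul, key g f h2, smul_smul, IsUnit.val_inv_mul, one_smul]
    exact ⟨LinearEquiv.ofBijective _ hb, fun τ => tate_gal l f τ⟩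

end Groth.Agent.TateIsog
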