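import Groth.Agent.TateIsog.FrobRank
import Groth.Agent.AVFrobLib.Exist
import Groth.Agent.AVFrobLib.ZetaFun
import Mathlib.FieldTheory.Finite.Extension
import Mathlib.FieldTheory.IsAlgClosed.AlgebraicClosure

/-!
# Point counts determine the isogeny class
-/

noncomputable section

set_option autoImplicit false
set_option linter.style.haveILetI false
set_option linter.unusedSectionVars false
set_option backward.isDefEq.respectTransparency false
set_option backward.isDefEq.respectTransparency.types false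
set_option maxHeartbeats 1000000
set_option synthInstance.maxHeartbeats 200000

universe u

open CategoryTheory CategoryTheory.Limits MonoidalCategory CartesianMonoidalCategory MonObj GrpObj AlgebraicGeometry
open scoped TensorProduct
open Polynomial

namespace Groth.Agent.TateIsog

open Groth.Agent

theorem eq_zero_of_forall_sum_pow {Z : Finset ℂ} (hZ : (0 : ℂ) ∉ Z) (d : ℂ → ℂ)
    (h : ∀ n : ℕ, 0 < n → ∑ z ∈ Z, d z * z ^ n = 0) {w : ℂ} (hw : w ∈ Z) : d w = 0 := by
  classical
  let Q : ℂ[X] := X * ∏ z ∈ Z.erase w, (X - C z)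
  have h0 : ∑ z ∈ Z, d z * Q.eval z = 0 := by
    simp only [eval_eq_sum_range, Finset.mul_sum]
    rw [Finset.sum_comm]
    refine Finset.sum_eq_zero fun i _ => ?_
    rcases Nat.eq_zero_or_pos i with rfl | hi
    · refine Finset.sum_eq_zero fun z _ => ?_
      simp [Q, mul_coeff_zero]
    · rw [← mul_zero (Q.coeff i), ← h i hi, Finset.mul_sum]
      exact Finset.sum_congr rfl fun z _ => by ring
  rw [Finset.sum_eq_single w (fun z hz hne => by
    simp [Q, eval_prod, Finset.prod_eq_zero (Finset.mem_erase.2 ⟨hne, hz⟩)]) (fun h' => absurd hw h')] at h0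
  refine (_root_.mul_eq_zero.1 h0).resolve_right ?_
  simp only [Q, eval_mul, eval_X, eval_prod, eval_sub, eval_C]
  exact mul_ne_zero (fun e => hZ (e ▸ hw)) (Finset.prod_ne_zero_iff.2 fun z hz =>
    sub_ne_zero.2 (Finset.ne_of_mem_erase hz).symm)

/-- Multisets of numbers of absolute value `r > 1` are determined by the products `∏ (1 - α ^ n)`. -/
theorem eq_of_forall_prod_one_sub {r : ℝ} (hr : 1 < r) {s t : Multiset ℂ} (hs : ∀ a ∈ s, ‖a‖ = r)
    (ht : ∀ a ∈ t, ‖a‖ = r)
    (h : ∀ n : ℕ, 0 < n → (s.map fun a => 1 - a ^ n).prod = (t.map fun a => 1 - a ^ n).prod) : s = t := by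
  classical
  let N := max (Multiset.card s) (Multiset.card t) + 1
  have hnorm : ∀ {m : Multiset ℂ}, (∀ a ∈ m, ‖a‖ = r) → ∀ j, ∀ z ∈ AVFrobLib.prods m j, ‖z‖ = r ^ j := by
    intro m hm j z hz
    obtain ⟨u, hu, rfl⟩ := Multiset.mem_map.1 hz
    obtain ⟨hle, hcard⟩ := Multiset.mem_powersetCard.1 hu
    rw [← hcard, show ‖u.prod‖ = (u.map norm).prod from map_multiset_prod (normHom : ℂ →*₀ ℝ) u]
    have : u.map norm = Multiset.replicate (Multiset.card u) r :=
      Multiset.eq_replicate.2 ⟨Multiset.card_map _ _, fun b hb => by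
        obtain ⟨a, ha, rfl⟩ := Multiset.mem_map.1 hb
        exact hm a (Multiset.mem_of_le hle ha)⟩
    exact (congrArg Multiset.prod this).trans (Multiset.prod_replicate _ _)
  let Z : Finset ℂ := (Finset.range N).biUnion fun j =>
    (AVFrobLib.prods s j).toFinset ∪ (AVFrobLib.prods t j).toFinset
  have hexp : ∀ (m : Multiset ℂ), Multiset.card m + 1 ≤ N → (∀ j ∈ Finset.range N, ∀ z ∈ AVFrobLib.prods m j, z ∈ Z) →
      ∀ n : ℕ, (m.map fun a => 1 - a ^ n).prod =
        ∑ z ∈ Z, (∑ j ∈ Finset.range N, (-1 : ℂ) ^ j * (AVFrobLib.prods m j).count z) * z ^ n := by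
    intro m hm hsub n
    have h1 := AVFrobLib.prod_one_sub (m.map fun c => c ^ n)
    rw [Multiset.map_map, Multiset.card_map] at h1
    simp only [AVFrobLib.esymm_map_pow] at h1
    rw [show (m.map fun a => 1 - a ^ n) = m.map ((fun c => 1 - c) ∘ fun c => c ^ n) from rfl, h1,
      Finset.sum_subset (Finset.range_subset_range.2 hm) fun j hj hj' => by
        have hlt : Multiset.card m < j := by
          simp only [Finset.mem_range, not_lt] at hj'
          omega
        rw [AVFrobLib.prods, Multiset.powersetCard_eq_empty _ hlt]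
        simp]
    simp only [Finset.sum_mul]
    rw [Finset.sum_comm (s := Z)]
    refine Finset.sum_congr rfl fun j hj => ?_
    rw [Finset.sum_multiset_map_count, Finset.mul_sum,
      Finset.sum_subset (s₂ := Z) (fun z hz => hsub j hj z (Multiset.mem_toFinset.1 hz)) fun z _ hz => by
        rw [Multiset.count_eq_zero_of_notMem (fun h => hz (Multiset.mem_toFinset.2 h))]; simp]
    exact Finset.sum_congr rfl fun z _ => by rw [nsmul_eq_mul]; ring
  have hsZ : ∀ j ∈ Finset.range N, ∀ z ∈ AVFrobLib.prods s j, z ∈ Z := fun j hj z hz =>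
    Finset.mem_biUnion.2 ⟨j, hj, Finset.mem_union_left _ (Multiset.mem_toFinset.2 hz)⟩
  have htZ : ∀ j ∈ Finset.range N, ∀ z ∈ AVFrobLib.prods t j, z ∈ Z := fun j hj z hz =>
    Finset.mem_biUnion.2 ⟨j, hj, Finset.mem_union_right _ (Multiset.mem_toFinset.2 hz)⟩
  have hZ0 : (0 : ℂ) ∉ Z := fun h0 => by
    obtain ⟨j, -, hj⟩ := Finset.mem_biUnion.1 h0
    have : ‖(0 : ℂ)‖ = r ^ j := by
      rcases Finset.mem_union.1 hj with h' | h'
      · exact hnorm hs j _ (Multiset.mem_toFinset.1 h')
      · exact hnorm ht j _ (Multiset.mem_toFinset.1 h')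
    rw [norm_zero] at this
    exact (pow_pos (zero_lt_one.trans hr) j).ne this
  have hd : ∀ z ∈ Z, (∑ j ∈ Finset.range N, (-1 : ℂ) ^ j * (AVFrobLib.prods s j).count z) -
      (∑ j ∈ Finset.range N, (-1 : ℂ) ^ j * (AVFrobLib.prods t j).count z) = 0 := fun z hz => by
    refine eq_zero_of_forall_sum_pow hZ0 (fun z =>
      (∑ j ∈ Finset.range N, (-1 : ℂ) ^ j * (AVFrobLib.prods s j).count z) -
      (∑ j ∈ Finset.range N, (-1 : ℂ) ^ j * (AVFrobLib.prods t j).count z)) (fun n hn => ?_) hz
    simp only [sub_mul, Finset.sum_sub_distrib]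
    rw [← hexp s (by omega) hsZ n, ← hexp t (by omega) htZ n, h n hn, sub_self]
  have hone : ∀ m : Multiset ℂ, AVFrobLib.prods m 1 = m := fun m => by
    rw [AVFrobLib.prods, Multiset.powersetCard_one, Multiset.map_map]
    exact (Multiset.map_congr rfl fun a _ => Multiset.prod_singleton a).trans (Multiset.map_id m)
  have hcount : ∀ m : Multiset ℂ, (∀ a ∈ m, ‖a‖ = r) → Multiset.card m + 1 ≤ N → ∀ z : ℂ, ‖z‖ = r →
      (∑ j ∈ Finset.range N, (-1 : ℂ) ^ j * (AVFrobLib.prods m j).count z) = -(m.count z : ℂ) := by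
    intro m hm hN z hz
    rw [Finset.sum_eq_single 1 (fun j _ hj => by
      rw [Multiset.count_eq_zero_of_notMem fun hmem => hj (by
        have := hnorm hm j z hmem
        rw [hz] at this
        exact pow_right_injective₀ (zero_lt_one.trans hr) hr.ne' (this.symm.trans (pow_one r).symm)), Nat.cast_zero, mul_zero])
      (fun h1 => by
        simp only [Finset.mem_range, not_lt] at h1
        rw [show m = 0 from Multiset.card_eq_zero.1 (by omega)]
        simp [hone])]
    rw [hone]
    simp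
  refine Multiset.ext.2 fun z => ?_
  by_cases hz : ‖z‖ = r
  · by_cases hzZ : z ∈ Z
    · have := hd z hzZ
      rw [hcount s hs (by omega) z hz, hcount t ht (by omega) z hz, sub_eq_zero, neg_inj] at this
      exact_mod_cast this
    · have h1 : ∀ m : Multiset ℂ, (∀ j ∈ Finset.range N, ∀ w ∈ AVFrobLib.prods m j, w ∈ Z) →
          Multiset.card m + 1 ≤ N → m.count z = 0 := fun m hsub hN => Multiset.count_eq_zero_of_notMem fun hm => by
        have := Multiset.card_pos_iff_exists_mem.2 ⟨z, hm⟩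
        exact hzZ (hsub 1 (Finset.mem_range.2 (by omega)) z (by rw [hone]; exact hm))
      rw [h1 s hsZ (by omega), h1 t htZ (by omega)]
  · rw [Multiset.count_eq_zero_of_notMem fun hm => hz (hs z hm),
      Multiset.count_eq_zero_of_notMem fun hm => hz (ht z hm)]

variable {k : Type u} [Field k] [Finite k] {X Y : Over (Spec (CommRingCat.of k))}

/-- Points over an extension, as a point count. -/
theorem card_points_eq_nPts [GrpObj X] [IsProper X.hom] (k' : Type u) [Field k'] [Algebra k k'] [Finite k'] :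
    Nat.card (Over.mk (Spec.map (CommRingCat.ofHom (algebraMap k k'))) ⟶ X) =
      Zeta.nPts X.hom (Module.finrank k k') := by
  rw [← ZetaLib.pointCount_eq_nPts X.hom k']
  exact Nat.card_congr
    { toFun := fun x => ⟨x.left, Over.w x⟩
      invFun := fun x => Over.homMk x.1 x.2
      left_inv := fun x => rfl
      right_inv := fun x => rfl }

theorem exists_extension (n : ℕ) (hn : 0 < n) :
    ∃ (k' : Type u) (_ : Field k') (_ : Algebra k k') (_ : Finite k'), Module.finrank k k' = n := by
  haveI : NeZero n := ⟨hn.ne'⟩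
  obtain ⟨p, hp⟩ := CharP.exists k
  haveI : Fact p.Prime := ⟨CharP.char_is_prime k p⟩
  let k' := ULift.{u} (FiniteField.Extension k p n)
  letI : Field k' := ULift.field
  refine ⟨k', inferInstance, inferInstance, inferInstance, ?_⟩
  haveI : Module.Finite k k' := Module.Finite.of_finite
  refine Nat.pow_right_injective (Finite.one_lt_card (α := k)) ?_
  show Nat.card k ^ Module.finrank k k' = Nat.card k ^ n
  rw [← Module.natCard_eq_pow_finrank, Nat.card_congr Equiv.ulift, FiniteField.natCard_extension]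

/-- Same point counts over all extensions iff same `N_m` for all `m`. -/
theorem forall_card_eq_iff [GrpObj X] [IsProper X.hom] [GrpObj Y] [IsProper Y.hom] :
    (∀ (k' : Type u) [Field k'] [Algebra k k'] [Finite k'],
      Nat.card (Over.mk (Spec.map (CommRingCat.ofHom (algebraMap k k'))) ⟶ X) =
        Nat.card (Over.mk (Spec.map (CommRingCat.ofHom (algebraMap k k'))) ⟶ Y)) ↔
      ∀ n : ℕ, 0 < n → Zeta.nPts X.hom n = Zeta.nPts Y.hom n := by
  constructor
  · intro h n hn
    obtain ⟨k', hf, ha, hfin, hk⟩ := exists_extension (k := k) n hn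
    letI := hf; letI := ha; haveI := hfin
    have := h k'
    rwa [card_points_eq_nPts, card_points_eq_nPts, hk] at this
  · intro h k' _ _ _
    rw [card_points_eq_nPts, card_points_eq_nPts]
    haveI : Module.Finite k k' := Module.Finite.of_finite
    exact h _ Module.finrank_pos

/-- **Isogenous iff same point counts.** -/
theorem isogenous_iff_counts [GrpObj X] [IsCommMonObj X] [IsProper X.hom] [GeometricallyIntegral X.hom]
    [GrpObj Y] [IsCommMonObj Y] [IsProper Y.hom] [GeometricallyIntegral Y.hom] :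
    (∃ (u : X ⟶ Y) (_ : IsMonHom u) (v : Y ⟶ X) (_ : IsMonHom v) (n : ℕ), 0 < n ∧
        u ≫ v = (𝟙 X) ^ n ∧ v ≫ u = (𝟙 Y) ^ n) ↔
      ∀ (k' : Type u) [Field k'] [Algebra k k'] [Finite k'],
        Nat.card (Over.mk (Spec.map (CommRingCat.ofHom (algebraMap k k'))) ⟶ X) =
          Nat.card (Over.mk (Spec.map (CommRingCat.ofHom (algebraMap k k'))) ⟶ Y) := by
  classical
  obtain ⟨l, hp, hl⟩ := AVHomForm.exists_prime_ne_zero (k := k)
  obtain ⟨gX, hgX⟩ := TorsPtsLib.exists_dim X
  obtain ⟨gY, hgY⟩ := TorsPtsLib.exists_dim Y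
  obtain ⟨hfX, hnX, -⟩ := AVHomForm.tate_free (AlgebraicClosure k) l hl X hgX
  obtain ⟨hfY, hnY, -⟩ := AVHomForm.tate_free (AlgebraicClosure k) l hl Y hgY
  haveI : Module.Free ℤ_[l] (AbDual.TateMod X l (SGA7.pt (AlgebraicClosure k))) := hfX
  haveI : Module.Finite ℤ_[l] (AbDual.TateMod X l (SGA7.pt (AlgebraicClosure k))) := hnX
  haveI : Module.Free ℤ_[l] (AbDual.TateMod Y l (SGA7.pt (AlgebraicClosure k))) := hfY
  haveI : Module.Finite ℤ_[l] (AbDual.TateMod Y l (SGA7.pt (AlgebraicClosure k))) := hnY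
  obtain ⟨a, ham, ha⟩ := AVFrobLib.exists_frobenius X
  obtain ⟨b, hbm, hb⟩ := AVFrobLib.exists_frobenius Y
  obtain ⟨P, hPm, hPd, hPdeg, hP⟩ := AVCharpoly.exists_charpoly (AlgebraicClosure k) l hl hgX (EndAV.End.of a)
  obtain ⟨Q, hQm, hQd, hQdeg, hQ⟩ := AVCharpoly.exists_charpoly (AlgebraicClosure k) l hl hgY (EndAV.End.of b)
  have hcX := charpoly_endMap_int (Ω := AlgebraicClosure k) l (EndAV.End.of a) hP
  have hcY := charpoly_endMap_int (Ω := AlgebraicClosure k) l (EndAV.End.of b) hQ
  have hPd' : (P.map (Int.castRingHom ℚ)).natDegree = 2 * gX := by rw [hPm.natDegree_map, hPd]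
  have hQd' : (Q.map (Int.castRingHom ℚ)).natDegree = 2 * gY := by rw [hQm.natDegree_map, hQd]
  constructor
  · rintro ⟨u, hu, v, hv, n, hn, h₁, h₂⟩
    haveI := hu; haveI := hv
    let e := LinearEquiv.ofBijective _ (ratMap_bijective_of_isogeny (Ω := AlgebraicClosure k) l u v n hn h₁ h₂)
    have hc : (endMap (AlgebraicClosure k) l (EndAV.End.of a)).charpoly =
        (endMap (AlgebraicClosure k) l (EndAV.End.of b)).charpoly := by
      rw [← e.charpoly_conj (endMap (AlgebraicClosure k) l (EndAV.End.of a))]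
      congr 1
      refine LinearMap.ext fun y => ?_
      obtain ⟨x, rfl⟩ := e.surjective y
      rw [LinearEquiv.conj_apply_apply, LinearEquiv.symm_apply_apply, endMap_eq_gal l _ ha, endMap_eq_gal l _ hb]
      exact LinearMap.congr_fun (ratMap_gal l (EndAV.Hom.of u) (frobAut k (AlgebraicClosure k))) x
    rw [hcX, hcY] at hc
    have hPQ : P.map (Int.castRingHom ℚ) = Q.map (Int.castRingHom ℚ) :=
      Polynomial.map_injective _ (algebraMap ℚ ℚ_[l]).injective hc
    intro k' _ _ _
    refine Nat.cast_injective (R := ℂ) ?_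
    rw [AVFrobLib.card_points_eq_prod (EndAV.End.of a) ha hgX (hPm.map _) hPd' hPdeg k',
      AVFrobLib.card_points_eq_prod (EndAV.End.of b) hb hgY (hQm.map _) hQd' hQdeg k', hPQ]
  · intro h
    refine isogenous_of_charpoly (Ω := AlgebraicClosure k) l hl (EndAV.End.of a) ha (EndAV.End.of b) hb ?_
    rw [hcX, hcY]
    have hroots : ((P.map (Int.castRingHom ℚ)).map (algebraMap ℚ ℂ)).roots =
        ((Q.map (Int.castRingHom ℚ)).map (algebraMap ℚ ℂ)).roots := by
      have hr : (1 : ℝ) < Real.sqrt (Nat.card k) :=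
        Real.lt_sqrt_of_sq_lt (by rw [one_pow]; exact_mod_cast Finite.one_lt_card (α := k))
      refine eq_of_forall_prod_one_sub hr (fun w hw => ?_) (fun w hw => ?_) fun n hn => ?_
      · exact AVFrobLib.norm_root_degPoly _ ha hgX (hPm.map _) hPd' hPdeg hw
      · exact AVFrobLib.norm_root_degPoly _ hb hgY (hQm.map _) hQd' hQdeg hw
      · obtain ⟨k', hf, hA, hfin, hk⟩ := exists_extension (k := k) n hn
        letI := hf; letI := hA; haveI := hfin
        have h1 := congrArg (fun m : ℕ => (m : ℂ)) (h k')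
        rw [AVFrobLib.card_points_eq_prod (EndAV.End.of a) ha hgX (hPm.map _) hPd' hPdeg k',
          AVFrobLib.card_points_eq_prod (EndAV.End.of b) hb hgY (hQm.map _) hQd' hQdeg k', hk] at h1
        exact h1
    have hPQ : P.map (Int.castRingHom ℚ) = Q.map (Int.castRingHom ℚ) := by
      refine Polynomial.map_injective _ (algebraMap ℚ ℂ).injective ?_
      rw [(IsAlgClosed.splits _).eq_prod_roots_of_monic ((hPm.map _).map _),
        (IsAlgClosed.splits _).eq_prod_roots_of_monic ((hQm.map _).map _), hroots]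
    rw [hPQ]

/-- **Isogenous iff same zeta function.** -/
theorem isogenous_iff_zeta [GrpObj X] [IsCommMonObj X] [IsProper X.hom] [GeometricallyIntegral X.hom]
    [GrpObj Y] [IsCommMonObj Y] [IsProper Y.hom] [GeometricallyIntegral Y.hom] :
    (∃ (u : X ⟶ Y) (_ : IsMonHom u) (v : Y ⟶ X) (_ : IsMonHom v) (n : ℕ), 0 < n ∧
        u ≫ v = (𝟙 X) ^ n ∧ v ≫ u = (𝟙 Y) ^ n) ↔ Zeta.zetaFun X.hom = Zeta.zetaFun Y.hom := by
  refine isogenous_iff_counts.trans (forall_card_eq_iff.trans ⟨fun h => ?_, fun h n hn => ?_⟩)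
  · rw [Zeta.zetaFun, Zeta.zetaFun]
    congr 1
    ext m
    simp only [Zeta.logZeta, PowerSeries.coeff_mk]
    rcases Nat.eq_zero_or_pos m with rfl | hm
    · simp
    · rw [h m hm]
  · have hX : WeilLib.HasLogDeriv (Zeta.zetaFun X.hom) (PowerSeries.mk fun m => (Zeta.nPts X.hom (m + 1) : ℚ)) :=
      ZetaLib.hasLogDeriv_zetaFun X.hom
    have hY : WeilLib.HasLogDeriv (Zeta.zetaFun Y.hom) (PowerSeries.mk fun m => (Zeta.nPts Y.hom (m + 1) : ℚ)) :=
      ZetaLib.hasLogDeriv_zetaFun Y.hom
    rw [h, WeilLib.HasLogDeriv] at hX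
    rw [WeilLib.HasLogDeriv] at hY
    have hne : Zeta.zetaFun Y.hom ≠ 0 := fun h0 => by
      have := ZetaLib.constantCoeff_zetaFun Y.hom
      rw [h0, map_zero] at this
      exact zero_ne_one this
    have := congrArg (PowerSeries.coeff (n - 1)) (mul_left_cancel₀ hne (hX.symm.trans hY))
    rw [PowerSeries.coeff_mk, PowerSeries.coeff_mk, Nat.sub_add_cancel hn] at this
    exact_mod_cast this

end Groth.Agent.TateIsog
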