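import Groth.Agent.TateIsog.Centre

/-!
# The dimension of the algebra generated by Frobenius
-/

noncomputable section

set_option autoImplicit false
set_option linter.style.haveILetI false
set_option linter.unusedSectionVars false
set_option backward.isDefEq.respectTransparency false
set_option backward.isDefEq.respectTransparency.types false
set_option maxHeartbeats 1000000
set_option synthInstance.maxHeartbeats 200000

universe u

open CategoryTheory CategoryTheory.Limits MonoidalCategory CartesianMonoidalCategory MonObj GrpObj AlgebraicGeometry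
open scoped TensorProduct
open Polynomial UniqueFactorizationMonoid

namespace Groth.Agent.TateIsog

open Groth.Agent

theorem finrank_adjoin_singleton {K R : Type*} [Field K] [Ring R] [Algebra K R] (x : R) :
    Module.finrank K (Algebra.adjoin K {x} : Subalgebra K R) = (minpoly K x).natDegree := by
  have h := (Ideal.quotientKerEquivRange (aeval x : K[X] →ₐ[K] R)).toLinearEquiv.finrank_eq
  rw [← Algebra.adjoin_singleton_eq_range_aeval] at h
  rw [← h, ← finrank_quotient_span_eq_natDegree (f := minpoly K x)]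
  exact (Ideal.quotientEquivAlgOfEq K (minpoly.ker_aeval_eq_span_minpoly K x)).toLinearEquiv.finrank_eq

/-- An irreducible factor of the characteristic polynomial of a semisimple operator divides whatever kills it. -/
theorem dvd_of_aeval_eq_zero {K V : Type*} [Field K] [DecidableEq K] [AddCommGroup V] [Module K V]
    [FiniteDimensional K V] {T : Module.End K V} (hT : T.IsSemisimple) {Q p : K[X]}
    (hQ : Q ∈ normalizedFactors T.charpoly) (hp : aeval T p = 0) : Q ∣ p := by
  have hQi := irreducible_of_normalized_factor Q hQ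
  by_contra hnd
  obtain ⟨a, b, hab⟩ := hQi.coprime_iff_not_dvd.2 hnd
  have h := finrank_ker_aeval hT (monic_of_mem_factors hQ) hQi
  have hbot : LinearMap.ker (aeval T Q) = ⊥ := (Submodule.eq_bot_iff _).2 fun x hx => by
    calc x = aeval T (a * Q + b * p) x := by rw [hab, map_one, Module.End.one_apply]
      _ = 0 := by rw [map_add, map_mul, map_mul, LinearMap.add_apply, Module.End.mul_apply, Module.End.mul_apply,
          LinearMap.mem_ker.1 hx, hp, LinearMap.zero_apply, map_zero, map_zero, add_zero]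
  rw [hbot, finrank_bot] at h
  rcases Nat.mul_eq_zero.1 h.symm with h' | h'
  · exact (Multiset.count_pos.2 hQ).ne' h'
  · exact hQi.natDegree_pos.ne' h'

variable {k Ω : Type u} [Field k] [Finite k] [Field Ω] [Algebra k Ω] [IsAlgClosure k Ω] (l : ℕ) [Fact l.Prime]
  {A : Over (Spec (CommRingCat.of k))} [GrpObj A] [IsCommMonObj A] [IsProper A.hom] [GeometricallyIntegral A.hom]

local notation "pΩ" => SGA7.pt (K := k) Ω

/-- A rational polynomial killing Frobenius in `End⁰` kills it on the Tate module. -/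
theorem aeval_endMap_eq_zero (φ : EndAV.End A) {p : ℚ[X]} (h : aeval (EndAV.toEnd0 φ) p = 0) :
    aeval (endMap Ω l φ) (p.map (algebraMap ℚ ℚ_[l])) = 0 := by
  have h1 := congrArg (AVCentLib.rep0 A l pΩ ℚ_[l]) h
  rw [map_zero, aeval_def, hom_eval₂, AVCentLib.rep0_toEnd0] at h1
  rw [aeval_def, eval₂_map]
  refine Eq.trans ?_ h1
  congr 1
  exact Subsingleton.elim _ _

variable {P : ℤ[X]}

/-- The minimal polynomial of Frobenius divides its characteristic polynomial. -/
theorem minpoly_frob_dvd (π : EndAV.End A) {g : ℕ} (hg : topologicalKrullDim A.left = g)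
    [Module.Free ℤ_[l] (AbDual.TateMod A l pΩ)] [Module.Finite ℤ_[l] (AbDual.TateMod A l pΩ)]
    (hl : (l : k) ≠ 0) (hP : (EndAV.End.tateRep l pΩ π).charpoly = P.map (Int.castRingHom ℤ_[l])) :
    minpoly ℚ (EndAV.toEnd0 π) ∣ P.map (Int.castRingHom ℚ) := by
  haveI := IsAlgClosure.isAlgClosed k (K := Ω)
  obtain ⟨-, -, hPdeg⟩ := AVFrobLib.degPoly_of_charpoly Ω l hl hg π hP
  exact minpoly.dvd ℚ _ (by rw [← AVCharpoly.toEnd0_aeval, AVFrobLib.aeval_degPoly_eq_zero _ hPdeg, map_zero])

/-- For squarefree characteristic polynomial it equals the minimal polynomial. -/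
theorem natDegree_minpoly_of_squarefree (hl : (l : k) ≠ 0) (π : EndAV.End A)
    (hπ : WeilLib.IsPowMap π.toHom.left (Nat.card k)) {g : ℕ} (hg : topologicalKrullDim A.left = g)
    [Module.Free ℤ_[l] (AbDual.TateMod A l pΩ)] [Module.Finite ℤ_[l] (AbDual.TateMod A l pΩ)]
    (hP : (EndAV.End.tateRep l pΩ π).charpoly = P.map (Int.castRingHom ℤ_[l])) (hPm : P.Monic)
    (hsq : Squarefree (P.map (Int.castRingHom ℚ))) :
    (minpoly ℚ (EndAV.toEnd0 π)).natDegree = (P.map (Int.castRingHom ℚ)).natDegree := by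
  classical
  set m := minpoly ℚ (EndAV.toEnd0 π) with hm
  have hdvd : m ∣ P.map (Int.castRingHom ℚ) := minpoly_frob_dvd l π hg hl hP
  have hm0 : m ≠ 0 := fun h => (hPm.map (Int.castRingHom ℚ)).ne_zero (zero_dvd_iff.1 (h ▸ hdvd))
  refine le_antisymm (natDegree_le_of_dvd hdvd (hPm.map _).ne_zero) (natDegree_le_of_dvd ?_ hm0)
  rw [← Polynomial.map_dvd_map (algebraMap ℚ ℚ_[l]) (algebraMap ℚ ℚ_[l]).injective (hPm.map _)]
  have hc := charpoly_endMap_int (Ω := Ω) l π hP
  have hsq' : Squarefree (endMap Ω l π).charpoly := by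
    rw [hc]; exact ((PerfectField.separable_iff_squarefree.2 hsq).map).squarefree
  have hne := (LinearMap.charpoly_monic (endMap Ω l π)).ne_zero
  rw [← hc]
  have hm' : m.map (algebraMap ℚ ℚ_[l]) ≠ 0 := Polynomial.map_ne_zero hm0
  refine (dvd_iff_normalizedFactors_le_normalizedFactors hne hm').2
    ((Multiset.le_iff_subset ((squarefree_iff_nodup_normalizedFactors hne).1 hsq')).2 fun Q hQ => ?_)
  obtain ⟨q, hq, hQq⟩ := exists_mem_normalizedFactors_of_dvd hm' (irreducible_of_normalized_factor Q hQ)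
    (dvd_of_aeval_eq_zero (isSemisimple_frob l hl π hπ) hQ (aeval_endMap_eq_zero l π (minpoly.aeval ℚ _)))
  rwa [eq_of_monic_of_associated (monic_of_mem_factors hQ) (monic_of_mem_factors hq) hQq]

/-- `ℚ[π]` is everything iff the characteristic polynomial is squarefree. -/
theorem qAdj_eq_top_iff_squarefree (hl : (l : k) ≠ 0) (π : EndAV.End A)
    (hπ : WeilLib.IsPowMap π.toHom.left (Nat.card k))
    [Module.Free ℤ_[l] (AbDual.TateMod A l pΩ)] [Module.Finite ℤ_[l] (AbDual.TateMod A l pΩ)]
    (hP : (EndAV.End.tateRep l pΩ π).charpoly = P.map (Int.castRingHom ℤ_[l]))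
    (hQm : (P.map (Int.castRingHom ℚ)).Monic) :
    EndAV.QAdj π = ⊤ ↔ Squarefree (P.map (Int.castRingHom ℚ)) := by
  classical
  haveI := IsAlgClosure.isAlgClosed k (K := Ω)
  haveI : Module.Finite ℤ (EndAV.End A) := AVHomForm.moduleFinite_hom (A := A) (B := A)
  haveI : Module.Finite ℚ (EndAV.End0 A) := Module.Finite.base_change ℤ ℚ (EndAV.End A)
  obtain ⟨g, hg⟩ := TorsPtsLib.exists_dim A
  obtain ⟨hPm, -, -⟩ := AVFrobLib.degPoly_of_charpoly Ω l hl hg π hP
  have hK : Module.finrank ℚ (EndAV.QAdj π) = (minpoly ℚ (EndAV.toEnd0 π)).natDegree :=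
    finrank_adjoin_singleton _
  have hE : Module.finrank ℚ (EndAV.End0 A) = rPoly (P.map (Int.castRingHom ℚ)) (P.map (Int.castRingHom ℚ)) := by
    rw [finrank_end0]
    exact finrank_hom_eq_rat (Ω := Ω) l hl π hπ π hπ hP hP
  constructor
  · intro h
    rw [← rPoly_eq_natDegree_iff hQm]
    refine le_antisymm ?_ (natDegree_le_rPoly hQm)
    rw [← hE, ← finrank_top ℚ (EndAV.End0 A), ← Algebra.top_toSubmodule, ← h]
    exact hK.trans_le (natDegree_le_of_dvd (minpoly_frob_dvd l π hg hl hP) hQm.ne_zero)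
  · intro hsq
    refine Algebra.toSubmodule_eq_top.1 (Submodule.eq_top_of_finrank_eq ?_)
    rw [hE, (rPoly_eq_natDegree_iff hQm).2 hsq, ← natDegree_minpoly_of_squarefree l hl π hπ hg hP hPm hsq]
    exact hK

end Groth.Agent.TateIsog
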