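import Groth.Agent.TateIsog.Dim
import Mathlib.RingTheory.Polynomial.RationalRoot
import Mathlib.LinearAlgebra.Matrix.Charpoly.Basic

/-!
# When Frobenius is an integer
-/

noncomputable section

set_option autoImplicit false
set_option linter.style.haveILetI false
set_option linter.unusedSectionVars false
set_option backward.isDefEq.respectTransparency false
set_option backward.isDefEq.respectTransparency.types false
set_option maxHeartbeats 1000000
set_option synthInstance.maxHeartbeats 200000

universe u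

open CategoryTheory CategoryTheory.Limits MonoidalCategory CartesianMonoidalCategory MonObj GrpObj AlgebraicGeometry
open scoped TensorProduct
open Polynomial

namespace Groth.Agent.TateIsog

open Groth.Agent

theorem charpoly_algebraMap {R M : Type*} [CommRing R] [Nontrivial R] [AddCommGroup M] [Module R M] [Module.Free R M]
    [Module.Finite R M] (c : R) :
    (algebraMap R (Module.End R M) c).charpoly = (X - C c) ^ Module.finrank R M := by
  classical
  let b := Module.Free.chooseBasis R M
  rw [← LinearMap.charpoly_toMatrix _ b, show LinearMap.toMatrix b b (algebraMap R (Module.End R M) c) =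
      Matrix.diagonal fun _ => c from (AlgHom.commutes (LinearMap.toMatrixAlgEquiv b).toAlgHom c).trans
      (Matrix.algebraMap_eq_diagonal c), Matrix.charpoly_diagonal, Finset.prod_const,
    Module.finrank_eq_card_chooseBasisIndex, Finset.card_univ]

variable {k Ω : Type u} [Field k] [Finite k] [Field Ω] [Algebra k Ω] [IsAlgClosure k Ω] (l : ℕ) [Fact l.Prime]
  {A : Over (Spec (CommRingCat.of k))} [GrpObj A] [IsCommMonObj A] [IsProper A.hom] [GeometricallyIntegral A.hom]

local notation "pΩ" => SGA7.pt (K := k) Ω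

variable (Ω) in
/-- The representation on the rational Tate module, as a ring homomorphism. -/
def endMapHom : EndAV.End A →+* Module.End ℚ_[l] (ℚ_[l] ⊗[ℤ_[l]] AbDual.TateMod A l pΩ) :=
  (Module.End.baseChangeHom ℤ_[l] ℚ_[l] (AbDual.TateMod A l pΩ)).toRingHom.comp (EndAV.End.tateRep l pΩ)

theorem endMap_intCast (n : ℤ) : endMap Ω l (n : EndAV.End A) = algebraMap ℚ_[l] _ (n : ℚ_[l]) := by
  rw [map_intCast]
  exact map_intCast (endMapHom Ω l (A := A)) n

/-- **Frobenius is an integer.** -/
theorem scalar_iffs (hl : (l : k) ≠ 0) (π : EndAV.End A) (hπ : WeilLib.IsPowMap π.toHom.left (Nat.card k))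
    {g : ℕ} (hg : topologicalKrullDim A.left = g)
    [Module.Free ℤ_[l] (AbDual.TateMod A l pΩ)] [Module.Finite ℤ_[l] (AbDual.TateMod A l pΩ)]
    {P : ℤ[X]} (hP : (EndAV.End.tateRep l pΩ π).charpoly = P.map (Int.castRingHom ℤ_[l])) :
    (Module.finrank ℚ (EndAV.End0 A) = (2 * g) ^ 2 ↔ ∃ n : ℤ, π = (n : EndAV.End A)) ∧
      ((∃ n : ℤ, π = (n : EndAV.End A)) ↔ ∃ a : ℤ, P = (X - C a) ^ (2 * g)) := by
  classical
  haveI := IsAlgClosure.isAlgClosed k (K := Ω)
  obtain ⟨hPm, hPd, hPdeg⟩ := AVFrobLib.degPoly_of_charpoly Ω l hl hg π hP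
  obtain ⟨-, -, hrk⟩ := AVHomForm.tate_free Ω l hl A hg
  have hV : Module.finrank ℚ_[l] (ℚ_[l] ⊗[ℤ_[l]] AbDual.TateMod A l pΩ) = 2 * g := by
    rw [Module.finrank_baseChange]; exact hrk
  have hEnd : Module.finrank ℚ (EndAV.End0 A) =
      Module.finrank ℚ_[l] (inter (endMap Ω l π) (endMap Ω l π) : Submodule ℚ_[l] _) := by
    rw [finrank_end0, ← span_homSet_eq_inter l hl π hπ π hπ, finrank_span_homSet (A := A) (B := A) l hl]
    rfl
  have hc := charpoly_endMap_int (Ω := Ω) l π hP
  refine ⟨⟨fun h => ?_, ?_⟩, ?_, ?_⟩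
  · -- full rank: Frobenius is a scalar on the Tate module
    have htop : inter (endMap Ω l π) (endMap Ω l π) = ⊤ := Submodule.eq_top_of_finrank_eq (by
      rw [← hEnd, h, Module.finrank_linearMap, hV, sq])
    have hcentre : endMap Ω l π ∈ Subalgebra.center ℚ_[l] (Module.End ℚ_[l] (ℚ_[l] ⊗[ℤ_[l]] AbDual.TateMod A l pΩ)) :=
      Subalgebra.mem_center_iff.2 fun φ => (htop.ge (Submodule.mem_top (x := φ)) : _)
    rw [Algebra.IsCentral.center_eq_bot] at hcentre
    obtain ⟨c, hc'⟩ := Algebra.mem_bot.1 hcentre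
    obtain ⟨N, hN, hmem⟩ := exists_nsmul_mem_span (Ω := Ω) (A := A) (B := A) l hl {((1 : EndAV.End A) : EndAV.Hom A A)}
      (π : EndAV.Hom A A) (by
        rw [Set.image_singleton, Submodule.mem_span_singleton]
        refine ⟨c, ?_⟩
        rw [show ratMap Ω l (π : EndAV.Hom A A) = _ from hc'.symm, Algebra.algebraMap_eq_smul_one]
        exact congrArg (c • ·) (ratMap_id l (A := A)))
    obtain ⟨m, hm⟩ := Submodule.mem_span_singleton.1 hmem
    rcases subsingleton_or_nontrivial (EndAV.End A) with hs | hs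
    · exact ⟨0, Subsingleton.elim _ _⟩
    haveI : Module.Free ℤ (EndAV.End A) := AVHomForm.moduleFree_hom (A := A) (B := A)
    let x := EndAV.toEnd0 π
    have hx : x = ((m : ℚ) / (N : ℚ)) • (1 : EndAV.End0 A) := by
      have := congrArg EndAV.toEnd0 (show (m • (1 : EndAV.End A)) = N • π from hm)
      rw [map_zsmul, map_nsmul, map_one, ← Int.cast_smul_eq_zsmul ℚ, ← Nat.cast_smul_eq_nsmul ℚ] at this
      show EndAV.toEnd0 π = _
      rw [div_eq_inv_mul, ← smul_smul, this, inv_smul_smul₀ (Nat.cast_ne_zero.2 hN.ne')]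
    haveI : Nontrivial (EndAV.End0 A) :=
      (AVCharpoly.toEnd0_injective (A := A)).nontrivial
    have hroot : (P.map (Int.castRingHom ℚ)).eval ((m : ℚ) / N) = 0 := by
      have h0 : Polynomial.aeval x (P.map (Int.castRingHom ℚ)) = 0 := by
        rw [← AVCharpoly.toEnd0_aeval, AVFrobLib.aeval_degPoly_eq_zero _ hPdeg, map_zero]
      rw [hx, ← Algebra.algebraMap_eq_smul_one, Polynomial.aeval_algebraMap_apply] at h0
      rw [← Polynomial.coe_aeval_eq_eval]
      exact (map_eq_zero_iff _ (algebraMap ℚ (EndAV.End0 A)).injective).1 h0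
    obtain ⟨n, hn⟩ := isInteger_of_is_root_of_monic hPm (r := (m : ℚ) / N) (by
      rw [Polynomial.eval_map] at hroot
      rw [aeval_def, algebraMap_int_eq]
      exact hroot)
    refine ⟨n, AVCharpoly.toEnd0_injective ?_⟩
    rw [map_intCast, show EndAV.toEnd0 π = x from rfl, hx, ← hn, ← Algebra.algebraMap_eq_smul_one, algebraMap_int_eq,
      eq_intCast, map_intCast]
  · rintro ⟨n, rfl⟩
    rw [hEnd, show inter (endMap Ω l (n : EndAV.End A)) (endMap Ω l (n : EndAV.End A)) = ⊤ from
      eq_top_iff.2 fun φ _ => mem_inter.2 fun x => by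
        rw [endMap_intCast, Module.algebraMap_end_apply, Module.algebraMap_end_apply, map_smul],
      finrank_top, Module.finrank_linearMap, hV, sq]
  · rintro ⟨n, rfl⟩
    refine ⟨n, Polynomial.map_injective (Int.castRingHom ℚ) Int.cast_injective ?_⟩
    refine Polynomial.map_injective _ (algebraMap ℚ ℚ_[l]).injective ?_
    rw [← hc, endMap_intCast, charpoly_algebraMap, hV]
    simp
  · rintro ⟨a, rfl⟩
    refine ⟨a, ratMap_injective (Ω := Ω) l hl (A := A) (B := A) ?_⟩
    show endMap Ω l π = endMap Ω l (a : EndAV.End A)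
    have hF := isSemisimple_frob (Ω := Ω) l hl π hπ
    have hdvd : minpoly ℚ_[l] (endMap Ω l π) ∣ (X - C (a : ℚ_[l])) := by
      refine hF.minpoly_squarefree.isRadical (2 * g) _ ?_
      have := LinearMap.minpoly_dvd_charpoly (endMap Ω l π)
      rw [hc] at this
      simpa using this
    obtain ⟨q, hq⟩ := hdvd
    have h0 := congrArg (Polynomial.aeval (endMap Ω l π)) hq
    rw [map_mul, minpoly.aeval, zero_mul, map_sub, aeval_X, aeval_C, sub_eq_zero] at h0
    rw [h0, endMap_intCast]

end Groth.Agent.TateIsog
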