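import Groth.Agent.TateIsog.Core
import Groth.Agent.TateIsog.ZTrick
import Groth.Agent.Lib.AVProj

/-!
# Stable subspaces are images, and their consequences

Over a field with Tate's finiteness condition, or over a finite field, every Galois stable subspace of the Tate
space is the image of an element of the endomorphism algebra; hence semisimplicity and the double commutant.
-/

noncomputable section

set_option autoImplicit false
set_option linter.style.haveILetI false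
set_option linter.unusedSectionVars false
set_option backward.isDefEq.respectTransparency false
set_option backward.isDefEq.respectTransparency.types false
set_option maxHeartbeats 1000000
set_option synthInstance.maxHeartbeats 200000

universe u

open CategoryTheory CategoryTheory.Limits MonoidalCategory CartesianMonoidalCategory MonObj GrpObj AlgebraicGeometry
open scoped TensorProduct

namespace Groth.Agent.TateIsog

open Groth.Agent Groth.Agent.H23 Groth.Agent.AVPair Groth.Agent.AVPrincPol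
open scoped Groth.Agent.H23.PicMul

variable {k Ω : Type u} [Field k] [Field Ω] [Algebra k Ω] [IsAlgClosure k Ω] (l : ℕ) [Fact l.Prime]

local notation "pΩ" => SGA7.pt (K := k) Ω

section Galois

variable {A B C : Over (Spec (CommRingCat.of k))} [GrpObj A] [IsCommMonObj A] [GrpObj B] [IsCommMonObj B]
  [GrpObj C] [IsCommMonObj C]

variable (A) in
/-- The Galois action on the Tate module. -/
def gal (τ : Ω ≃ₐ[k] Ω) : Module.End ℤ_[l] (AbDual.TateMod A l pΩ) where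
  toFun z := ⟨fun m => Additive.ofMul (SGA7.specAut τ ≫ ((z : ℕ → Additive (pΩ ⟶ A)) m).toMul),
    ⟨fun m => congrArg Additive.ofMul (show (SGA7.specAut τ ≫ ((z : ℕ → Additive (pΩ ⟶ A)) m).toMul) ^ l ^ m = 1 by
        rw [← MonObj.comp_pow,
          show ((z : ℕ → Additive (pΩ ⟶ A)) m).toMul ^ l ^ m = 1 from
            congrArg Additive.toMul (AbDual.TateMod.torsion z m),
          MonObj.comp_one]),
     fun m => congrArg Additive.ofMul (show (SGA7.specAut τ ≫ ((z : ℕ → Additive (pΩ ⟶ A)) (m + 1)).toMul) ^ l =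
        SGA7.specAut τ ≫ ((z : ℕ → Additive (pΩ ⟶ A)) m).toMul by
        rw [← MonObj.comp_pow]
        exact congrArg (SGA7.specAut τ ≫ ·) (congrArg Additive.toMul (AbDual.TateMod.compat z m)))⟩⟩
  map_add' x y := AbDual.TateMod.ext fun m => congrArg Additive.ofMul (MonObj.comp_mul _ _ _)
  map_smul' a x := AbDual.TateMod.ext fun m => congrArg Additive.ofMul
    (MonObj.comp_pow _ _ _)

theorem gal_component (τ : Ω ≃ₐ[k] Ω) (z : AbDual.TateMod A l pΩ) (m : ℕ) :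
    (AbDual.TateMod.component A l pΩ m (gal l A τ z)).toMul =
      SGA7.galAct τ (AbDual.TateMod.component A l pΩ m z).toMul := rfl

/-- The Galois action is determined by its components. -/
theorem eq_gal (ρ : (Ω ≃ₐ[k] Ω) → Module.End ℤ_[l] (AbDual.TateMod A l pΩ))
    (hρ : ∀ (τ : Ω ≃ₐ[k] Ω) (z : AbDual.TateMod A l pΩ) (m : ℕ),
      (AbDual.TateMod.component A l pΩ m (ρ τ z)).toMul =
        SGA7.galAct τ (AbDual.TateMod.component A l pΩ m z).toMul) : ρ = gal l A :=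
  funext fun τ => LinearMap.ext fun z => AbDual.TateMod.ext fun m => Additive.toMul.injective (hρ τ z m)

theorem tate_comp (f : A ⟶ B) [IsMonHom f] (g : B ⟶ C) [IsMonHom g] :
    AbDual.tateMapₗ (l := l) (T := pΩ) (f ≫ g) =
      (AbDual.tateMapₗ (l := l) (T := pΩ) g).comp (AbDual.tateMapₗ (l := l) (T := pΩ) f) :=
  LinearMap.ext fun _ => AbDual.TateMod.ext fun _ => congrArg Additive.ofMul (Category.assoc _ _ _).symm

theorem tate_comp_apply (f : A ⟶ B) [IsMonHom f] (g : B ⟶ C) [IsMonHom g] (z : AbDual.TateMod A l pΩ) :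
    AbDual.tateMapₗ (l := l) (T := pΩ) (f ≫ g) z =
      AbDual.tateMapₗ (l := l) (T := pΩ) g (AbDual.tateMapₗ (l := l) (T := pΩ) f z) :=
  LinearMap.congr_fun (tate_comp l f g) z

theorem tate_eq_id (f : A ⟶ A) [IsMonHom f] (hf : f = 𝟙 A) :
    AbDual.tateMapₗ (l := l) (T := pΩ) f = LinearMap.id :=
  LinearMap.ext fun _ => AbDual.TateMod.ext fun _ => congrArg Additive.ofMul (by rw [hf, Category.comp_id]; rfl)

theorem tate_gal (f : A ⟶ B) [IsMonHom f] (τ : Ω ≃ₐ[k] Ω) :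
    (AbDual.tateMapₗ (l := l) (T := pΩ) f).comp (gal l A τ) =
      (gal l B τ).comp (AbDual.tateMapₗ (l := l) (T := pΩ) f) :=
  LinearMap.ext fun _ => AbDual.TateMod.ext fun _ => congrArg Additive.ofMul (Category.assoc _ _ _)

end Galois

section Main

variable (Ω) in
/-- Every stable subspace is the image of an element of the endomorphism algebra. -/
def RangeProp (X : Over (Spec (CommRingCat.of k))) [GrpObj X] [IsCommMonObj X] : Prop :=
  ∀ W : Submodule ℚ_[l] (ℚ_[l] ⊗[ℤ_[l]] AbDual.TateMod X l pΩ),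
    (∀ τ : Ω ≃ₐ[k] Ω, W.map ((gal l X τ).baseChange ℚ_[l]) ≤ W) →
      ∃ u ∈ Submodule.span ℚ_[l] (endSet (Ω := Ω) l X), LinearMap.range u = W

variable (X : Over (Spec (CommRingCat.of k))) [GrpObj X] [IsCommMonObj X] [IsProper X.hom]
  [GeometricallyIntegral X.hom]

/-- The pieces of an isogeny from a fixed variety. -/
def Level (P : Over (Spec (CommRingCat.of k))) [GrpObj P] {I : Type u} (Bs : I → Over (Spec (CommRingCat.of k)))
    (R : AbDual.TateMod X l pΩ → Prop) : Prop :=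
  ∃ (Z : Over (Spec (CommRingCat.of k))) (_ : GrpObj Z) (_ : IsCommMonObj Z) (s : P ⟶ Z) (_ : IsMonHom s)
    (π : Z ⟶ X) (_ : IsMonHom π) (i : I), IsProper Z.hom ∧ GeometricallyIntegral Z.hom ∧ IsFinite s.left ∧
      Surjective s.left ∧ Nonempty (Z ≅ Bs i) ∧
        ∀ z, z ∈ LinearMap.range (AbDual.tateMapₗ (l := l) (T := pΩ) π) ↔ R z

/-- **The limit over isogenies with finitely many targets.** -/
theorem rangeProp_of_levels (hl : (l : k) ≠ 0) (P : Over (Spec (CommRingCat.of k))) [GrpObj P] [IsCommMonObj P]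
    [IsProper P.hom] [GeometricallyIntegral P.hom] {J : Type} [Fintype J] (emb : J → (X ⟶ P)) (pr : J → (P ⟶ X))
    [∀ j, IsMonHom (emb j)] [∀ j, IsMonHom (pr j)] (hid : ∏ j, (pr j ≫ emb j) = 𝟙 P)
    {I : Type u} [Finite I] (Bs : I → Over (Spec (CommRingCat.of k)))
    (H : ∀ (W : Submodule ℚ_[l] (ℚ_[l] ⊗[ℤ_[l]] AbDual.TateMod X l pΩ)),
      (∀ τ : Ω ≃ₐ[k] Ω, W.map ((gal l X τ).baseChange ℚ_[l]) ≤ W) → ∀ n : ℕ, Level (Ω := Ω) l X P Bs fun z =>
        ∃ w ∈ intPart (Ω := Ω) l X W, ∃ t : AbDual.TateMod X l pΩ, z = w + ((l : ℤ_[l]) ^ n) • t) :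
    RangeProp Ω l X := by
  intro W hW
  have H' := H W hW
  choose Z iG iC s hs π hπ i hZp hZg hsf hss hiso hrange using H'
  obtain ⟨n₀, hn₀⟩ := exists_frequent i
  letI := iG n₀; letI := iC n₀; haveI := hs n₀; haveI := hZp n₀; haveI := hZg n₀; haveI := hsf n₀; haveI := hss n₀
  haveI : IsIntegral (Z n₀).left := GeometricallyIntegral.isIntegral_of_subsingleton (Z n₀).hom
  obtain ⟨b⟩ : Nonempty (Z n₀).left := inferInstance
  obtain ⟨-, -, hm1, t₀, ht₀, -, -, -, -, ht⟩ := AVSubLib.exists_quasiInverse P (Z n₀) (s n₀) b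
  haveI := ht₀
  generalize (s n₀).left.finrank b = m at ht hm1
  let c := (m : ℤ_[l]).valuation
  have hm0 : (m : ℤ_[l]) ≠ 0 := Nat.cast_ne_zero.2 (by omega)
  obtain ⟨a, ha⟩ : ∃ a : ℤ_[l], a * (m : ℤ_[l]) = (l : ℤ_[l]) ^ c := by
    refine ⟨((PadicInt.unitCoeff hm0)⁻¹ : ℤ_[l]ˣ), ?_⟩
    conv_lhs => arg 2; rw [PadicInt.unitCoeff_spec hm0]
    rw [← _root_.mul_assoc, Units.inv_mul, _root_.one_mul]
  refine exists_range_eq l X hl W (J := J) c fun N => ?_
  obtain ⟨n, hnN, hin⟩ := hn₀ N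
  letI := iG n; letI := iC n; haveI := hπ n; haveI := hZp n; haveI := hZg n
  obtain ⟨φ₀⟩ := hiso n₀
  obtain ⟨φ₁⟩ := hiso n
  obtain ⟨ψ, χ, hψ, hψχ, hχψ⟩ := exists_groupIso (φ₀ ≪≫ eqToIso (congrArg Bs hin.symm) ≪≫ φ₁.symm)
  haveI := hψ
  haveI : IsMonHom χ := GrpSchLib.RigidHom.isMonHom_of_one χ (by
    rw [← IsMonHom.one_hom ψ, Category.assoc, hψχ, Category.comp_id, Hom.one_def,
      toUnit_unique (toUnit _) (𝟙 _), Category.id_comp])
  refine ⟨n, hnN, fun j => AbDual.tateMapₗ (l := l) (T := pΩ) (((emb j ≫ s n₀) ≫ ψ) ≫ π n),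
    fun j => Submodule.subset_span ⟨_, inferInstance, rfl⟩, fun j x => ?_, fun w hw => ?_⟩
  · refine (hrange n _).1 ⟨AbDual.tateMapₗ (l := l) (T := pΩ) ((emb j ≫ s n₀) ≫ ψ) x, ?_⟩
    exact (tate_comp_apply l ((emb j ≫ s n₀) ≫ ψ) (π n) x).symm
  · obtain ⟨y, hy⟩ := (hrange n w).2 ⟨w, hw, 0, by rw [smul_zero, add_zero]⟩
    let w' := AbDual.tateMapₗ (l := l) (T := pΩ) χ y
    let x := a • AbDual.tateMapₗ (l := l) (T := pΩ) t₀ w'
    refine ⟨fun j => AbDual.tateMapₗ (l := l) (T := pΩ) (pr j) x, 0, ?_⟩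
    have hsx : AbDual.tateMapₗ (l := l) (T := pΩ) (s n₀) x = ((l : ℤ_[l]) ^ c) • w' := by
      rw [map_smul, ← tate_comp_apply, ← ha, mul_smul, Nat.cast_smul_eq_nsmul]
      congr 1
      refine AbDual.TateMod.ext fun i => Additive.toMul.injective ?_
      show _ ≫ (t₀ ≫ s n₀) = _ ^ m
      rw [ht, MonObj.comp_pow, Category.comp_id]
    have hsum : ∑ j, AbDual.tateMapₗ (l := l) (T := pΩ) (emb j) (AbDual.tateMapₗ (l := l) (T := pΩ) (pr j) x) = x := by
      refine AbDual.TateMod.ext fun i => ?_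
      show AbDual.TateMod.component P l pΩ i (∑ j, _) = _
      rw [map_sum]
      refine Additive.toMul.injective ?_
      rw [toMul_sum]
      show ∏ j, ((AbDual.TateMod.component X l pΩ i (AbDual.tateMapₗ (pr j) x)).toMul ≫ emb j) = _
      let ev : (P ⟶ P) →* (pΩ ⟶ P) :=
        MonoidHom.mk' (fun q => (AbDual.TateMod.component P l pΩ i x).toMul ≫ q) fun q q' => MonObj.comp_mul _ q q'
      have h := map_prod ev (fun j => pr j ≫ emb j) Finset.univ
      rw [hid] at h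
      refine Eq.trans ?_ (h.symm.trans (by simp [ev]; rfl))
      exact Finset.prod_congr rfl fun j _ => Category.assoc _ _ _
    simp only [tate_comp_apply]
    rw [← map_sum, ← map_sum, ← map_sum, hsum, hsx, map_smul, map_smul, ← tate_comp_apply (A := Z n) l χ ψ,
      tate_eq_id l (χ ≫ ψ) hχψ, LinearMap.id_apply, hy, smul_zero, add_zero]

/-- The finiteness condition gives the property. -/
theorem rangeProp_of_fin (hl : (l : k) ≠ 0)
    (hFin : (∃ (J : Type u) (_ : Finite J) (F : J → Over (Spec (CommRingCat.of k))),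
        ∀ (Y : Over (Spec (CommRingCat.of k))) [GrpObj Y] [IsCommMonObj Y] [IsProper Y.hom] [GeometricallyIntegral Y.hom]
          (u : X ⟶ Y) [IsMonHom u] (v : Y ⟶ X) [IsMonHom v] (m : ℕ),
          u ≫ v = (𝟙 X) ^ (l ^ m) → v ≫ u = (𝟙 Y) ^ (l ^ m) → ∃ i, Nonempty (Y ≅ F i))) :
    RangeProp Ω l X := by
  obtain ⟨J, hJ, F, hF⟩ := hFin
  refine rangeProp_of_levels l X hl X (J := Unit) (fun _ => 𝟙 X) (fun _ => 𝟙 X) (by simp) F fun W hW n => ?_
  obtain ⟨Y, sY, cY, u, hu, v, hv, hYp, hYg, huf, hus, huv, hvu, hr⟩ :=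
    exists_level l X hl (gal l X) (gal_component l) W hW n
  haveI := hYp; haveI := hYg; haveI := hu; haveI := hv
  obtain ⟨i, hi⟩ := hF Y u v n huv hvu
  exact ⟨Y, sY, cY, u, hu, v, hv, i, hYp, hYg, huf, hus, hi, hr⟩

/-- The unit section followed by a morphism. -/
theorem eta_comp_eq_one {A B : Over (Spec (CommRingCat.of k))} [GrpObj A] [GrpObj B] (f : A ⟶ B) [IsMonHom f] :
    (η[A] : 𝟙_ _ ⟶ A) ≫ f = 1 := by
  rw [IsMonHom.one_hom f, Hom.one_def, toUnit_unique (toUnit _) (𝟙 _), Category.id_comp]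

theorem eta_eq_one {A : Over (Spec (CommRingCat.of k))} [GrpObj A] : (η[A] : 𝟙_ _ ⟶ A) = 1 := by
  rw [Hom.one_def, toUnit_unique (toUnit _) (𝟙 _), Category.id_comp]

/-- The coordinates of the eighth power. -/
theorem exists_split :
    ∃ (emb : Fin 4 ⊕ Fin 4 → (X ⟶ (X ⊗ X ⊗ X ⊗ X) ⊗ (X ⊗ X ⊗ X ⊗ X)))
      (pr : Fin 4 ⊕ Fin 4 → ((X ⊗ X ⊗ X ⊗ X) ⊗ (X ⊗ X ⊗ X ⊗ X) ⟶ X)),
      (∀ j, IsMonHom (emb j)) ∧ (∀ j, IsMonHom (pr j)) ∧ ∏ j, (pr j ≫ emb j) = 𝟙 _ := by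
  haveI : IsProper (X ⊗ X).hom := isProper_tensor_av _ _
  haveI : GeometricallyIntegral (X ⊗ X).hom := MaxAbelian.geometricallyIntegral_tensor X X
  haveI : IsProper (X ⊗ X ⊗ X).hom := isProper_tensor_av _ _
  haveI : GeometricallyIntegral (X ⊗ X ⊗ X).hom := MaxAbelian.geometricallyIntegral_tensor X _
  haveI : IsProper (X ⊗ X ⊗ X ⊗ X).hom := isProper_tensor_av _ _
  haveI : GeometricallyIntegral (X ⊗ X ⊗ X ⊗ X).hom := MaxAbelian.geometricallyIntegral_tensor X _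
  let P := (X ⊗ X ⊗ X ⊗ X) ⊗ (X ⊗ X ⊗ X ⊗ X)
  haveI : IsProper P.hom := isProper_tensor_av _ _
  haveI : GeometricallyIntegral P.hom := MaxAbelian.geometricallyIntegral_tensor _ _
  haveI : IsCommMonObj P := isCommMonObj_of_isProper_of_geometricallyIntegral _
  haveI : IsCommMonObj (X ⊗ X ⊗ X ⊗ X) := isCommMonObj_of_isProper_of_geometricallyIntegral _
  let i4 : Fin 4 → (X ⟶ X ⊗ X ⊗ X ⊗ X) :=
    ![four (𝟙 X) 1 1 1, four 1 (𝟙 X) 1 1, four 1 1 (𝟙 X) 1, four 1 1 1 (𝟙 X)]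
  let q4 : Fin 4 → (X ⊗ X ⊗ X ⊗ X ⟶ X) := ![p₁, p₂, p₃, p₄]
  haveI : ∀ j, IsMonHom (i4 j) := fun j => GrpSchLib.RigidHom.isMonHom_of_one _ (by
    fin_cases j <;>
      · refine four_ext ?_ ?_ ?_ ?_ <;>
          simp [i4, four, p₁, p₂, p₃, p₄, eta_eq_one, MonObj.comp_one, MonObj.one_comp])
  haveI : ∀ j, IsMonHom (q4 j) := fun j => by
    fin_cases j <;> dsimp [q4] <;> infer_instance
  let e1 : X ⊗ X ⊗ X ⊗ X ⟶ P := lift (𝟙 _) 1
  let e2 : X ⊗ X ⊗ X ⊗ X ⟶ P := lift 1 (𝟙 _)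
  haveI : IsMonHom e1 := GrpSchLib.RigidHom.isMonHom_of_one _ (by
    apply CartesianMonoidalCategory.hom_ext <;> simp [e1, eta_eq_one, MonObj.comp_one, MonObj.one_comp])
  haveI : IsMonHom e2 := GrpSchLib.RigidHom.isMonHom_of_one _ (by
    apply CartesianMonoidalCategory.hom_ext <;> simp [e2, eta_eq_one, MonObj.comp_one, MonObj.one_comp])
  let emb : Fin 4 ⊕ Fin 4 → (X ⟶ P) := Sum.elim (fun j => i4 j ≫ e1) (fun j => i4 j ≫ e2)
  let pr : Fin 4 ⊕ Fin 4 → (P ⟶ X) := Sum.elim (fun j => fst _ _ ≫ q4 j) (fun j => snd _ _ ≫ q4 j)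
  haveI : ∀ j, IsMonHom (emb j) := fun j => by cases j <;> simp only [emb, Sum.elim_inl, Sum.elim_inr] <;> infer_instance
  haveI : ∀ j, IsMonHom (pr j) := fun j => by cases j <;> simp only [pr, Sum.elim_inl, Sum.elim_inr] <;> infer_instance
  have hid4 : ∏ j, (q4 j ≫ i4 j) = 𝟙 (X ⊗ X ⊗ X ⊗ X) := by
    rw [Fin.prod_univ_four]
    refine four_ext ?_ ?_ ?_ ?_ <;>
      simp [q4, i4, four, p₁, p₂, p₃, p₄, MonObj.mul_comp, MonObj.comp_one, MonObj.one_comp]
  have hid : ∏ j, (pr j ≫ emb j) = 𝟙 P := by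
    have h : ∀ (p : P ⟶ X ⊗ X ⊗ X ⊗ X) (e : X ⊗ X ⊗ X ⊗ X ⟶ P) [IsMonHom e],
        ∏ j, ((p ≫ q4 j) ≫ i4 j ≫ e) = p ≫ e := fun p e _ => by
      conv_rhs => rw [← Category.comp_id p, ← hid4]
      let ev : (X ⊗ X ⊗ X ⊗ X ⟶ X ⊗ X ⊗ X ⊗ X) →* (P ⟶ P) :=
        MonoidHom.mk' (fun q => (p ≫ q) ≫ e) fun q q' => by rw [MonObj.comp_mul, MonObj.mul_comp]
      refine Eq.trans ?_ (map_prod ev (fun j => q4 j ≫ i4 j) Finset.univ).symm
      exact Finset.prod_congr rfl fun j _ => by simp [ev, Category.assoc]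
    simp only [Fintype.prod_sum_type, pr, emb, Sum.elim_inl, Sum.elim_inr]
    rw [h (fst _ _) e1, h (snd _ _) e2]
    apply CartesianMonoidalCategory.hom_ext <;>
      simp [e1, e2, MonObj.mul_comp, MonObj.comp_one, MonObj.one_comp]
  exact ⟨emb, pr, inferInstance, inferInstance, hid⟩

/-- A finite field has the property. -/
theorem rangeProp_of_finite [Finite k] (hl : (l : k) ≠ 0) : RangeProp Ω l X := by
  haveI : IsProper (X ⊗ X).hom := isProper_tensor_av _ _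
  haveI : GeometricallyIntegral (X ⊗ X).hom := MaxAbelian.geometricallyIntegral_tensor X X
  haveI : IsProper (X ⊗ X ⊗ X).hom := isProper_tensor_av _ _
  haveI : GeometricallyIntegral (X ⊗ X ⊗ X).hom := MaxAbelian.geometricallyIntegral_tensor X _
  haveI : IsProper (X ⊗ X ⊗ X ⊗ X).hom := isProper_tensor_av _ _
  haveI : GeometricallyIntegral (X ⊗ X ⊗ X ⊗ X).hom := MaxAbelian.geometricallyIntegral_tensor X _
  let P := (X ⊗ X ⊗ X ⊗ X) ⊗ (X ⊗ X ⊗ X ⊗ X)
  haveI : IsProper P.hom := isProper_tensor_av _ _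
  haveI : GeometricallyIntegral P.hom := MaxAbelian.geometricallyIntegral_tensor _ _
  haveI : IsCommMonObj P := isCommMonObj_of_isProper_of_geometricallyIntegral _
  haveI : IsCommMonObj (X ⊗ X ⊗ X ⊗ X) := isCommMonObj_of_isProper_of_geometricallyIntegral _
  obtain ⟨g, hg⟩ := TorsPtsLib.exists_dim P
  obtain ⟨n₁, Bs, hBs⟩ := exists_finite_avs (k := k) g (2 ^ g)
  obtain ⟨emb, pr, hemb, hpr, hid⟩ := exists_split (k := k) X
  haveI := hemb; haveI := hpr
  refine rangeProp_of_levels l X hl P emb pr hid (I := ULift.{u} (Fin n₁)) (fun i => Bs i.down) fun W hW n => ?_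
  obtain ⟨Y, sY, cY, u, hu, v, hv, hYp, hYg, huf, hus, huv, hvu, hr⟩ :=
    exists_level l X hl (gal l X) (gal_component l) W hW n
  haveI := hYp; haveI := hYg; haveI := hu; haveI := hv; haveI := huf; haveI := hus
  -- a symmetric ample module on `Y`
  obtain ⟨L₀, hL₀⟩ := AVProj.exists_isAmple (X := Y)
  haveI : IsIso ((𝟙 Y)⁻¹ : Y ⟶ Y).left := by
    haveI : IsIso ((𝟙 Y)⁻¹ : Y ⟶ Y) := ⟨(𝟙 Y)⁻¹, by
      rw [GrpObj.comp_inv, Category.comp_id, _root_.inv_inv], by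
      rw [GrpObj.comp_inv, Category.comp_id, _root_.inv_inv]⟩
    exact (Over.forget _).map_isIso ((𝟙 Y)⁻¹ : Y ⟶ Y)
  let L : Y.left.Modules := CohB1.tensorMod L₀ ((Scheme.Modules.pullback ((𝟙 Y)⁻¹ : Y ⟶ Y).left).obj L₀)
  have hL : CohB1.IsAmple L := isAmple_tensorMod hL₀ (RGLib.Lim8.isAmple_pullback_affine _ hL₀)
  have hsym : pl (𝟙 Y)⁻¹ (PicF.cl L) = PicF.cl L := by
    rw [show PicF.cl L = PicF.cl L₀ * pl (𝟙 Y)⁻¹ (PicF.cl L₀) from PicMul.cl_tensor _ _, map_mul, pl_pl,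
      GrpObj.comp_inv, Category.comp_id, _root_.inv_inv, pl_id, _root_.mul_comm]
  -- the products
  haveI : IsProper (Y ⊗ Y).hom := isProper_tensor_av _ _
  haveI : GeometricallyIntegral (Y ⊗ Y).hom := MaxAbelian.geometricallyIntegral_tensor Y Y
  haveI : IsProper (Y ⊗ Y ⊗ Y).hom := isProper_tensor_av _ _
  haveI : GeometricallyIntegral (Y ⊗ Y ⊗ Y).hom := MaxAbelian.geometricallyIntegral_tensor Y _
  haveI : IsProper (Y ⊗ Y ⊗ Y ⊗ Y).hom := isProper_tensor_av _ _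
  haveI : GeometricallyIntegral (Y ⊗ Y ⊗ Y ⊗ Y).hom := MaxAbelian.geometricallyIntegral_tensor Y _
  let u8 : P ⟶ (Y ⊗ Y ⊗ Y ⊗ Y) ⊗ (Y ⊗ Y ⊗ Y ⊗ Y) := (u ⊗ₘ u ⊗ₘ u ⊗ₘ u) ⊗ₘ (u ⊗ₘ u ⊗ₘ u ⊗ₘ u)
  haveI : IsMonHom u8 := inferInstance
  haveI : MorphismProperty.IsStableUnderComposition @Surjective := ⟨fun f g _ _ => inferInstance⟩
  have hfs : ∀ {A B A' B' : Over (Spec (CommRingCat.of k))} (f : A ⟶ B) (f' : A' ⟶ B'),
      IsFinite f.left ∧ Surjective f.left → IsFinite f'.left ∧ Surjective f'.left →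
      IsFinite (f ⊗ₘ f').left ∧ Surjective (f ⊗ₘ f').left := fun f f' h h' =>
    ⟨MorphismProperty.pullbackMap (P := @IsFinite) h.1 h'.1 (Over.w f).symm (Over.w f').symm,
      MorphismProperty.pullbackMap (P := @Surjective) h.2 h'.2 (Over.w f).symm (Over.w f').symm⟩
  have h4 := hfs u _ ⟨huf, hus⟩ (hfs u _ ⟨huf, hus⟩ (hfs u u ⟨huf, hus⟩ ⟨huf, hus⟩))
  obtain ⟨h8f, h8s⟩ : IsFinite u8.left ∧ Surjective u8.left := hfs _ _ h4 h4
  obtain ⟨Q, sQ, f, M, hQp, hQg, hfm, hff, hfsur, hdim, hMa, hχ⟩ := exists_zarhin_four hL hsym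
    ((topologicalKrullDim_eq_of_finite_surjective u8.left).symm.trans hg)
  haveI := hQp; haveI := hQg; haveI := hfm; haveI := hff; haveI := hfsur
  let Z := (Y ⊗ Y ⊗ Y ⊗ Y) ⊗ Q
  haveI : IsProper Z.hom := isProper_tensor_av _ _
  haveI : GeometricallyIntegral Z.hom := MaxAbelian.geometricallyIntegral_tensor _ _
  haveI : IsCommMonObj Z := isCommMonObj_of_isProper_of_geometricallyIntegral _
  obtain ⟨i, hi⟩ := hBs Z M hMa hdim (hχ.trans (by push_cast; rfl))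
  let σ : Y ⟶ Z := lift (four (𝟙 Y) 1 1 1) 1
  haveI : IsMonHom σ := GrpSchLib.RigidHom.isMonHom_of_one _ (by
    refine CartesianMonoidalCategory.hom_ext _ _ (four_ext ?_ ?_ ?_ ?_) ?_ <;>
      simp [σ, four, p₁, p₂, p₃, p₄, eta_eq_one, MonObj.comp_one, MonObj.one_comp])
  let π : Z ⟶ X := (fst _ Q ≫ p₁) ≫ v
  have hσπ : σ ≫ π = v := by
    simp [σ, π, four, p₁]
  haveI : IsMonHom π := inferInstance
  haveI : IsFinite (u8 ≫ f).left := inferInstanceAs (IsFinite (u8.left ≫ f.left))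
  refine ⟨Z, inferInstance, inferInstance, u8 ≫ f, inferInstance, π, inferInstance, ⟨i⟩, inferInstance,
    inferInstance, inferInstance, inferInstanceAs (Surjective (u8.left ≫ f.left)), hi, fun z => ?_⟩
  refine Iff.trans ?_ (hr z)
  constructor
  · rintro ⟨y, rfl⟩
    exact ⟨AbDual.tateMapₗ (fst _ Q ≫ p₁) y, (tate_comp_apply l (fst _ Q ≫ p₁) v y).symm⟩
  · rintro ⟨y, rfl⟩
    refine ⟨AbDual.tateMapₗ σ y, ?_⟩
    rw [← tate_comp_apply]
    exact AbDual.TateMod.ext fun m => congrArg Additive.ofMul (by rw [hσπ])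

/-- Semisimplicity. -/
theorem semisimple_of_rangeProp (hl : (l : k) ≠ 0) (h : RangeProp Ω l X)
    (W : Submodule ℚ_[l] (ℚ_[l] ⊗[ℤ_[l]] AbDual.TateMod X l pΩ))
    (hW : ∀ τ : Ω ≃ₐ[k] Ω, W.map ((gal l X τ).baseChange ℚ_[l]) ≤ W) :
    ∃ W' : Submodule ℚ_[l] (ℚ_[l] ⊗[ℤ_[l]] AbDual.TateMod X l pΩ),
      IsCompl W W' ∧ ∀ τ : Ω ≃ₐ[k] Ω, W'.map ((gal l X τ).baseChange ℚ_[l]) ≤ W' := by
  haveI := isSemisimpleRing_endSub (Ω := Ω) l X
  obtain ⟨u, hu, hur⟩ := h W hW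
  exact exists_stable_compl (endSub (Ω := Ω) l X) (fun τ => (gal l X τ).baseChange ℚ_[l])
    (commute_galois l X (gal l X) (gal_component l)) W ⟨⟨u, (mem_endSub l X).2 hu⟩, hur⟩

/-- Blocks of endomorphisms of a square. -/
theorem comp_mem_span {Y : Over (Spec (CommRingCat.of k))} [GrpObj Y] [IsCommMonObj Y] (p : Y ⟶ X) (j : X ⟶ Y)
    [IsMonHom p] [IsMonHom j] {U : Module.End ℚ_[l] (ℚ_[l] ⊗[ℤ_[l]] AbDual.TateMod Y l pΩ)}
    (hU : U ∈ Submodule.span ℚ_[l] (endSet (Ω := Ω) l Y)) :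
    ((AbDual.tateMapₗ (l := l) (T := pΩ) p).baseChange ℚ_[l] ∘ₗ U ∘ₗ
      (AbDual.tateMapₗ (l := l) (T := pΩ) j).baseChange ℚ_[l] : Module.End ℚ_[l] _) ∈
      Submodule.span ℚ_[l] (endSet (Ω := Ω) l X) := by
  induction hU using Submodule.span_induction with
  | mem ψ hψ =>
    obtain ⟨f, hf, rfl⟩ := hψ
    refine Submodule.subset_span ⟨(j ≫ f) ≫ p, inferInstance, ?_⟩
    rw [tate_comp, tate_comp, LinearMap.baseChange_comp, LinearMap.baseChange_comp]
  | zero => rw [LinearMap.zero_comp, LinearMap.comp_zero]; exact zero_mem _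
  | add a b _ _ ha hb => rw [LinearMap.add_comp, LinearMap.comp_add]; exact add_mem ha hb
  | smul r a _ ha => rw [LinearMap.smul_comp, LinearMap.comp_smul]; exact Submodule.smul_mem _ r ha

/-- The double commutant. -/
theorem mem_span_of_rangeProp (hl : (l : k) ≠ 0)
    (h : haveI : IsProper (X ⊗ X).hom := isProper_tensor_av _ _; RangeProp Ω l (X ⊗ X))
    (φ : Module.End ℚ_[l] (ℚ_[l] ⊗[ℤ_[l]] AbDual.TateMod X l pΩ))
    (hφ : ∀ τ : Ω ≃ₐ[k] Ω, φ ∘ₗ (gal l X τ).baseChange ℚ_[l] = (gal l X τ).baseChange ℚ_[l] ∘ₗ φ) :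
    φ ∈ Submodule.span ℚ_[l] (endSet (Ω := Ω) l X) := by
  haveI := IsAlgClosure.isAlgClosed k (K := Ω)
  obtain ⟨g, hg⟩ := TorsPtsLib.exists_dim X
  obtain ⟨hfree, hfin, -⟩ := AVHomForm.tate_free Ω l hl X hg
  haveI := hfree; haveI := hfin
  haveI := isSemisimpleRing_endSub (Ω := Ω) l X
  refine (mem_endSub l X).1 (mem_of_commutant (endSub (Ω := Ω) l X) φ fun c hc => ?_)
  haveI : IsProper (X ⊗ X).hom := isProper_tensor_av _ _
  haveI : GeometricallyIntegral (X ⊗ X).hom := MaxAbelian.geometricallyIntegral_tensor X X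
  let j₁ : X ⟶ X ⊗ X := lift (𝟙 X) 1
  let j₂ : X ⟶ X ⊗ X := lift 1 (𝟙 X)
  haveI : IsMonHom j₁ := GrpSchLib.RigidHom.isMonHom_of_one _ (by
    apply CartesianMonoidalCategory.hom_ext <;> simp [j₁, eta_eq_one, MonObj.comp_one, MonObj.one_comp])
  haveI : IsMonHom j₂ := GrpSchLib.RigidHom.isMonHom_of_one _ (by
    apply CartesianMonoidalCategory.hom_ext <;> simp [j₂, eta_eq_one, MonObj.comp_one, MonObj.one_comp])
  let bt : ∀ {A B : Over (Spec (CommRingCat.of k))} [GrpObj A] [IsCommMonObj A] [GrpObj B] [IsCommMonObj B]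
      (f : A ⟶ B) [IsMonHom f],
      ℚ_[l] ⊗[ℤ_[l]] AbDual.TateMod A l pΩ →ₗ[ℚ_[l]] ℚ_[l] ⊗[ℤ_[l]] AbDual.TateMod B l pΩ :=
    fun f _ => (AbDual.tateMapₗ (l := l) (T := pΩ) f).baseChange ℚ_[l]
  let P₁ := bt (fst X X)
  let P₂ := bt (snd X X)
  let I₁ := bt j₁
  let I₂ := bt j₂
  have hPI : P₁ ∘ₗ I₁ = LinearMap.id ∧ P₂ ∘ₗ I₂ = LinearMap.id ∧ P₂ ∘ₗ I₁ = 0 ∧ P₁ ∘ₗ I₂ = 0 := by
    have h0 : ∀ (f : X ⟶ X) [IsMonHom f], f = 1 → AbDual.tateMapₗ (l := l) (T := pΩ) f = 0 := fun f _ hf =>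
      LinearMap.ext fun _ => AbDual.TateMod.ext fun _ => congrArg Additive.ofMul (by rw [hf, MonObj.comp_one])
    refine ⟨?_, ?_, ?_, ?_⟩ <;> simp only [P₁, P₂, I₁, I₂, bt, ← LinearMap.baseChange_comp, ← tate_comp]
    · rw [tate_eq_id l _ (lift_fst _ _), LinearMap.baseChange_id]
    · rw [tate_eq_id l _ (lift_snd _ _), LinearMap.baseChange_id]
    · rw [h0 _ (lift_snd _ _), LinearMap.baseChange_zero]
    · rw [h0 _ (lift_fst _ _), LinearMap.baseChange_zero]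
  have hsum : ∀ z, I₁ (P₁ z) + I₂ (P₂ z) = z := by
    intro z
    induction z using TensorProduct.induction_on with
    | zero => simp
    | tmul q x =>
      simp only [P₁, P₂, I₁, I₂, bt, LinearMap.baseChange_tmul, ← TensorProduct.tmul_add]
      congr 1
      refine AbDual.TateMod.ext fun i => Additive.toMul.injective ?_
      show ((AbDual.TateMod.component (X ⊗ X) l pΩ i x).toMul ≫ fst X X) ≫ j₁ *
        ((AbDual.TateMod.component (X ⊗ X) l pΩ i x).toMul ≫ snd X X) ≫ j₂ = _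
      apply CartesianMonoidalCategory.hom_ext <;>
        simp [j₁, j₂, MonObj.mul_comp, MonObj.comp_one, MonObj.one_comp] <;> rfl
    | add a b ha hb => simp only [map_add]; rw [add_add_add_comm, ha, hb]
  let G := I₁ + I₂ ∘ₗ φ
  obtain ⟨U, hU, hUr⟩ := h (LinearMap.range G) fun τ => by
    rintro _ ⟨_, ⟨x, rfl⟩, rfl⟩
    refine ⟨(gal l X τ).baseChange ℚ_[l] x, ?_⟩
    have hI : ∀ (j : X ⟶ X ⊗ X) [IsMonHom j] y, bt j ((gal l X τ).baseChange ℚ_[l] y) =
        (gal l (X ⊗ X) τ).baseChange ℚ_[l] (bt j y) := fun j _ y => by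
      simp only [bt]
      rw [← LinearMap.comp_apply, ← LinearMap.baseChange_comp, tate_gal, LinearMap.baseChange_comp]
      rfl
    show I₁ _ + I₂ (φ _) = _
    rw [show φ ((gal l X τ).baseChange ℚ_[l] x) = (gal l X τ).baseChange ℚ_[l] (φ x) from LinearMap.congr_fun (hφ τ) x]
    simp only [I₁, I₂, hI, G, LinearMap.add_apply, LinearMap.comp_apply, map_add]
  -- the blocks of `U`
  have hblock : ∀ (p : X ⊗ X ⟶ X) (j : X ⟶ X ⊗ X) [IsMonHom p] [IsMonHom j],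
      Commute c (bt p ∘ₗ U ∘ₗ bt j) := fun p j _ _ =>
    hc ⟨_, (mem_endSub l X).2 (comp_mem_span l X p j hU)⟩
  have hgraph : ∀ z, P₂ (U z) = φ (P₁ (U z)) := fun z => by
    obtain ⟨x, hx⟩ : U z ∈ LinearMap.range G := hUr ▸ ⟨z, rfl⟩
    have e1 := LinearMap.congr_fun hPI.1 x
    have e2 := LinearMap.congr_fun hPI.2.1 (φ x)
    have e3 := LinearMap.congr_fun hPI.2.2.1 x
    have e4 := LinearMap.congr_fun hPI.2.2.2 (φ x)
    simp only [LinearMap.comp_apply, LinearMap.id_apply, LinearMap.zero_apply] at e1 e2 e3 e4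
    simp only [← hx, G, LinearMap.add_apply, LinearMap.comp_apply, map_add, e1, e2, e3, e4, add_zero, zero_add]
  refine LinearMap.ext fun x => ?_
  obtain ⟨z, hz⟩ : G x ∈ LinearMap.range U := hUr.symm ▸ ⟨x, rfl⟩
  have hx : x = P₁ (U z) := by
    have e1 := LinearMap.congr_fun hPI.1 x
    have e4 := LinearMap.congr_fun hPI.2.2.2 (φ x)
    simp only [LinearMap.comp_apply, LinearMap.id_apply, LinearMap.zero_apply] at e1 e4
    rw [hz]
    simp only [G, LinearMap.add_apply, LinearMap.comp_apply, map_add, e1, e4, add_zero]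
  let z' := I₁ (c (P₁ z)) + I₂ (c (P₂ z))
  have hcb : ∀ (p : X ⊗ X ⟶ X) [IsMonHom p], c (bt p (U z)) = bt p (U z') := fun p _ => by
    have e1 := LinearMap.congr_fun (hblock p j₁).eq (P₁ z)
    have e2 := LinearMap.congr_fun (hblock p j₂).eq (P₂ z)
    simp only [Module.End.mul_apply, LinearMap.comp_apply] at e1 e2
    conv_lhs => rw [← hsum z]
    simp only [z', map_add]
    rw [e1, e2]
  show c (φ x) = φ (c x)
  rw [hx, ← hgraph, hcb, hcb, hgraph]

end Main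

end Groth.Agent.TateIsog
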