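import Mathlib.RingTheory.Nakayama
import Mathlib.NumberTheory.Padics.PadicIntegers
import Mathlib.LinearAlgebra.Charpoly.BaseChange
import Mathlib.LinearAlgebra.Charpoly.Basic
import Mathlib.RingTheory.LocalRing.ResidueField.Basic
import Mathlib.RingTheory.TensorProduct.Basic
import Mathlib.RingTheory.PrincipalIdealDomain
import Mathlib.Algebra.Polynomial.Lifts
import Mathlib.RingTheory.TensorProduct.Free
import Mathlib.LinearAlgebra.Dimension.OrzechProperty

/-!
# Cyclic vectors
-/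

noncomputable section

set_option autoImplicit false
set_option linter.style.haveILetI false
set_option maxHeartbeats 1000000

open Polynomial UniqueFactorizationMonoid
open scoped TensorProduct

namespace Groth.Agent.TateIsog

section Field

variable {K : Type*} [Field K] {V : Type*} [AddCommGroup V] [Module K V] [FiniteDimensional K V]

/-- A vector with annihilator the minimal polynomial. -/
theorem exists_annihilator_eq (T : Module.End K V) :
    ∃ v : V, ∀ p : K[X], aeval T p v = 0 → minpoly K T ∣ p := by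
  classical
  have hint : IsIntegral K T := Algebra.IsIntegral.isIntegral T
  set m := minpoly K T with hm
  have hm0 : m ≠ 0 := minpoly.ne_zero hint
  let S := (normalizedFactors m).toFinset
  let e : K[X] → ℕ := fun Q => (normalizedFactors m).count Q
  have hirr : ∀ Q ∈ S, Irreducible Q := fun Q hQ => irreducible_of_normalized_factor Q (Multiset.mem_toFinset.1 hQ)
  have hprod : ∏ Q ∈ S, Q ^ e Q = m := by
    have hmon : m.Monic := minpoly.monic hint
    conv_rhs => rw [← hmon.normalize_eq_self, ← prod_normalizedFactors_eq hm0]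
    exact (Finset.prod_multiset_count _).symm
  have hsplit : ∀ Q ∈ S, m = Q ^ e Q * ∏ R ∈ S.erase Q, R ^ e R := fun Q hQ => by
    rw [Finset.mul_prod_erase S (fun R => R ^ e R) hQ, hprod]
  have hcop : ∀ Q ∈ S, IsCoprime Q (∏ R ∈ S.erase Q, R ^ e R) := fun Q hQ =>
    IsCoprime.prod_right fun R hR => IsCoprime.pow_right ((hirr Q hQ).coprime_iff_not_dvd.2 fun hd => by
      have hR' := Multiset.mem_toFinset.1 (Finset.mem_of_mem_erase hR)
      refine Finset.ne_of_mem_erase hR ?_
      have hass := (hirr Q hQ).associated_of_dvd (irreducible_of_normalized_factor R hR') hd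
      rw [← normalize_normalized_factor R hR', ← normalize_normalized_factor Q (Multiset.mem_toFinset.1 hQ)]
      exact (normalize_eq_normalize_iff_associated.2 hass).symm)
  have hex : ∀ Q ∈ S, ∃ w : V, aeval T (Q ^ e Q) w = 0 ∧ aeval T (Q ^ (e Q - 1)) w ≠ 0 := by
    intro Q hQ
    have hepos : 0 < e Q := Multiset.count_pos.2 (Multiset.mem_toFinset.1 hQ)
    set c := ∏ R ∈ S.erase Q, R ^ e R with hc
    obtain ⟨v, hv⟩ : ∃ v, aeval T (Q ^ (e Q - 1) * c) v ≠ 0 := by
      by_contra h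
      push Not at h
      have hd : m ∣ Q ^ (e Q - 1) * c := minpoly.dvd K T (LinearMap.ext h)
      rw [hsplit Q hQ, ← hc, show e Q = e Q - 1 + 1 by omega, Nat.add_sub_cancel, pow_succ, mul_assoc] at hd
      have hc0 : c ≠ 0 := Finset.prod_ne_zero_iff.2 fun R hR => pow_ne_zero _ (hirr R (Finset.mem_of_mem_erase hR)).ne_zero
      have hd' := (mul_dvd_mul_iff_left (pow_ne_zero (e Q - 1) (hirr Q hQ).ne_zero)).1 hd
      exact (hirr Q hQ).not_isUnit (isUnit_of_dvd_one ((mul_dvd_mul_iff_right hc0).1 (by rwa [one_mul])))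
    refine ⟨aeval T c v, ?_, ?_⟩
    · rw [← Module.End.mul_apply, ← map_mul, hc, ← hsplit Q hQ, hm, minpoly.aeval, LinearMap.zero_apply]
    · rwa [← Module.End.mul_apply, ← map_mul]
  choose w hw1 hw2 using hex
  refine ⟨∑ Q ∈ S.attach, w Q.1 Q.2, fun p hp => ?_⟩
  rw [← hprod]
  refine Finset.prod_dvd_of_coprime (fun Q hQ R hR hne => ?_) fun Q hQ => ?_
  · exact IsCoprime.pow_left ((IsCoprime.prod_right_iff.1 (hcop Q hQ)) R (Finset.mem_erase.2 ⟨Ne.symm hne, hR⟩))
  · set c := ∏ R ∈ S.erase Q, R ^ e R with hc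
    have h1 : aeval T (p * c) (w Q hQ) = 0 := by
      have h2 := congrArg (aeval T c) hp
      rw [map_zero, ← Module.End.mul_apply, ← map_mul, mul_comm c p, map_sum,
        Finset.sum_eq_single ⟨Q, hQ⟩ (fun R _ hR => ?_) (fun h => absurd (Finset.mem_attach _ _) h)] at h2
      · exact h2
      · obtain ⟨d, hd⟩ : R.1 ^ e R.1 ∣ c :=
          Finset.dvd_prod_of_mem _ (Finset.mem_erase.2 ⟨fun h => hR (Subtype.ext h), R.2⟩)
        rw [hd, mul_comm _ d, ← mul_assoc, map_mul, Module.End.mul_apply, hw1, map_zero]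
    by_contra hnd
    have hnd' : ¬ Q ^ e Q ∣ p * c := fun h =>
      hnd ((IsCoprime.pow_left (hcop Q hQ)).dvd_of_dvd_mul_right h)
    obtain ⟨j, hj, hass⟩ := (dvd_prime_pow (hirr Q hQ).prime (e Q)).1 (EuclideanDomain.gcd_dvd_right (p * c) (Q ^ e Q))
    have hlt : j < e Q := by
      refine lt_of_le_of_ne hj fun h => hnd' ?_
      exact (h ▸ hass.symm.dvd).trans (EuclideanDomain.gcd_dvd_left _ _)
    refine hw2 Q hQ ?_
    obtain ⟨d, hd⟩ : EuclideanDomain.gcd (p * c) (Q ^ e Q) ∣ Q ^ (e Q - 1) :=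
      hass.dvd.trans (pow_dvd_pow Q (by omega))
    rw [hd, mul_comm, map_mul, Module.End.mul_apply]
    have hg : aeval T (EuclideanDomain.gcd (p * c) (Q ^ e Q)) (w Q hQ) = 0 := by
      rw [EuclideanDomain.gcd_eq_gcd_ab, map_add, LinearMap.add_apply, mul_comm (p * c), mul_comm (Q ^ e Q),
        map_mul (aeval T) _ (p * c), map_mul (aeval T) _ (Q ^ e Q), Module.End.mul_apply, Module.End.mul_apply, h1, hw1,
        map_zero, map_zero, add_zero]
    rw [hg, map_zero]

/-- An operator whose minimal polynomial has full degree has a cyclic vector. -/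
theorem exists_cyclic_vector (T : Module.End K V) (h : Module.finrank K V ≤ (minpoly K T).natDegree) :
    ∃ v : V, Submodule.span K (Set.range fun i : Fin (Module.finrank K V) => (T ^ (i : ℕ)) v) = ⊤ := by
  obtain ⟨v, hv⟩ := exists_annihilator_eq T
  refine ⟨v, LinearIndependent.span_eq_top_of_card_eq_finrank' ?_ (Fintype.card_fin _)⟩
  rw [Fintype.linearIndependent_iff]
  intro c hc i
  have hp : aeval T (∑ j : Fin (Module.finrank K V), C (c j) * X ^ (j : ℕ)) v = 0 := by
    rw [map_sum, LinearMap.sum_apply]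
    simpa [Algebra.smul_def, Module.algebraMap_end_apply] using hc
  have h0 : (∑ j : Fin (Module.finrank K V), C (c j) * X ^ (j : ℕ)) = 0 := by
    refine eq_zero_of_dvd_of_degree_lt (hv _ hp) ?_
    rw [degree_eq_natDegree (minpoly.ne_zero (Algebra.IsIntegral.isIntegral T))]
    refine (degree_sum_fin_lt c).trans_le ?_
    exact_mod_cast h
  simpa [Polynomial.finset_sum_coeff, Polynomial.coeff_C_mul, Polynomial.coeff_X_pow, Fin.val_inj] using
    congrArg (fun p : K[X] => p.coeff i) h0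

end Field

variable (l : ℕ) [Fact l.Prime] {T : Type*} [AddCommGroup T] [Module ℤ_[l] T] [Module.Free ℤ_[l] T]
  [Module.Finite ℤ_[l] T]

local notation "𝕜" => IsLocalRing.ResidueField ℤ_[l]

theorem exists_eq_smul_of_tmul_eq_zero {t : T} (h : (1 : 𝕜) ⊗ₜ[ℤ_[l]] t = 0) :
    ∃ t' : T, t = (l : ℤ_[l]) • t' := by
  classical
  let b := Module.Free.chooseBasis ℤ_[l] T
  have hd : ∀ i, (l : ℤ_[l]) ∣ b.repr t i := fun i => by
    have h' := congrArg (fun z => (Algebra.TensorProduct.basis 𝕜 b).repr z i) h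
    simp only [Algebra.TensorProduct.basis_repr_tmul, Finsupp.smul_apply, Finsupp.mapRange_apply, smul_eq_mul,
      one_mul, map_zero, Finsupp.zero_apply] at h'
    rw [IsLocalRing.ResidueField.algebraMap_eq, IsLocalRing.residue_eq_zero_iff, PadicInt.maximalIdeal_eq_span_p,
      Ideal.mem_span_singleton] at h'
    exact h'
  choose c hc using hd
  refine ⟨∑ i, c i • b i, ?_⟩
  rw [Finset.smul_sum]
  conv_lhs => rw [← b.sum_repr t]
  exact Finset.sum_congr rfl fun i _ => by rw [hc, mul_smul]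

/-- **An operator whose commutant is its own algebra has a cyclic vector.** -/
theorem exists_cyclic_of_commutant (F : Module.End ℤ_[l] T) {n : ℕ} (hn : Module.finrank ℤ_[l] T = n)
    (hli : LinearIndependent ℤ_[l] fun i : Fin n => F ^ (i : ℕ))
    (hcomm : ∀ u : Module.End ℤ_[l] T, Commute u F → u ∈ Submodule.span ℤ_[l] (Set.range fun i : Fin n => F ^ (i : ℕ))) :
    ∃ x : T, LinearIndependent ℤ_[l] (fun i : Fin n => (F ^ (i : ℕ)) x) ∧
      Submodule.span ℤ_[l] (Set.range fun i : Fin n => (F ^ (i : ℕ)) x) = ⊤ := by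
  classical
  have hdim : Module.finrank 𝕜 (𝕜 ⊗[ℤ_[l]] T) = n := by rw [Module.finrank_baseChange, hn]
  let Fb : Module.End 𝕜 (𝕜 ⊗[ℤ_[l]] T) := F.baseChange 𝕜
  have hbc : ∀ p : ℤ_[l][X], aeval Fb (p.map (algebraMap ℤ_[l] 𝕜)) = (aeval F p).baseChange 𝕜 := fun p => by
    rw [aeval_map_algebraMap]
    exact aeval_algHom_apply (Module.End.baseChangeHom ℤ_[l] 𝕜 T) F p
  have hdeg : n ≤ (minpoly 𝕜 Fb).natDegree := by
    by_contra hlt
    push Not at hlt
    have hint : IsIntegral 𝕜 Fb := Algebra.IsIntegral.isIntegral Fb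
    obtain ⟨g, hgmap, hgdeg, hgm⟩ := Polynomial.lifts_and_natDegree_eq_and_monic
      ((Polynomial.lifts_iff_coeff_lifts _).2 fun j => IsLocalRing.residue_surjective ((minpoly 𝕜 Fb).coeff j))
      (minpoly.monic hint) (f := algebraMap ℤ_[l] 𝕜)
    have hz : ∀ t, ∃ t', aeval F g t = (l : ℤ_[l]) • t' := fun t => exists_eq_smul_of_tmul_eq_zero l (by
      rw [← LinearMap.baseChange_tmul, ← hbc, hgmap]
      exact LinearMap.congr_fun (minpoly.aeval 𝕜 Fb) _)
    choose w hw using hz
    let b := Module.Free.chooseBasis ℤ_[l] T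
    let u : Module.End ℤ_[l] T := b.constr ℤ_[l] (fun i => w (b i))
    have hu : (l : ℤ_[l]) • u = aeval F g := b.ext fun i => by
      rw [LinearMap.smul_apply, show u (b i) = w (b i) from b.constr_basis _ _ i, ← hw]
    have huF : Commute u F := by
      refine smul_right_injective (Module.End ℤ_[l] T) (show (l : ℤ_[l]) ≠ 0 from
        Nat.cast_ne_zero.2 (Fact.out : l.Prime).ne_zero) ?_
      show (l : ℤ_[l]) • (u * F) = (l : ℤ_[l]) • (F * u)
      rw [← smul_mul_assoc, ← mul_smul_comm, hu]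
      have h3 := ((Commute.all g X).map (aeval F)).eq
      rwa [aeval_X] at h3
    obtain ⟨c, hc⟩ := Submodule.mem_span_range_iff_exists_fun _ |>.1 (hcomm u huF)
    rw [hgdeg.symm] at hlt
    have h1 := Fintype.linearIndependent_iff.1 hli (fun i => g.coeff i - (l : ℤ_[l]) * c i) (by
      simp only [sub_smul, mul_smul, Finset.sum_sub_distrib, ← Finset.smul_sum, hc, hu]
      rw [sub_eq_zero, aeval_eq_sum_range' hlt, ← Fin.sum_univ_eq_sum_range (fun i => g.coeff i • F ^ i)])
      ⟨g.natDegree, hlt⟩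
    rw [sub_eq_zero] at h1
    have h2 : g.coeff g.natDegree = 1 := hgm.coeff_natDegree
    simp only at h1
    rw [h2] at h1
    exact PadicInt.prime_p.not_isUnit (IsUnit.of_mul_eq_one _ h1.symm)
  obtain ⟨v, hv⟩ := exists_cyclic_vector Fb (hdim ▸ hdeg)
  have hsurj : ∀ z : 𝕜 ⊗[ℤ_[l]] T, ∃ t : T, z = (1 : 𝕜) ⊗ₜ t := fun z => by
    induction z using TensorProduct.induction_on with
    | zero => exact ⟨0, by rw [TensorProduct.tmul_zero]⟩
    | tmul a t =>
      obtain ⟨c, rfl⟩ := IsLocalRing.residue_surjective a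
      exact ⟨c • t, by
        rw [← TensorProduct.smul_tmul, Algebra.smul_def, mul_one, IsLocalRing.ResidueField.algebraMap_eq]⟩
    | add a b ha hb =>
      obtain ⟨s, rfl⟩ := ha
      obtain ⟨t, rfl⟩ := hb
      exact ⟨s + t, by rw [TensorProduct.tmul_add]⟩
  obtain ⟨x, rfl⟩ := hsurj v
  have hpow : ∀ i : ℕ, (Fb ^ i) ((1 : 𝕜) ⊗ₜ[ℤ_[l]] x) = (1 : 𝕜) ⊗ₜ[ℤ_[l]] ((F ^ i) x) := fun i => by
    show ((Module.End.baseChangeHom ℤ_[l] 𝕜 T F) ^ i) _ = _
    rw [← map_pow]
    rfl
  have htop : Submodule.span ℤ_[l] (Set.range fun i : Fin n => (F ^ (i : ℕ)) x) = ⊤ := by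
    refine eq_top_iff.2 (Submodule.le_of_le_smul_of_le_jacobson_bot Module.Finite.fg_top
      (I := IsLocalRing.maximalIdeal ℤ_[l]) (IsLocalRing.maximalIdeal_le_jacobson _) fun t _ => ?_)
    have ht : (1 : 𝕜) ⊗ₜ[ℤ_[l]] t ∈ (⊤ : Submodule 𝕜 (𝕜 ⊗[ℤ_[l]] T)) := Submodule.mem_top
    rw [← hv, Submodule.mem_span_range_iff_exists_fun] at ht
    obtain ⟨c, hc⟩ := ht
    choose d hd using fun i => IsLocalRing.residue_surjective (c i)
    let s := ∑ i, d i • (F ^ ((i : Fin (Module.finrank 𝕜 (𝕜 ⊗[ℤ_[l]] T))) : ℕ)) x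
    have hs : (1 : 𝕜) ⊗ₜ[ℤ_[l]] (t - s) = 0 := by
      rw [TensorProduct.tmul_sub, sub_eq_zero, ← hc, TensorProduct.tmul_sum]
      refine Finset.sum_congr rfl fun i _ => ?_
      rw [hpow, ← hd, TensorProduct.tmul_smul, ← algebraMap_smul 𝕜 (d i), IsLocalRing.ResidueField.algebraMap_eq]
    obtain ⟨t', ht'⟩ := exists_eq_smul_of_tmul_eq_zero l hs
    rw [show t = s + (l : ℤ_[l]) • t' by rw [← ht', add_sub_cancel]]
    refine Submodule.add_mem_sup (sum_mem fun i _ => ?_) (Submodule.smul_mem_smul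
      (by rw [PadicInt.maximalIdeal_eq_span_p]; exact Ideal.mem_span_singleton_self _) Submodule.mem_top)
    exact Submodule.smul_mem _ _ (Submodule.subset_span ⟨⟨i, hdim ▸ i.2⟩, rfl⟩)
  refine ⟨x, ?_, htop⟩
  exact linearIndependent_of_top_le_span_of_card_eq_finrank htop.ge (by rw [Fintype.card_fin, hn])

end Groth.Agent.TateIsog
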