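import Groth.Agent.TateIsog.Dim
import Groth.Agent.TateIsog.Cyclic
import Mathlib.RingTheory.Polynomial.GaussLemma
import Mathlib.FieldTheory.Minpoly.IsIntegrallyClosed

/-!
# Abelian varieties with minimal endomorphism ring over a prime field
-/

noncomputable section

set_option autoImplicit false
set_option linter.style.haveILetI false
set_option linter.unusedSectionVars false
set_option backward.isDefEq.respectTransparency false
set_option backward.isDefEq.respectTransparency.types false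
set_option maxHeartbeats 1000000
set_option synthInstance.maxHeartbeats 200000

universe u

open CategoryTheory CategoryTheory.Limits MonoidalCategory CartesianMonoidalCategory MonObj GrpObj AlgebraicGeometry
open scoped TensorProduct
open Polynomial UniqueFactorizationMonoid

namespace Groth.Agent.TateIsog

open Groth.Agent

section Numbers

variable (p : ℕ) [Fact p.Prime] {J : Type} [Fintype J] {K : J → Type} [∀ j, Field (K j)] [∀ j, CharZero (K j)]
  (ϖ : ∀ j, K j)

/-- The map `ℤ[F, V] → ∏ K_j`. -/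
abbrev ev : MvPolynomial (Fin 2) ℤ →ₐ[ℤ] ((j : J) → K j) :=
  MvPolynomial.aeval ![fun j => ϖ j, fun j => (p : K j) / ϖ j]

/-- The product of the minimal polynomials. -/
def weilPoly : ℤ[X] := ∏ j, minpoly ℤ (ϖ j)

variable (hint : ∀ j, IsIntegral ℤ (ϖ j)) (hweil : ∀ j, ∀ z ∈ (minpoly ℤ (ϖ j)).aroots ℂ, ‖z‖ = Real.sqrt p)
  (hinj : ∀ i j, minpoly ℤ (ϖ i) = minpoly ℤ (ϖ j) → i = j)

include hint in
theorem monic_weilPoly : (weilPoly ϖ).Monic := monic_prod_of_monic _ _ fun j _ => minpoly.monic (hint j)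

include hint hweil in
theorem ne_zero_weil (j : J) : ϖ j ≠ 0 := by
  intro h
  have h0 : (minpoly ℤ (ϖ j)).coeff 0 = 0 := by
    have := minpoly.aeval ℤ (ϖ j)
    rw [h, ← coeff_zero_eq_aeval_zero', algebraMap_int_eq, eq_intCast, Int.cast_eq_zero] at this
    rwa [h]
  have h1 := hweil j 0 (mem_aroots.2 ⟨minpoly.ne_zero (hint j), by
    rw [← coeff_zero_eq_aeval_zero', h0, map_zero]⟩)
  rw [norm_zero, eq_comm, Real.sqrt_eq_zero (by positivity)] at h1
  exact Nat.cast_ne_zero.2 (Fact.out : p.Prime).ne_zero h1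

include hint in
theorem map_minpoly (j : J) : (minpoly ℤ (ϖ j)).map (Int.castRingHom ℚ) = minpoly ℚ (ϖ j) := by
  rw [minpoly.isIntegrallyClosed_eq_field_fractions' ℚ (hint j), algebraMap_int_eq]

include hint in
theorem irreducible_map_minpoly (j : J) : Irreducible ((minpoly ℤ (ϖ j)).map (Int.castRingHom ℚ)) := by
  rw [map_minpoly ϖ hint]
  exact minpoly.irreducible ((hint j).tower_top)

include hint hinj in
theorem map_weilPoly_dvd {q : ℚ[X]} (h : ∀ j, (minpoly ℤ (ϖ j)).map (Int.castRingHom ℚ) ∣ q) :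
    (weilPoly ϖ).map (Int.castRingHom ℚ) ∣ q := by
  rw [weilPoly, Polynomial.map_prod]
  refine Finset.prod_dvd_of_coprime (fun i _ j _ hne => ?_) fun j _ => h j
  refine (irreducible_map_minpoly ϖ hint i).coprime_iff_not_dvd.2 fun hd => hne (hinj i j ?_)
  exact Polynomial.map_injective _ Int.cast_injective (eq_of_monic_of_associated ((minpoly.monic (hint i)).map _)
    ((minpoly.monic (hint j)).map _)
    ((irreducible_map_minpoly ϖ hint i).associated_of_dvd (irreducible_map_minpoly ϖ hint j) hd))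

variable {E : Type*} [Ring E] [Algebra ℤ E] (ρ : (ev p ϖ).range ≃+* E)

/-- The image of `F`. -/
abbrev genF : (ev p ϖ).range := ⟨ev p ϖ (MvPolynomial.X 0), AlgHom.mem_range_self _ _⟩

/-- The image of `V`. -/
abbrev genV : (ev p ϖ).range := ⟨ev p ϖ (MvPolynomial.X 1), AlgHom.mem_range_self _ _⟩

include hint hweil in
theorem genF_mul_genV : genF p ϖ * genV p ϖ = (p : (ev p ϖ).range) := by
  refine Subtype.ext (funext fun j => ?_)
  show (ev p ϖ (MvPolynomial.X 0)) j * (ev p ϖ (MvPolynomial.X 1)) j = _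
  simp [ev, mul_div_cancel₀ _ (ne_zero_weil p ϖ hint hweil j)]

theorem mem_range_induction (C : (ev p ϖ).range → Prop) (hC : ∀ n : ℤ, C n) (hadd : ∀ a b, C a → C b → C (a + b))
    (hF : ∀ a, C a → C (a * genF p ϖ)) (hV : ∀ a, C a → C (a * genV p ϖ)) (a : (ev p ϖ).range) : C a := by
  obtain ⟨_, q, rfl⟩ := a
  suffices ∀ q : MvPolynomial (Fin 2) ℤ, C ((ev p ϖ).rangeRestrict q) from this q
  intro q
  induction q using MvPolynomial.induction_on with
  | C n => rw [← MvPolynomial.algebraMap_eq, AlgHom.commutes, algebraMap_int_eq, eq_intCast]; exact hC n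
  | add a b ha hb => rw [map_add]; exact hadd _ _ ha hb
  | mul_X a i ha =>
    rw [map_mul]
    fin_cases i
    · exact hF _ ha
    · exact hV _ ha

include ρ in
theorem commutative_of_equiv (a b : E) : a * b = b * a := by
  obtain ⟨a, rfl⟩ := ρ.surjective a
  obtain ⟨b, rfl⟩ := ρ.surjective b
  rw [← map_mul, ← map_mul]
  congr 1
  exact Subtype.ext (mul_comm (a : (j : J) → K j) (b : (j : J) → K j))

theorem aeval_genF_apply (P : ℤ[X]) (j : J) :
    ((aeval (genF p ϖ) P : (ev p ϖ).range) : (j : J) → K j) j = aeval (ϖ j) P := by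
  rw [Polynomial.aeval_subalgebra_coe, Polynomial.aeval_pi_apply₂]
  simp [ev]

theorem aeval_image (P : ℤ[X]) : aeval (ρ (genF p ϖ)) P = ρ (aeval (genF p ϖ) P) :=
  aeval_algHom_apply
    ({ ρ.toRingHom with commutes' := fun c => RingHom.congr_fun (RingHom.ext_int
        (ρ.toRingHom.comp (algebraMap ℤ (ev p ϖ).range)) (algebraMap ℤ E)) c } : (ev p ϖ).range →ₐ[ℤ] E) (genF p ϖ) P

theorem aeval_weilPoly_image : aeval (ρ (genF p ϖ)) (weilPoly ϖ) = 0 := by
  rw [aeval_image, map_eq_zero_iff _ ρ.injective]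
  refine Subtype.ext (funext fun j => ?_)
  rw [aeval_genF_apply, weilPoly, map_prod]
  exact Finset.prod_eq_zero (Finset.mem_univ j) (minpoly.aeval ℤ (ϖ j))

include hint in
theorem minpoly_dvd_of_aeval (ν : ℤ[X]) (h : aeval (ρ (genF p ϖ)) ν = 0) (j : J) : minpoly ℤ (ϖ j) ∣ ν := by
  refine minpoly.isIntegrallyClosed_dvd (hint j) ?_
  rw [aeval_image, map_eq_zero_iff _ ρ.injective] at h
  rw [← aeval_genF_apply p, h]
  rfl

end Numbers

section AV

variable {k : Type u} [Field k] [Finite k] (l : ℕ) [Fact l.Prime] {Ω : Type u} [Field Ω] [Algebra k Ω]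
  [IsAlgClosure k Ω] {A : Over (Spec (CommRingCat.of k))} [GrpObj A] [IsCommMonObj A] [IsProper A.hom]
  [GeometricallyIntegral A.hom] {B : Over (Spec (CommRingCat.of k))} [GrpObj B] [IsCommMonObj B] [IsProper B.hom]
  [GeometricallyIntegral B.hom]

local notation "pΩ" => SGA7.pt (K := k) Ω

/-- Irreducible factors of the characteristic polynomial of Frobenius divide what kills Frobenius. -/
theorem factor_dvd_of_aeval (hl : (l : k) ≠ 0) (π : EndAV.End A) (hπ : WeilLib.IsPowMap π.toHom.left (Nat.card k))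
    [Module.Free ℤ_[l] (AbDual.TateMod A l pΩ)] [Module.Finite ℤ_[l] (AbDual.TateMod A l pΩ)] {P : ℤ[X]}
    (hPm : P.Monic) (hP : (EndAV.End.tateRep l pΩ π).charpoly = P.map (Int.castRingHom ℤ_[l]))
    {q : ℚ[X]} (hq : aeval (EndAV.toEnd0 π) q = 0) {Q : ℚ[X]}
    (hQ : Q ∈ normalizedFactors (P.map (Int.castRingHom ℚ))) : Q ∣ q := by
  classical
  have hQi := irreducible_of_normalized_factor Q hQ
  by_contra hnd
  obtain ⟨a, b, hab⟩ := hQi.coprime_iff_not_dvd.2 hnd
  have hQl : Q.map (algebraMap ℚ ℚ_[l]) ∣ (endMap Ω l π).charpoly := by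
    rw [charpoly_endMap_int (Ω := Ω) l π hP]
    exact Polynomial.map_dvd _ (dvd_of_mem_normalizedFactors hQ)
  have hdeg : 0 < (Q.map (algebraMap ℚ ℚ_[l])).degree := by
    rw [Polynomial.degree_map]; exact degree_pos_of_irreducible hQi
  obtain ⟨R, hR⟩ := exists_mem_normalizedFactors (Polynomial.ne_zero_of_degree_gt hdeg) (fun h =>
    hdeg.ne' (Polynomial.degree_eq_zero_of_isUnit h))
  have hRc : R ∈ normalizedFactors (endMap Ω l π).charpoly :=
    Multiset.mem_of_le ((dvd_iff_normalizedFactors_le_normalizedFactors (Polynomial.ne_zero_of_degree_gt hdeg)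
      (LinearMap.charpoly_monic _).ne_zero).1 hQl) hR
  have h1 := dvd_of_aeval_eq_zero (isSemisimple_frob l hl π hπ) hRc (aeval_endMap_eq_zero l π hq)
  have h2 := dvd_of_mem_normalizedFactors hR
  refine (irreducible_of_normalized_factor R hR).not_isUnit (isUnit_of_dvd_one ?_)
  rw [show (1 : ℚ_[l][X]) = (a.map (algebraMap ℚ ℚ_[l])) * Q.map (algebraMap ℚ ℚ_[l]) +
    (b.map (algebraMap ℚ ℚ_[l])) * q.map (algebraMap ℚ ℚ_[l]) by
      rw [← Polynomial.map_mul, ← Polynomial.map_mul, ← Polynomial.map_add, hab, Polynomial.map_one]]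
  exact dvd_add (dvd_mul_of_dvd_right h2 _) (dvd_mul_of_dvd_right h1 _)

variable (p : ℕ) [Fact p.Prime] {J : Type} [Fintype J] {K : J → Type} [∀ j, Field (K j)] [∀ j, CharZero (K j)]
  (ϖ : ∀ j, K j) (hint : ∀ j, IsIntegral ℤ (ϖ j))
  (hweil : ∀ j, ∀ z ∈ (minpoly ℤ (ϖ j)).aroots ℂ, ‖z‖ = Real.sqrt p)
  (hinj : ∀ i j, minpoly ℤ (ϖ i) = minpoly ℤ (ϖ j) → i = j)

theorem map_weilPoly_dvd_of (π : EndAV.End A) (ρ : (ev p ϖ).range ≃+* EndAV.End A) (hρ : ρ (genF p ϖ) = π)
    (hint : ∀ j, IsIntegral ℤ (ϖ j)) (j : J) :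
    (minpoly ℤ (ϖ j)).map (Int.castRingHom ℚ) ∣ minpoly ℚ (EndAV.toEnd0 π) := by
  obtain ⟨ν, -, hν0, he, -⟩ := AVCharpoly.exists_int_minpoly π
  rw [← he]
  exact Polynomial.map_dvd _ (minpoly_dvd_of_aeval p ϖ hint ρ ν (hρ.symm ▸ hν0) j)

include hint hinj in
/-- **The characteristic polynomial of a minimal variety is the product of the Weil polynomials.** -/
theorem charpoly_eq_weilPoly (hl : (l : k) ≠ 0) (π : EndAV.End A)
    (hπ : WeilLib.IsPowMap π.toHom.left (Nat.card k)) (ρ : (ev p ϖ).range ≃+* EndAV.End A)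
    (hρ : ρ (genF p ϖ) = π)
    [Module.Free ℤ_[l] (AbDual.TateMod A l pΩ)] [Module.Finite ℤ_[l] (AbDual.TateMod A l pΩ)] :
    (EndAV.End.tateRep l pΩ π).charpoly = (weilPoly ϖ).map (Int.castRingHom ℤ_[l]) := by
  classical
  haveI := IsAlgClosure.isAlgClosed k (K := Ω)
  obtain ⟨g, hg⟩ := TorsPtsLib.exists_dim A
  obtain ⟨P, hPm, hPd, hPdeg, hP⟩ := AVCharpoly.exists_charpoly Ω l hl hg π
  have hsq : Squarefree (P.map (Int.castRingHom ℚ)) :=
    (qAdj_eq_top_iff_squarefree (Ω := Ω) l hl π hπ hP (hPm.map _)).1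
      ((qAdj_eq_top_iff π hπ).2 (commutative_of_equiv p ϖ ρ))
  have h0 : aeval (EndAV.toEnd0 π) ((weilPoly ϖ).map (Int.castRingHom ℚ)) = 0 := by
    rw [← AVCharpoly.toEnd0_aeval, ← hρ, aeval_weilPoly_image, map_zero]
  have hne : P.map (Int.castRingHom ℚ) ≠ 0 := (hPm.map _).ne_zero
  have hwne : (weilPoly ϖ).map (Int.castRingHom ℚ) ≠ 0 := ((monic_weilPoly ϖ hint).map _).ne_zero
  have h1 : P.map (Int.castRingHom ℚ) ∣ (weilPoly ϖ).map (Int.castRingHom ℚ) := by
    refine (dvd_iff_normalizedFactors_le_normalizedFactors hne hwne).2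
      ((Multiset.le_iff_subset ((squarefree_iff_nodup_normalizedFactors hne).1 hsq)).2 fun Q hQ => ?_)
    obtain ⟨R, hR, hQR⟩ := exists_mem_normalizedFactors_of_dvd hwne (irreducible_of_normalized_factor Q hQ)
      (factor_dvd_of_aeval (Ω := Ω) l hl π hπ hPm hP h0 hQ)
    rwa [eq_of_monic_of_associated (monic_of_mem_factors hQ) (monic_of_mem_factors hR) hQR]
  have h2 : (weilPoly ϖ).map (Int.castRingHom ℚ) ∣ P.map (Int.castRingHom ℚ) :=
    (map_weilPoly_dvd ϖ hint hinj (map_weilPoly_dvd_of p ϖ π ρ hρ hint)).trans (minpoly_frob_dvd l π hg hl hP)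
  rw [hP, Polynomial.map_injective (Int.castRingHom ℚ) Int.cast_injective
    (eq_of_monic_of_associated (hPm.map _) ((monic_weilPoly ϖ hint).map _) (associated_of_dvd_dvd h1 h2))]

include hint hinj in
/-- **The rank of the homomorphisms into a minimal variety.** -/
theorem finrank_hom_eq_two_dim (π : EndAV.End A) (hπ : WeilLib.IsPowMap π.toHom.left (Nat.card k))
    (πB : EndAV.End B) (hπB : WeilLib.IsPowMap πB.toHom.left (Nat.card k)) (ρ : (ev p ϖ).range ≃+* EndAV.End B)
    (hρ : ρ (genF p ϖ) = πB) (hPA : aeval π (weilPoly ϖ) = 0) {g : ℕ} (hg : topologicalKrullDim A.left = g) :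
    Module.finrank ℤ (EndAV.Hom A B) = 2 * g := by
  classical
  obtain ⟨l, hp, hl⟩ := AVHomForm.exists_prime_ne_zero (k := k)
  obtain ⟨gB, hgB⟩ := TorsPtsLib.exists_dim B
  obtain ⟨hfA, hnA, -⟩ := AVHomForm.tate_free (AlgebraicClosure k) l hl A hg
  obtain ⟨hfB, hnB, -⟩ := AVHomForm.tate_free (AlgebraicClosure k) l hl B hgB
  haveI : Module.Free ℤ_[l] (AbDual.TateMod A l (SGA7.pt (AlgebraicClosure k))) := hfA
  haveI : Module.Finite ℤ_[l] (AbDual.TateMod A l (SGA7.pt (AlgebraicClosure k))) := hnA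
  haveI : Module.Free ℤ_[l] (AbDual.TateMod B l (SGA7.pt (AlgebraicClosure k))) := hfB
  haveI : Module.Finite ℤ_[l] (AbDual.TateMod B l (SGA7.pt (AlgebraicClosure k))) := hnB
  obtain ⟨P, hPm, hPd, -, hP⟩ := AVCharpoly.exists_charpoly (AlgebraicClosure k) l hl hg π
  have hQ := charpoly_eq_weilPoly (Ω := AlgebraicClosure k) l p ϖ hint hinj hl πB hπB ρ hρ
  rw [finrank_hom_eq_rat (Ω := AlgebraicClosure k) l hl π hπ πB hπB hP hQ]
  have hwne : (weilPoly ϖ).map (Int.castRingHom ℚ) ≠ 0 := ((monic_weilPoly ϖ hint).map _).ne_zero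
  have hsq : Squarefree ((weilPoly ϖ).map (Int.castRingHom ℚ)) :=
    (qAdj_eq_top_iff_squarefree (Ω := AlgebraicClosure k) l hl πB hπB hQ ((monic_weilPoly ϖ hint).map _)).1
      ((qAdj_eq_top_iff πB hπB).2 (commutative_of_equiv p ϖ ρ))
  have h0 : aeval (EndAV.toEnd0 π) ((weilPoly ϖ).map (Int.castRingHom ℚ)) = 0 := by
    rw [← AVCharpoly.toEnd0_aeval, hPA, map_zero]
  rw [rPoly, Multiset.map_congr rfl (g := natDegree) fun Q hQ' => ?_, sum_natDegree_factors (hPm.map _),
    hPm.natDegree_map, hPd]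
  obtain ⟨R, hR, hQR⟩ := exists_mem_normalizedFactors_of_dvd hwne (irreducible_of_normalized_factor Q hQ')
    (factor_dvd_of_aeval (Ω := AlgebraicClosure k) l hl π hπ hPm hP h0 hQ')
  rw [eq_of_monic_of_associated (monic_of_mem_factors hQ') (monic_of_mem_factors hR) hQR,
    Multiset.count_eq_one_of_mem ((squarefree_iff_nodup_normalizedFactors hwne).1 hsq) hR, _root_.one_mul]

/-- Intertwining Frobenius, integrally. -/
theorem intertwine_int (hl : (l : k) ≠ 0) (πA : EndAV.End A) (hπA : WeilLib.IsPowMap πA.toHom.left (Nat.card k))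
    (πB : EndAV.End B) (hπB : WeilLib.IsPowMap πB.toHom.left (Nat.card k))
    (u : AbDual.TateMod A l pΩ →ₗ[ℤ_[l]] AbDual.TateMod B l pΩ)
    (hu : u ∘ₗ EndAV.End.tateRep l pΩ πA = EndAV.End.tateRep l pΩ πB ∘ₗ u) :
    u ∈ Submodule.span ℤ_[l] (homSetInt (Ω := Ω) l A B) := by
  haveI := IsAlgClosure.isAlgClosed k (K := Ω)
  obtain ⟨gB, hgB⟩ := TorsPtsLib.exists_dim B
  haveI := (AVHomForm.tate_free Ω l hl B hgB).1
  have h1 : u ∘ₗ gal l A (frobAut k Ω) = gal l B (frobAut k Ω) ∘ₗ u := by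
    rw [← tate_frobenius l πA.toHom hπA, ← tate_frobenius l πB.toHom hπB]
    exact hu
  refine hom_mem_span_int l hl u fun τ => baseChange_injective l ?_
  show (u ∘ₗ gal l A τ).baseChange ℚ_[l] = (gal l B τ ∘ₗ u).baseChange ℚ_[l]
  rw [LinearMap.baseChange_comp, LinearMap.baseChange_comp]
  exact comm_gal_of_frobenius l hl (u.baseChange ℚ_[l]) (by
    rw [← LinearMap.baseChange_comp, ← LinearMap.baseChange_comp, h1]) τ

theorem inverse_mem_adjoin {R M : Type*} [CommRing R] [AddCommGroup M] [Module R M] [Module.Free R M]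
    [Module.Finite R M] (F G : Module.End R M) (hFG : F * G = 1) (hGF : G * F = 1) :
    G ∈ Algebra.adjoin R {F} := by
  rcases subsingleton_or_nontrivial R with hR | hR
  · haveI : Subsingleton M := Module.subsingleton R M
    rw [Subsingleton.elim G 0]
    exact zero_mem _
  have hu : IsUnit (LinearMap.det F) := IsUnit.of_mul_eq_one (LinearMap.det G) (by rw [← map_mul, hFG, map_one])
  obtain ⟨c, hc⟩ : IsUnit (F.charpoly.coeff 0) := by
    have := LinearMap.det_eq_sign_charpoly_coeff F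
    rw [this] at hu
    exact (IsUnit.mul_iff.1 hu).2
  have h := F.aeval_self_charpoly
  rw [← X_mul_divX_add F.charpoly, map_add, map_mul, aeval_X, aeval_C, ← hc] at h
  have h2 := congrArg (G * ·) h
  simp only [mul_add, mul_zero] at h2
  rw [← _root_.mul_assoc, hGF, _root_.one_mul] at h2
  have h3 : G = -((↑c⁻¹ : R) • aeval F F.charpoly.divX) := by
    rw [Algebra.algebraMap_eq_smul_one, mul_smul_comm, _root_.mul_one] at h2
    rw [← smul_neg, ← eq_neg_of_add_eq_zero_right h2, smul_smul, Units.inv_mul, one_smul]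
  rw [h3]
  exact neg_mem (Subalgebra.smul_mem _ (Algebra.adjoin_singleton_eq_range_aeval R F ▸ ⟨_, rfl⟩) _)

include hint hweil hinj in
/-- **The Tate module of a minimal variety is cyclic, and its commutant is generated by Frobenius.** -/
theorem tate_minimal (hl : (l : k) ≠ 0) (hk : Nat.card k = p) (π : EndAV.End A)
    (hπ : WeilLib.IsPowMap π.toHom.left (Nat.card k)) (ρ : (ev p ϖ).range ≃+* EndAV.End A)
    (hρ : ρ (genF p ϖ) = π) {n : ℕ}
    [Module.Free ℤ_[l] (AbDual.TateMod A l pΩ)] [Module.Finite ℤ_[l] (AbDual.TateMod A l pΩ)]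
    (hn : Module.finrank ℤ_[l] (AbDual.TateMod A l pΩ) = n) :
    ((LinearIndependent ℤ_[l] fun i : Fin n => EndAV.End.tateRep l pΩ π ^ (i : ℕ)) ∧
      Submodule.span ℤ_[l] (homSetInt (Ω := Ω) l A A) =
        Submodule.span ℤ_[l] (Set.range fun i : Fin n => EndAV.End.tateRep l pΩ π ^ (i : ℕ))) ∧
      ∃ x : AbDual.TateMod A l pΩ,
        LinearIndependent ℤ_[l] (fun i : Fin n => (EndAV.End.tateRep l pΩ π ^ (i : ℕ)) x) ∧
        Submodule.span ℤ_[l] (Set.range fun i : Fin n => (EndAV.End.tateRep l pΩ π ^ (i : ℕ)) x) = ⊤ := by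
  classical
  haveI := IsAlgClosure.isAlgClosed k (K := Ω)
  obtain ⟨g, hg⟩ := TorsPtsLib.exists_dim A
  obtain ⟨P, hPm, hPd, hPdeg, hP⟩ := AVCharpoly.exists_charpoly Ω l hl hg π
  have hng : n = 2 * g := hn.symm.trans (AVHomForm.tate_free Ω l hl A hg).2.2
  set F := EndAV.End.tateRep l pΩ π with hF
  have hsq : Squarefree (P.map (Int.castRingHom ℚ)) :=
    (qAdj_eq_top_iff_squarefree (Ω := Ω) l hl π hπ hP (hPm.map _)).1
      ((qAdj_eq_top_iff π hπ).2 (commutative_of_equiv p ϖ ρ))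
  have hdeg := natDegree_minpoly_of_squarefree l hl π hπ hg hP hPm hsq
  rw [hPm.natDegree_map, hPd, ← hng] at hdeg
  obtain ⟨ν, hνm, hν0, he, hνli⟩ := AVCharpoly.exists_int_minpoly π
  have hνn : ν.natDegree = n := by rw [← hdeg, ← he, hνm.natDegree_map]
  subst hνn
  have hli : LinearIndependent ℤ_[l] fun i : Fin ν.natDegree => F ^ (i : ℕ) := by
    have h1 := AVHomForm.linearIndependent_tateMap (A := A) (B := A) Ω l hl
      (fun i : Fin ν.natDegree => (π ^ (i : ℕ) : EndAV.End A)) hνli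
    have h2 : (fun i : Fin ν.natDegree => F ^ (i : ℕ)) =
        fun i : Fin ν.natDegree => EndAV.Hom.tateMap l pΩ (π ^ (i : ℕ) : EndAV.End A) := funext fun i => by
      rw [hF, ← map_pow]; rfl
    rw [h2]
    exact h1
  have hadj : ∀ G ∈ Algebra.adjoin ℤ_[l] {F},
      G ∈ Submodule.span ℤ_[l] (Set.range fun i : Fin ν.natDegree => F ^ (i : ℕ)) := by
    intro G hG
    rw [Algebra.adjoin_singleton_eq_range_aeval] at hG
    obtain ⟨q, rfl⟩ := hG
    show aeval F q ∈ _
    rcases Nat.eq_zero_or_pos ν.natDegree with hz | hz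
    · haveI : Subsingleton (AbDual.TateMod A l pΩ) := Module.finrank_zero_iff.1 (hn.trans hz)
      rw [Subsingleton.elim (aeval F q) 0]
      exact zero_mem _
    have hlt : (q %ₘ F.charpoly).natDegree < ν.natDegree := by
      refine lt_of_lt_of_eq (natDegree_modByMonic_lt q (LinearMap.charpoly_monic F) fun h1 => ?_)
        ((LinearMap.charpoly_natDegree F).trans hn)
      have := (LinearMap.charpoly_natDegree F).trans hn
      rw [h1, natDegree_one] at this
      omega
    rw [← modByMonic_add_div q F.charpoly, map_add, map_mul, LinearMap.aeval_self_charpoly, zero_mul, add_zero,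
      aeval_eq_sum_range' hlt]
    exact sum_mem fun i hi => Submodule.smul_mem _ _ (Submodule.subset_span ⟨⟨i, Finset.mem_range.1 hi⟩, rfl⟩)
  have hcomm : ∀ u : Module.End ℤ_[l] (AbDual.TateMod A l pΩ), Commute u F →
      u ∈ Submodule.span ℤ_[l] (homSetInt (Ω := Ω) l A A) := fun u hu => intertwine_int l hl π hπ π hπ u hu.eq
  have hpu : IsUnit ((p : ℕ) : ℤ_[l]) := PadicInt.isUnit_iff.2 (PadicInt.norm_natCast_eq_one_iff.2
    ((Fact.out : l.Prime).coprime_iff_not_dvd.2 fun hd => hl (by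
      rw [(Nat.prime_dvd_prime_iff_eq Fact.out Fact.out).1 hd, ← hk]
      haveI := Fintype.ofFinite k
      rw [Nat.card_eq_fintype_card]
      exact Nat.cast_card_eq_zero k)))
  let G : Module.End ℤ_[l] (AbDual.TateMod A l pΩ) :=
    ((hpu.unit⁻¹ : ℤ_[l]ˣ) : ℤ_[l]) • EndAV.End.tateRep l pΩ (ρ (genV p ϖ))
  have hFV : F * EndAV.End.tateRep l pΩ (ρ (genV p ϖ)) = ((p : ℕ) : ℤ_[l]) • 1 := by
    rw [hF, ← hρ, ← map_mul, ← map_mul, genF_mul_genV p ϖ hint hweil, map_natCast, map_natCast,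
      Nat.cast_smul_eq_nsmul, nsmul_one]
  have hVF : EndAV.End.tateRep l pΩ (ρ (genV p ϖ)) * F = ((p : ℕ) : ℤ_[l]) • 1 := by
    rw [hF, ← map_mul, commutative_of_equiv p ϖ ρ, map_mul, ← hF, hFV]
  have hFG : F * G = 1 := by rw [mul_smul_comm, hFV, smul_smul, IsUnit.val_inv_mul, one_smul]
  have hGF : G * F = 1 := by rw [smul_mul_assoc, hVF, smul_smul, IsUnit.val_inv_mul, one_smul]
  have hVmem : EndAV.End.tateRep l pΩ (ρ (genV p ϖ)) ∈ Algebra.adjoin ℤ_[l] {F} := by
    have : EndAV.End.tateRep l pΩ (ρ (genV p ϖ)) = ((p : ℕ) : ℤ_[l]) • G := by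
      rw [smul_smul, IsUnit.mul_val_inv, one_smul]
    rw [this]
    exact Subalgebra.smul_mem _ (inverse_mem_adjoin F G hFG hGF) _
  have hgen : ∀ a : (ev p ϖ).range, EndAV.End.tateRep l pΩ (ρ a) ∈ Algebra.adjoin ℤ_[l] {F} := by
    refine mem_range_induction p ϖ _ (fun n => ?_) (fun a b ha hb => ?_) (fun a ha => ?_) fun a ha => ?_
    · rw [map_intCast, map_intCast]
      exact intCast_mem _ n
    · rw [map_add, map_add]; exact add_mem ha hb
    · rw [map_mul, map_mul, hρ]; exact mul_mem ha (Algebra.self_mem_adjoin_singleton _ _)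
    · rw [map_mul, map_mul]; exact mul_mem ha hVmem
  have hspan : Submodule.span ℤ_[l] (homSetInt (Ω := Ω) l A A) =
      Submodule.span ℤ_[l] (Set.range fun i : Fin ν.natDegree => F ^ (i : ℕ)) := by
    refine le_antisymm (Submodule.span_le.2 ?_) (Submodule.span_le.2 ?_)
    · rw [homSetInt_eq_range]
      rintro _ ⟨φ, rfl⟩
      obtain ⟨a, ha⟩ := ρ.surjective (φ : EndAV.End A)
      show EndAV.End.tateRep l pΩ (φ : EndAV.End A) ∈ _
      rw [← ha]
      exact hadj _ (hgen a)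
    · rintro _ ⟨i, rfl⟩
      exact hcomm _ ((Commute.refl F).pow_left _)
  refine ⟨⟨hli, hspan⟩, ?_⟩
  exact exists_cyclic_of_commutant l F hn hli fun u hu => hspan ▸ hcomm u hu

end AV

end Groth.Agent.TateIsog
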