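import Mathlib.LinearAlgebra.Dual.Lemmas
import Mathlib.RingTheory.Polynomial.Basic
import Mathlib.Algebra.Polynomial.AlgebraMap

/-!
# Intertwiners into a monogenic cyclic module are the dual
-/

noncomputable section

set_option autoImplicit false
set_option maxHeartbeats 1000000

open Polynomial

namespace Groth.Agent.TateIsog

variable {R : Type*} [CommRing R] {T M : Type*} [AddCommGroup T] [Module R T] [AddCommGroup M] [Module R M]
  {n : ℕ} (F : Module.End R T) (x : T) (b : Module.Basis (Fin n) R T) (hb : ∀ i : Fin n, b i = (F ^ (i : ℕ)) x)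

/-- The top coefficient. -/
def topCoeff : T →ₗ[R] R := if h : 0 < n then b.coord ⟨n - 1, by omega⟩ else 0

/-- The pairing with powers of the operator. -/
def pairMap : T →ₗ[R] (Fin n → R) := LinearMap.pi fun i : Fin n => topCoeff b ∘ₗ (F ^ (i : ℕ))

theorem pairMap_apply (y : T) (i : Fin n) : pairMap F b y i = topCoeff b ((F ^ (i : ℕ)) y) := rfl

theorem pow_eq_sum {N : Type*} [AddCommGroup N] [Module R N] (H : Module.End R N) {χ : R[X]} (hχm : χ.Monic)
    {n : ℕ} (hχd : χ.natDegree = n) (hH : aeval H χ = 0) (j : ℕ) :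
    H ^ (j + n) = -∑ c ∈ Finset.range n, χ.coeff c • H ^ (j + c) := by
  rw [hχm.as_sum, hχd] at hH
  simp only [map_add, map_pow, aeval_X, map_sum, map_mul, aeval_C, Algebra.algebraMap_eq_smul_one,
    smul_mul_assoc, one_mul] at hH
  rw [pow_add, eq_neg_of_add_eq_zero_left hH, mul_neg, Finset.mul_sum]
  simp only [mul_smul_comm, pow_add]

include hb

theorem topCoeff_pow {m : ℕ} (hm : m < n) : topCoeff b ((F ^ m) x) = if m = n - 1 then 1 else 0 := by
  rw [← hb ⟨m, hm⟩, topCoeff, dif_pos (by omega), Module.Basis.coord_apply, b.repr_self, Finsupp.single_apply]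
  simp [Fin.ext_iff]

theorem pairMap_surjective : Function.Surjective (pairMap F b) := by
  classical
  have key : ∀ j : ℕ, ∀ hj : j < n, Pi.single (⟨n - 1 - j, by omega⟩ : Fin n) (1 : R) ∈ LinearMap.range (pairMap F b) := by
    intro j
    induction j using Nat.strong_induction_on with
    | _ j ih =>
      intro hj
      let y : Fin n → R := pairMap F b ((F ^ j) x)
      have hy : ∀ i : Fin n, (i : ℕ) < n - 1 - j → y i = 0 := fun i hi => by
        show topCoeff b ((F ^ (i : ℕ)) ((F ^ j) x)) = 0
        rw [← Module.End.mul_apply, ← pow_add, topCoeff_pow F x b hb (by omega), if_neg (by omega)]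
      have hy1 : y ⟨n - 1 - j, by omega⟩ = 1 := by
        show topCoeff b ((F ^ (n - 1 - j)) ((F ^ j) x)) = 1
        rw [← Module.End.mul_apply, ← pow_add, topCoeff_pow F x b hb (by omega), if_pos (by omega)]
      have hdec : Pi.single (⟨n - 1 - j, by omega⟩ : Fin n) (1 : R) =
          y - ∑ i ∈ Finset.univ.filter (fun i : Fin n => n - 1 - j < (i : ℕ)), y i • Pi.single i (1 : R) := by
        funext m
        rw [Pi.sub_apply, Finset.sum_apply]
        simp only [Pi.smul_apply, Pi.single_apply, smul_eq_mul, mul_ite, mul_one, mul_zero, Finset.sum_ite_eq,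
          Finset.mem_filter, Finset.mem_univ, true_and]
        rcases lt_trichotomy (m : ℕ) (n - 1 - j) with h | h | h
        · rw [hy m h, if_neg (fun e => by rw [e] at h; simp at h)]
          simp
        · rw [if_pos (Fin.ext h), if_neg (by omega), sub_zero, show y m = 1 from (congrArg y (Fin.ext h)).trans hy1]
        · rw [if_pos h, sub_self, if_neg (fun e => by rw [e] at h; simp at h)]
      rw [hdec]
      refine sub_mem ⟨_, rfl⟩ (sum_mem fun i hi => Submodule.smul_mem _ _ ?_)
      rw [Finset.mem_filter] at hi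
      have := ih (n - 1 - (i : ℕ)) (by omega) (by omega)
      rwa [show (⟨n - 1 - (n - 1 - (i : ℕ)), by omega⟩ : Fin n) = i from Fin.ext (by simp only; omega)] at this
  intro v
  rw [← LinearMap.mem_range, pi_eq_sum_univ' v]
  refine sum_mem fun i _ => Submodule.smul_mem _ _ ?_
  have := key (n - 1 - (i : ℕ)) (by omega)
  rw [show (⟨n - 1 - (n - 1 - (i : ℕ)), by omega⟩ : Fin n) = i from Fin.ext (by simp only; omega)] at this
  convert this using 1

theorem pairMap_bijective : Function.Bijective (pairMap F b) := by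
  refine ⟨?_, pairMap_surjective F x b hb⟩
  let f : Module.End R T := b.equivFun.symm.toLinearMap ∘ₗ pairMap F b
  have hf : Function.Surjective f := b.equivFun.symm.surjective.comp (pairMap_surjective F x b hb)
  haveI : Module.Finite R T := Module.Finite.of_basis b
  exact Function.Injective.of_comp (f := b.equivFun.symm) (OrzechProperty.injective_of_surjective_endomorphism f hf)

variable {χ : R[X]} (hχm : χ.Monic) (hχd : χ.natDegree = n) (hχT : aeval F χ = 0) (G : Module.End R M)
  (hχM : aeval G χ = 0)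

include hχm hχd hχT in
/-- Beyond the degree the powers are combinations of the lower ones. -/
theorem pairing_unique {y : T} {ψ : M →ₗ[R] R} {m : M} (hχM : aeval G χ = 0)
    (h : ∀ i : Fin n, topCoeff b ((F ^ (i : ℕ)) y) = ψ ((G ^ (i : ℕ)) m)) (i : ℕ) :
    topCoeff b ((F ^ i) y) = ψ ((G ^ i) m) := by
  induction i using Nat.strong_induction_on with
  | _ i ih =>
    rcases lt_or_ge i n with hi | hi
    · exact h ⟨i, hi⟩
    · obtain ⟨j, rfl⟩ : ∃ j, i = j + n := ⟨i - n, (Nat.sub_add_cancel hi).symm⟩
      rw [pow_eq_sum F hχm hχd hχT, pow_eq_sum G hχm hχd hχM, LinearMap.neg_apply, LinearMap.neg_apply, map_neg, map_neg,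
        LinearMap.sum_apply,
        LinearMap.sum_apply, map_sum, map_sum]
      refine congrArg Neg.neg (Finset.sum_congr rfl fun c hc => ?_)
      rw [LinearMap.smul_apply, LinearMap.smul_apply, map_smul, map_smul,
        ih (j + c) (by simp only [Finset.mem_range] at hc; omega)]

include hχm hχd hχT hχM in
/-- **Every functional comes from an intertwiner.** -/
theorem exists_intertwiner (ψ : M →ₗ[R] R) :
    ∃ φ : M →ₗ[R] T, φ ∘ₗ G = F ∘ₗ φ ∧ topCoeff b ∘ₗ φ = ψ := by
  let e := LinearEquiv.ofBijective (pairMap F b) (pairMap_bijective F x b hb)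
  let φ : M →ₗ[R] T := e.symm.toLinearMap ∘ₗ LinearMap.pi fun i : Fin n => ψ ∘ₗ (G ^ (i : ℕ))
  have hφ : ∀ (m : M) (i : ℕ), topCoeff b ((F ^ i) (φ m)) = ψ ((G ^ i) m) := fun m =>
    pairing_unique F x b hb hχm hχd hχT G hχM fun i =>
      congrFun (e.apply_symm_apply ((LinearMap.pi fun i : Fin n => ψ ∘ₗ (G ^ (i : ℕ))) m)) i
  refine ⟨φ, LinearMap.ext fun m => (pairMap_bijective F x b hb).1 (funext fun i => ?_), LinearMap.ext fun m => ?_⟩
  · show topCoeff b ((F ^ (i : ℕ)) (φ (G m))) = topCoeff b ((F ^ (i : ℕ)) (F (φ m)))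
    rw [hφ, ← Module.End.mul_apply,
      ← pow_succ, ← Module.End.mul_apply (F ^ (i : ℕ)), ← pow_succ, hφ]
  · simpa using hφ m 0

theorem eq_of_topCoeff {y z : T} (h : ∀ i : Fin n, topCoeff b ((F ^ (i : ℕ)) y) = topCoeff b ((F ^ (i : ℕ)) z)) :
    y = z := (pairMap_bijective F x b hb).1 (funext h)

end Groth.Agent.TateIsog
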