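import Groth.Agent.TateIsog.MinOrder
import Groth.Agent.TateIsog.Duality
import Groth.Agent.Lib.AVMulN
import Groth.Agent.AVDegPoly.Main

/-!
# Homomorphisms into a minimal variety and Tate modules
-/

noncomputable section

set_option autoImplicit false
set_option linter.style.haveILetI false
set_option linter.unusedSectionVars false
set_option backward.isDefEq.respectTransparency false
set_option backward.isDefEq.respectTransparency.types false
set_option maxHeartbeats 1000000
set_option synthInstance.maxHeartbeats 200000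

universe u

open CategoryTheory CategoryTheory.Limits MonoidalCategory CartesianMonoidalCategory MonObj GrpObj AlgebraicGeometry
open scoped TensorProduct
open Polynomial

namespace Groth.Agent.TateIsog

open Groth.Agent

variable {k : Type u} [Field k] [Finite k] (l : ℕ) [Fact l.Prime] {Ω : Type u} [Field Ω] [Algebra k Ω]
  [IsAlgClosure k Ω] {A : Over (Spec (CommRingCat.of k))} [GrpObj A] [IsCommMonObj A] [IsProper A.hom]
  [GeometricallyIntegral A.hom] {B : Over (Spec (CommRingCat.of k))} [GrpObj B] [IsCommMonObj B] [IsProper B.hom]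
  [GeometricallyIntegral B.hom]
  (p : ℕ) [Fact p.Prime] {J : Type} [Fintype J] {K : J → Type} [∀ j, Field (K j)] [∀ j, CharZero (K j)]
  (ϖ : ∀ j, K j) (hint : ∀ j, IsIntegral ℤ (ϖ j))
  (hweil : ∀ j, ∀ z ∈ (minpoly ℤ (ϖ j)).aroots ℂ, ‖z‖ = Real.sqrt p)
  (hinj : ∀ i j, minpoly ℤ (ϖ i) = minpoly ℤ (ϖ j) → i = j)

local notation "pΩ" => SGA7.pt (K := k) Ω

/-- An additive map on a free group extends linearly to the span of an injection with independent image. -/
theorem exists_extension {R : Type*} [CommRing R] {H N T : Type*} [AddCommGroup H] [AddCommGroup N] [Module R N]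
    [AddCommGroup T] [Module R T] (L : H →+ N) (g : H →+ T) {σ : Type*} (b : Module.Basis σ ℤ H)
    (hli : LinearIndependent R fun i => L (b i)) :
    ∃ G : Submodule.span R (Set.range L) →ₗ[R] T, ∀ φ, G ⟨L φ, Submodule.subset_span ⟨φ, rfl⟩⟩ = g φ := by
  have he : Submodule.span R (Set.range L) = Submodule.span R (Set.range fun i => L (b i)) := by
    refine le_antisymm (Submodule.span_le.2 ?_) (Submodule.span_mono (Set.range_comp_subset_range b L))
    rintro _ ⟨φ, rfl⟩
    have h : φ ∈ Submodule.span ℤ (Set.range b) := b.span_eq ▸ Submodule.mem_top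
    induction h using Submodule.span_induction with
    | mem x hx => obtain ⟨i, rfl⟩ := hx; exact Submodule.subset_span ⟨i, rfl⟩
    | zero => rw [map_zero]; exact zero_mem _
    | add x y _ _ hx hy => rw [map_add]; exact add_mem hx hy
    | smul c x _ hx => rw [map_zsmul]; exact zsmul_mem hx c
  let G : Submodule.span R (Set.range L) →ₗ[R] T :=
    (Module.Basis.span hli).constr ℤ (fun i => g (b i)) ∘ₗ (LinearEquiv.ofEq _ _ he).toLinearMap
  let L' : H →+ Submodule.span R (Set.range L) :=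
    AddMonoidHom.mk' (fun φ => ⟨L φ, Submodule.subset_span ⟨φ, rfl⟩⟩) fun x y => Subtype.ext (map_add L x y)
  refine ⟨G, fun φ => ?_⟩
  show (G.toAddMonoidHom.comp L') φ = g φ
  revert φ
  rw [← DFunLike.ext_iff]
  have hz : (G.toAddMonoidHom.comp L').toIntLinearMap = g.toIntLinearMap := b.ext fun i => by
    show (Module.Basis.span hli).constr ℤ (fun i => g (b i)) (LinearEquiv.ofEq _ _ he (L' (b i))) = g (b i)
    rw [show LinearEquiv.ofEq _ _ he (L' (b i)) = Module.Basis.span hli i from
      (Subtype.ext rfl).trans (Module.Basis.span_apply hli i).symm, Module.Basis.constr_basis]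
  exact AddMonoidHom.toIntLinearMap_injective hz

theorem powcomm {R M N : Type*} [CommRing R] [AddCommGroup M] [Module R M] [AddCommGroup N] [Module R N]
    (F : Module.End R N) (G : Module.End R M) (u : M →ₗ[R] N) (h : u ∘ₗ G = F ∘ₗ u) (j : ℕ) (m : M) :
    u ((G ^ j) m) = (F ^ j) (u m) := by
  induction j with
  | zero => rfl
  | succ j ih =>
    rw [pow_succ', pow_succ', Module.End.mul_apply, Module.End.mul_apply, ← ih]
    exact LinearMap.congr_fun h _

/-- An operator commuting on generators commutes on the span. -/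
theorem extension_comm {R : Type*} [CommRing R] {N T : Type*} [AddCommGroup N] [Module R N] [AddCommGroup T]
    [Module R T] (s : Set N) (G : Submodule.span R s →ₗ[R] T) (Φ : N →ₗ[R] N) (Ψ : T →ₗ[R] T)
    (h : ∀ u (hu : u ∈ s), ∃ h₂ : Φ u ∈ Submodule.span R s, G ⟨Φ u, h₂⟩ = Ψ (G ⟨u, Submodule.subset_span hu⟩))
    (u : Submodule.span R s) : ∃ h₂ : Φ u ∈ Submodule.span R s, G ⟨Φ u, h₂⟩ = Ψ (G u) := by
  have hs : ∀ v ∈ Submodule.span R s, Φ v ∈ Submodule.span R s := fun v hv =>
    (Submodule.span_le.2 (fun x hx => (h x hx).1) : Submodule.span R s ≤ (Submodule.span R s).comap Φ) hv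
  refine ⟨hs u u.2, ?_⟩
  obtain ⟨v, hv⟩ := u
  induction hv using Submodule.span_induction with
  | mem x hx => exact (h x hx).2
  | zero =>
    rw [show (⟨Φ 0, hs 0 (zero_mem _)⟩ : Submodule.span R s) = 0 from Subtype.ext (map_zero Φ), map_zero]
    exact ((map_zero Ψ).symm.trans (congrArg Ψ (map_zero G).symm))
  | add a c ha hc iha ihc =>
    rw [show (⟨Φ (a + c), hs _ (add_mem ha hc)⟩ : Submodule.span R s) = ⟨Φ a, hs a ha⟩ + ⟨Φ c, hs c hc⟩ from
      Subtype.ext (map_add Φ a c), map_add, iha, ihc, ← map_add, ← map_add]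
    rfl
  | smul r a ha iha =>
    rw [show (⟨Φ (r • a), hs _ (Submodule.smul_mem _ r ha)⟩ : Submodule.span R s) = r • ⟨Φ a, hs a ha⟩ from
      Subtype.ext (map_smul Φ r a), map_smul, iha, ← map_smul, ← map_smul]
    rfl

include hint hweil hinj in
/-- **The Tate module is the dual of the homomorphisms into a minimal variety.** -/
theorem tate_eval_bijective (hl : (l : k) ≠ 0) (hk : Nat.card k = p) (π : EndAV.End A)
    (hπ : WeilLib.IsPowMap π.toHom.left (Nat.card k)) (hPA : aeval π (weilPoly ϖ) = 0) (πB : EndAV.End B)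
    (hπB : WeilLib.IsPowMap πB.toHom.left (Nat.card k)) (ρ : (ev p ϖ).range ≃+* EndAV.End B)
    (hρ : ρ (genF p ϖ) = πB) :
    (∀ x y : AbDual.TateMod A l pΩ,
        (∀ φ : EndAV.Hom A B, EndAV.Hom.tateMap l pΩ φ x = EndAV.Hom.tateMap l pΩ φ y) → x = y) ∧
      (∀ g : EndAV.Hom A B →+ AbDual.TateMod B l pΩ,
        (∀ (φ : EndAV.Hom A B) (s : EndAV.End B), g (φ ≫ s) = EndAV.End.tateRep l pΩ s (g φ)) →
          ∃ x : AbDual.TateMod A l pΩ, ∀ φ : EndAV.Hom A B, g φ = EndAV.Hom.tateMap l pΩ φ x) := by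
  classical
  haveI := IsAlgClosure.isAlgClosed k (K := Ω)
  obtain ⟨gA, hgA⟩ := TorsPtsLib.exists_dim A
  obtain ⟨gB, hgB⟩ := TorsPtsLib.exists_dim B
  obtain ⟨hfA, hnA, -⟩ := AVHomForm.tate_free Ω l hl A hgA
  obtain ⟨hfB, hnB, -⟩ := AVHomForm.tate_free Ω l hl B hgB
  haveI : Module.Free ℤ_[l] (AbDual.TateMod A l pΩ) := hfA
  haveI : Module.Finite ℤ_[l] (AbDual.TateMod A l pΩ) := hnA
  haveI : Module.Free ℤ_[l] (AbDual.TateMod B l pΩ) := hfB
  haveI : Module.Finite ℤ_[l] (AbDual.TateMod B l pΩ) := hnB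
  obtain ⟨-, x, hxli, hxtop⟩ := tate_minimal (Ω := Ω) l p ϖ hint hweil hinj hl hk πB hπB ρ hρ rfl
  let b := Module.Basis.mk hxli hxtop.ge
  have hb : ∀ i, b i = (EndAV.End.tateRep l pΩ πB ^ (i : ℕ)) x := fun i => Module.Basis.mk_apply _ _ i
  have hcp := charpoly_eq_weilPoly (Ω := Ω) l p ϖ hint hinj hl πB hπB ρ hρ
  have hχd : ((weilPoly ϖ).map (Int.castRingHom ℤ_[l])).natDegree =
      Module.finrank ℤ_[l] (AbDual.TateMod B l pΩ) := by rw [← hcp, LinearMap.charpoly_natDegree]
  have hχA : aeval (EndAV.End.tateRep l pΩ π) ((weilPoly ϖ).map (Int.castRingHom ℤ_[l])) = 0 := by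
    rw [← algebraMap_int_eq, aeval_map_algebraMap]
    have h := congrArg (EndAV.End.tateRep l pΩ) hPA
    rw [map_zero, aeval_def, hom_eval₂] at h
    rw [aeval_def]
    refine Eq.trans ?_ h
    congr 1
    exact Subsingleton.elim _ _
  have hχB : aeval (EndAV.End.tateRep l pΩ πB) ((weilPoly ϖ).map (Int.castRingHom ℤ_[l])) = 0 :=
    hcp ▸ LinearMap.aeval_self_charpoly _
  have hχm : ((weilPoly ϖ).map (Int.castRingHom ℤ_[l])).Monic := (monic_weilPoly ϖ hint).map _
  have hex : ∀ ψ : AbDual.TateMod A l pΩ →ₗ[ℤ_[l]] ℤ_[l],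
      ∃ φ ∈ Submodule.span ℤ_[l] (homSetInt (Ω := Ω) l A B), topCoeff b ∘ₗ φ = ψ := fun ψ => by
    obtain ⟨φ, hφ, hψ⟩ := exists_intertwiner _ x b hb hχm hχd hχB (EndAV.End.tateRep l pΩ π) hχA ψ
    exact ⟨φ, intertwine_int l hl π hπ πB hπB φ hφ, hψ⟩
  refine ⟨fun y z h => ?_, fun g hg => ?_⟩
  · refine (Module.Free.chooseBasis ℤ_[l] _).ext_elem_iff.2 fun i => ?_
    obtain ⟨φ, hφ, hψ⟩ := hex ((Module.Free.chooseBasis ℤ_[l] _).coord i)
    have hyz : φ y = φ z := by
      clear hψ
      rw [homSetInt_eq_range] at hφ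
      induction hφ using Submodule.span_induction with
      | mem ψ hψ => obtain ⟨φ, rfl⟩ := hψ; exact h φ
      | zero => rfl
      | add a c _ _ ha hc => rw [LinearMap.add_apply, LinearMap.add_apply, ha, hc]
      | smul r a _ ha => rw [LinearMap.smul_apply, LinearMap.smul_apply, ha]
    rw [← Module.Basis.coord_apply, ← Module.Basis.coord_apply, ← hψ, LinearMap.comp_apply, LinearMap.comp_apply, hyz]
  · haveI := AVHomForm.moduleFinite_hom (A := A) (B := B)
    haveI := AVHomForm.moduleFree_hom (A := A) (B := B)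
    obtain ⟨G, hG⟩ := exists_extension (EndAV.Hom.tateMap l pΩ) g (Module.Free.chooseBasis ℤ (EndAV.Hom A B))
      (AVHomForm.linearIndependent_tateMap Ω l hl _ (Module.Free.chooseBasis ℤ (EndAV.Hom A B)).linearIndependent)
    have hA : EndAV.End.tateRep l pΩ π = gal l A (frobAut k Ω) := tate_frobenius l π.toHom hπ
    have hB : EndAV.End.tateRep l pΩ πB = gal l B (frobAut k Ω) := tate_frobenius l πB.toHom hπB
    have hcomm := extension_comm _ G
      (LinearMap.llcomp ℤ_[l] (AbDual.TateMod A l pΩ) _ _ (EndAV.End.tateRep l pΩ πB)) (EndAV.End.tateRep l pΩ πB)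
      fun u hu => by
        obtain ⟨φ, rfl⟩ := hu
        have he : EndAV.Hom.tateMap l pΩ (φ ≫ (show EndAV.Hom B B from πB)) =
            EndAV.End.tateRep l pΩ πB ∘ₗ EndAV.Hom.tateMap l pΩ φ := tate_comp l φ.toHom πB.toHom
        refine ⟨Submodule.subset_span ⟨φ ≫ (show EndAV.Hom B B from πB), he⟩, ?_⟩
        rw [hG φ, ← hg φ πB, ← hG (φ ≫ (show EndAV.Hom B B from πB))]
        exact congrArg G (Subtype.ext he.symm)
    have hint' : ∀ u : Submodule.span ℤ_[l] (Set.range (EndAV.Hom.tateMap (A := A) (B := B) l pΩ)),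
        u.1 ∘ₗ EndAV.End.tateRep l pΩ π = EndAV.End.tateRep l pΩ πB ∘ₗ u.1 := by
      rintro ⟨u, hu⟩
      show u ∘ₗ _ = _ ∘ₗ u
      induction hu using Submodule.span_induction with
      | mem ψ hψ => obtain ⟨φ, rfl⟩ := hψ; rw [hA, hB]; exact tate_gal l φ.toHom (frobAut k Ω)
      | zero => rw [LinearMap.zero_comp, LinearMap.comp_zero]
      | add a c _ _ ha hc => rw [LinearMap.add_comp, LinearMap.comp_add, ha, hc]
      | smul r a _ ha => rw [LinearMap.smul_comp, LinearMap.comp_smul, ha]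
    let Λ : Submodule.span ℤ_[l] (Set.range (EndAV.Hom.tateMap (A := A) (B := B) l pΩ)) →ₗ[ℤ_[l]]
        Module.Dual ℤ_[l] (AbDual.TateMod A l pΩ) :=
      (LinearMap.llcomp ℤ_[l] _ _ _ (topCoeff b)).comp (Submodule.subtype _)
    have hΛ : Function.Bijective Λ := by
      refine ⟨fun u v huv => Subtype.ext (LinearMap.ext fun m => eq_of_topCoeff _ x b hb fun i => ?_), fun ψ => ?_⟩
      · rw [← powcomm _ _ u.1 (hint' u) i m, ← powcomm _ _ v.1 (hint' v) i m]
        exact LinearMap.congr_fun huv _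
      · obtain ⟨φ, hφ, hψ⟩ := hex ψ
        exact ⟨⟨φ, homSetInt_eq_range (Ω := Ω) l A B ▸ hφ⟩, hψ⟩
    let y := (Module.evalEquiv ℤ_[l] (AbDual.TateMod A l pΩ)).symm
      (topCoeff b ∘ₗ G ∘ₗ (LinearEquiv.ofBijective Λ hΛ).symm.toLinearMap)
    have hy : ∀ u, topCoeff b (u.1 y) = topCoeff b (G u) := fun u => by
      refine (Module.apply_evalEquiv_symm_apply (R := ℤ_[l]) (M := AbDual.TateMod A l pΩ)
        (LinearEquiv.ofBijective Λ hΛ u) _).trans ?_
      simp only [LinearMap.comp_apply, LinearEquiv.coe_coe, LinearEquiv.symm_apply_apply]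
    refine ⟨y, fun φ => ?_⟩
    have hiter : ∀ i : ℕ, ∃ u : Submodule.span ℤ_[l] (Set.range (EndAV.Hom.tateMap (A := A) (B := B) l pΩ)),
        (∀ m, u.1 m = (EndAV.End.tateRep l pΩ πB ^ i) (EndAV.Hom.tateMap l pΩ φ m)) ∧
          G u = (EndAV.End.tateRep l pΩ πB ^ i) (g φ) := fun i => by
      induction i with
      | zero => exact ⟨⟨_, Submodule.subset_span ⟨φ, rfl⟩⟩, fun m => rfl, hG φ⟩
      | succ i ih =>
        obtain ⟨u, h, e⟩ := ih
        obtain ⟨h₂, e₂⟩ := hcomm u
        refine ⟨⟨_, h₂⟩, fun m => ?_, ?_⟩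
        · show EndAV.End.tateRep l pΩ πB (u.1 m) = _
          rw [h, pow_succ', Module.End.mul_apply]
        · rw [e₂, e, pow_succ', Module.End.mul_apply]
    refine eq_of_topCoeff _ x b hb fun i => ?_
    obtain ⟨u, h, e⟩ := hiter i
    rw [← e, ← hy, h]

include hint hweil hinj in
/-- **Isogenies are the homomorphisms inducing injections with finite cokernel.** -/
theorem isogeny_iff_precomp (hk : Nat.card k = p) {D : Over (Spec (CommRingCat.of k))} [GrpObj D] [IsCommMonObj D]
    [IsProper D.hom] [GeometricallyIntegral D.hom] (π : EndAV.End A)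
    (hπ : WeilLib.IsPowMap π.toHom.left (Nat.card k)) (hPA : aeval π (weilPoly ϖ) = 0) (πD : EndAV.End D)
    (hπD : WeilLib.IsPowMap πD.toHom.left (Nat.card k)) (hPD : aeval πD (weilPoly ϖ) = 0) (πB : EndAV.End B)
    (hπB : WeilLib.IsPowMap πB.toHom.left (Nat.card k)) (ρ : (ev p ϖ).range ≃+* EndAV.End B)
    (hρ : ρ (genF p ϖ) = πB) (f : EndAV.Hom D A) :
    (IsFinite f.toHom.left ∧ Surjective f.toHom.left) ↔
      (Function.Injective (Preadditive.leftComp (CommGrp.mk B) f) ∧
        Finite (EndAV.Hom D B ⧸ (Preadditive.leftComp (CommGrp.mk B) f).range)) := by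
  classical
  haveI := AVHomForm.moduleFinite_hom (A := D) (B := B)
  haveI := AVHomForm.moduleFree_hom (A := D) (B := B)
  haveI := AVHomForm.moduleFinite_hom (A := A) (B := B)
  haveI := AVHomForm.moduleFree_hom (A := A) (B := B)
  constructor
  · rintro ⟨hf, hs⟩
    haveI := hf; haveI := hs
    haveI : IsIntegral A.left := GeometricallyIntegral.isIntegral_of_subsingleton A.hom
    obtain ⟨a⟩ : Nonempty A.left := inferInstance
    obtain ⟨-, -, h1, v, hv, -, -, -, hfv, hvf⟩ := AVSubLib.exists_quasiInverse D A f.toHom a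
    haveI := hv
    generalize f.toHom.left.finrank a = m at h1 hfv hvf
    have key : ∀ φ : EndAV.Hom A B, EndAV.Hom.of v ≫ (f ≫ φ) = m • φ := fun φ => EndAV.Hom.ext (by
      rw [EndAV.Hom.toHom_nsmul]
      show v ≫ f.toHom ≫ φ.toHom = φ.toHom ^ m
      rw [← Category.assoc, hvf, MonObj.pow_comp, Category.id_comp])
    have key2 : ∀ ψ : EndAV.Hom D B, f ≫ (EndAV.Hom.of v ≫ ψ) = m • ψ := fun ψ => EndAV.Hom.ext (by
      rw [EndAV.Hom.toHom_nsmul]
      show f.toHom ≫ v ≫ ψ.toHom = ψ.toHom ^ m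
      rw [← Category.assoc, hfv, MonObj.pow_comp, Category.id_comp])
    refine ⟨fun φ φ' h => ?_, ?_⟩
    · have h' := congrArg (EndAV.Hom.of v ≫ ·) (show f ≫ φ = f ≫ φ' from h)
      simp only [key] at h'
      rw [← natCast_zsmul, ← natCast_zsmul] at h'
      exact smul_right_injective _ (Nat.cast_ne_zero.2 (by omega : m ≠ 0)) h'
    · haveI : Module.Finite ℤ (EndAV.Hom D B ⧸ (Preadditive.leftComp (CommGrp.mk B) f).range) :=
        Module.Finite.of_surjective (QuotientAddGroup.mk' (Preadditive.leftComp (CommGrp.mk B) f).range).toIntLinearMap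
          (QuotientAddGroup.mk'_surjective _)
      haveI : AddGroup.FG (EndAV.Hom D B ⧸ (Preadditive.leftComp (CommGrp.mk B) f).range) :=
        Module.Finite.iff_addGroup_fg.1 inferInstance
      refine AddCommGroup.finite_of_fg_torsion _ fun q => ?_
      induction q using QuotientAddGroup.induction_on with
      | H ψ =>
        refine isOfFinAddOrder_iff_nsmul_eq_zero.2 ⟨m, h1, ?_⟩
        rw [← QuotientAddGroup.mk_nsmul, QuotientAddGroup.eq_zero_iff]
        exact ⟨EndAV.Hom.of v ≫ ψ, key2 ψ⟩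
  · rintro ⟨hinjf, hfin⟩
    obtain ⟨l, hp', hl⟩ := AVHomForm.exists_prime_ne_zero (k := k)
    obtain ⟨gA, hgA⟩ := TorsPtsLib.exists_dim A
    obtain ⟨gD, hgD⟩ := TorsPtsLib.exists_dim D
    have hrA := finrank_hom_eq_two_dim p ϖ hint hinj π hπ πB hπB ρ hρ hPA hgA
    have hrD := finrank_hom_eq_two_dim p ϖ hint hinj πD hπD πB hπB ρ hρ hPD hgD
    obtain ⟨hfA, hnA, hrkA⟩ := AVHomForm.tate_free (AlgebraicClosure k) l hl A hgA
    obtain ⟨hfD, hnD, hrkD⟩ := AVHomForm.tate_free (AlgebraicClosure k) l hl D hgD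
    haveI := hfA; haveI := hnA; haveI := hfD; haveI := hnD
    let N := Nat.card (EndAV.Hom D B ⧸ (Preadditive.leftComp (CommGrp.mk B) f).range)
    have hN : 0 < N := Nat.card_pos
    have hmem : ∀ ψ : EndAV.Hom D B, ∃ φ : EndAV.Hom A B, f ≫ φ = N • ψ := fun ψ => by
      have : ((N • ψ : EndAV.Hom D B) : EndAV.Hom D B ⧸ (Preadditive.leftComp (CommGrp.mk B) f).range) = 0 := by
        rw [QuotientAddGroup.mk_nsmul, card_nsmul_eq_zero']
      exact (QuotientAddGroup.eq_zero_iff _).1 this
    have hdim : 2 * gA = 2 * gD := by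
      refine le_antisymm ?_ ?_
      · rw [← hrA, ← hrD]
        exact LinearMap.finrank_le_finrank_of_injective
          (f := (Preadditive.leftComp (CommGrp.mk B) f).toIntLinearMap) hinjf
      · rw [← hrA, ← hrD]
        choose c hc using hmem
        refine LinearMap.finrank_le_finrank_of_injective (R := ℤ)
          (f := (AddMonoidHom.mk' c  fun a b => hinjf (show f ≫ c (a + b) = f ≫ (c a + c b) by
                     rw [Preadditive.comp_add, hc, hc, hc, smul_add])).toIntLinearMap) fun a b hab => ?_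
        have h' := congrArg (f ≫ ·) (show c a = c b from hab)
        simp only [hc] at h'
        rw [← natCast_zsmul, ← natCast_zsmul] at h'
        exact smul_right_injective _ (Nat.cast_ne_zero.2 hN.ne') h'
    have hTinj : Function.Injective (EndAV.Hom.tateMap l (SGA7.pt (AlgebraicClosure k)) f) := by
      refine (injective_iff_map_eq_zero _).2 fun z hz => ?_
      refine (tate_eval_bijective (Ω := AlgebraicClosure k) l p ϖ hint hweil hinj hl hk πD hπD hPD πB hπB ρ hρ).1 z 0
        fun ψ => ?_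
      obtain ⟨φ, hφ⟩ := hmem ψ
      have h := LinearMap.congr_fun (congrArg (EndAV.Hom.tateMap l (SGA7.pt (AlgebraicClosure k))) hφ) z
      rw [map_nsmul, show EndAV.Hom.tateMap l (SGA7.pt (AlgebraicClosure k)) (f ≫ φ) = _ from
        tate_comp l f.toHom φ.toHom, LinearMap.comp_apply, LinearMap.smul_apply,
        show AbDual.tateMapₗ (l := l) (T := SGA7.pt (AlgebraicClosure k)) f.toHom z = 0 from hz, map_zero] at h
      obtain ⟨gB, hgB⟩ := TorsPtsLib.exists_dim B
      haveI := (AVHomForm.tate_free (AlgebraicClosure k) l hl B hgB).1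
      rw [map_zero]
      refine smul_right_injective _ (show (N : ℤ_[l]) ≠ 0 from Nat.cast_ne_zero.2 hN.ne') ?_
      show (N : ℤ_[l]) • _ = (N : ℤ_[l]) • _
      rw [smul_zero, Nat.cast_smul_eq_nsmul]
      exact h.symm
    have hbij : Function.Bijective (ratMap (AlgebraicClosure k) l f) := by
      have hinjQ : Function.Injective (ratMap (AlgebraicClosure k) l f) :=
        Module.Flat.lTensor_preserves_injective_linearMap (M := ℚ_[l]) _ hTinj
      refine ⟨hinjQ, ?_⟩
      refine (LinearMap.injective_iff_surjective_of_finrank_eq_finrank ?_).1 hinjQ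
      rw [Module.finrank_baseChange, Module.finrank_baseChange]
      exact hrkD.trans (hdim.symm.trans hrkA.symm)
    obtain ⟨w, hw⟩ := exists_injective_ratMap (Ω := AlgebraicClosure k) l hl
      (LinearEquiv.ofBijective _ hbij).symm (hom_mem_span l hl _ fun τ => LinearMap.ext fun v => by
        refine hbij.1 ?_
        simp only [LinearMap.comp_apply, LinearEquiv.coe_coe]
        obtain ⟨v', rfl⟩ := hbij.2 v
        have hL : ∀ u, (LinearEquiv.ofBijective _ hbij) ((LinearEquiv.ofBijective _ hbij).symm u) = u :=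
          (LinearEquiv.ofBijective _ hbij).apply_symm_apply
        refine (hL _).trans ?_
        refine Eq.trans ?_ (LinearMap.congr_fun (ratMap_gal l f τ) _).symm
        exact congrArg _ (hL _).symm)
    obtain ⟨n, hn, x, hx⟩ := exists_mul_eq_natCast (Ω := AlgebraicClosure k) l hl (f ≫ w : EndAV.End D) (by
      rw [ratMap_comp]; exact hw.comp hbij)
    let w' : EndAV.Hom A D := w ≫ x
    have h1 : f ≫ w' = (n : EndAV.End D) := by
      rw [← hx]; exact (Category.assoc _ _ _).symm
    have h2 : w' ≫ f = (n : EndAV.End A) := by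
      refine ratMap_injective (Ω := AlgebraicClosure k) l hl (A := A) (B := A) (LinearMap.ext fun v => ?_)
      obtain ⟨z, rfl⟩ := hbij.2 v
      rw [← LinearMap.comp_apply (ratMap _ l (w' ≫ f)), ← ratMap_comp, ← Category.assoc, h1, natCast_comp_eq,
        ← LinearMap.comp_apply (ratMap _ l ((n : EndAV.End A) : EndAV.Hom A A)), ← ratMap_comp]
      congr 2
      refine EndAV.Hom.ext ?_
      rw [EndAV.Hom.toHom_nsmul]
      show _ = f.toHom ≫ (n : EndAV.End A).toHom
      rw [EndAV.End.toHom_natCast, MonObj.comp_pow, Category.comp_id]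
    have hsur : Surjective f.toHom.left := by
      haveI : Surjective (w'.toHom ≫ f.toHom).left := by
        rw [show w'.toHom ≫ f.toHom = (𝟙 A) ^ n by rw [← EndAV.End.toHom_natCast, ← h2]; rfl]
        exact AVMulN.surjective_pow n hn
      haveI : Surjective (w'.toHom.left ≫ f.toHom.left) := by rwa [← Over.comp_left]
      exact Surjective.of_comp w'.toHom.left f.toHom.left
    haveI := hsur
    have hg : gD = gA := by omega
    exact ⟨(AVDegPoly.isFinite_of_surjective (hg ▸ hgD) hgA f.toHom).1, hsur⟩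

end Groth.Agent.TateIsog
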