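import Mathlib.FieldTheory.IntermediateField.Adjoin.Basic
import Mathlib.RingTheory.Adjoin.Basic
import Mathlib.LinearAlgebra.Basis.VectorSpace

/-!
# Generation of a function field descends along a linearly disjoint extension of constants
-/

set_option autoImplicit false
set_option linter.style.haveILetI false

universe u

noncomputable section

namespace Groth.Agent.TateIsog

/-- If an element of `L` lies in the field generated by a set over bigger constants, and the constants are linearly
disjoint from `L`, then it lies in the field generated over the small constants. -/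
theorem mem_adjoin_of_mem_adjoin {k Ω L L' : Type u} [Field k] [Field Ω] [Field L] [Field L'] [Algebra k Ω]
    [Algebra k L] [Algebra k L'] [Algebra L L'] [Algebra Ω L'] [IsScalarTower k L L'] [IsScalarTower k Ω L']
    (hld : ∀ {ι : Type u} (v : ι → Ω), LinearIndependent k v → LinearIndependent L (fun i => algebraMap Ω L' (v i)))
    (S : Set L) (x : L) (hx : algebraMap L L' x ∈ IntermediateField.adjoin Ω (algebraMap L L' '' S)) :
    x ∈ IntermediateField.adjoin k S := by
  classical
  let ι := Module.Basis.ofVectorSpaceIndex k Ω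
  let b : Module.Basis ι k Ω := Module.Basis.ofVectorSpace k Ω
  let A : Subalgebra k L := Algebra.adjoin k S
  let T : (ι →₀ L) →ₗ[L] L' := Finsupp.linearCombination L fun i => algebraMap Ω L' (b i)
  have hTinj : Function.Injective T := hld b b.linearIndependent
  -- expansion along the basis
  have hexp : ∀ r ∈ Algebra.adjoin Ω (algebraMap L L' '' S), ∃ c : ι →₀ L, (∀ i, c i ∈ A) ∧ T c = r := by
    intro r hr
    rw [← Subalgebra.mem_toSubmodule, Algebra.adjoin_eq_span] at hr
    have key : ∀ m ∈ Submonoid.closure (algebraMap L L' '' S), ∃ a ∈ A, algebraMap L L' a = m := by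
      intro m hm
      induction hm using Submonoid.closure_induction with
      | mem m hm => obtain ⟨a, ha, rfl⟩ := hm; exact ⟨a, Algebra.subset_adjoin ha, rfl⟩
      | one => exact ⟨1, A.one_mem, map_one _⟩
      | mul x y _ _ hx hy =>
        obtain ⟨a, ha, rfl⟩ := hx
        obtain ⟨a', ha', rfl⟩ := hy
        exact ⟨a * a', A.mul_mem ha ha', map_mul _ _ _⟩
    obtain ⟨l, hl, rfl⟩ := Submodule.mem_span_set.1 hr
    refine Finset.sum_induction _ (fun r => ∃ c : ι →₀ L, (∀ i, c i ∈ A) ∧ T c = r) ?_ ?_ ?_
    · rintro _ _ ⟨c, hc, rfl⟩ ⟨c', hc', rfl⟩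
      exact ⟨c + c', fun i => A.add_mem (hc i) (hc' i), map_add _ _ _⟩
    · exact ⟨0, fun i => A.zero_mem, map_zero _⟩
    · intro m hm
      obtain ⟨a, ha, rfl⟩ := key m (hl hm)
      refine ⟨(b.repr (l (algebraMap L L' a))).mapRange (fun t => algebraMap k L t * a) (by simp),
        fun i => by simpa using A.mul_mem (A.algebraMap_mem _) ha, ?_⟩
      show Finsupp.linearCombination L (fun i => algebraMap Ω L' (b i)) _ = _
      rw [Finsupp.linearCombination_apply, Finsupp.sum_mapRange_index (by simp)]
      show _ = l (algebraMap L L' a) • algebraMap L L' a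
      conv_rhs => rw [← b.linearCombination_repr (l (algebraMap L L' a)), Finsupp.linearCombination_apply,
        Finsupp.sum, Finset.sum_smul]
      refine Finset.sum_congr rfl fun i _ => ?_
      dsimp only
      rw [Algebra.smul_def, Algebra.smul_def, Algebra.smul_def, map_mul, map_mul,
        ← IsScalarTower.algebraMap_apply k L L', ← IsScalarTower.algebraMap_apply k Ω L']
      ring
  obtain ⟨r, hr, s, hs, he⟩ := IntermediateField.mem_adjoin_iff_div.1 hx
  by_cases hs0 : s = 0
  · rw [hs0, div_zero] at he
    rw [(algebraMap L L').injective (he.trans (map_zero _).symm)]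
    exact zero_mem _
  rw [eq_div_iff hs0] at he
  obtain ⟨cr, hcr, hcr'⟩ := hexp r hr
  obtain ⟨cs, hcs, hcs'⟩ := hexp s hs
  have hzero : T (x • cs - cr) = 0 := by rw [map_sub, map_smul, hcs', hcr', Algebra.smul_def, he, sub_self]
  have hcs0 : cs ≠ 0 := fun h => hs0 (by rw [← hcs', h, map_zero])
  obtain ⟨i, hi⟩ := Finsupp.ne_iff.1 hcs0
  have heq := DFunLike.congr_fun (hTinj (hzero.trans (map_zero T).symm)) i
  rw [Finsupp.sub_apply, Finsupp.smul_apply, smul_eq_mul, Finsupp.zero_apply, sub_eq_zero] at heq
  have hA : A ≤ (IntermediateField.adjoin k S).toSubalgebra := Algebra.adjoin_le (IntermediateField.subset_adjoin k S)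
  rw [(eq_div_iff (by simpa using hi)).2 heq]
  exact div_mem (hA (hcr i)) (hA (hcs i))

end Groth.Agent.TateIsog
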