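import Groth.Agent.TateIsog.Sections
import Groth.Agent.TateIsog.FieldDesc
import Groth.Agent.GGDesc.Semilocal
import Groth.Agent.DivModel.Model
import Groth.Agent.H23.InfLift
import Mathlib.RingTheory.IsTensorProduct

/-!
# Bounded functions under an extension of the ground field
-/

noncomputable section

set_option linter.style.haveILetI false
set_option linter.unusedSectionVars false
set_option backward.isDefEq.respectTransparency false
set_option backward.isDefEq.respectTransparency.types false
set_option maxHeartbeats 1000000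
set_option autoImplicit false

universe u

open CategoryTheory CategoryTheory.Limits AlgebraicGeometry TopologicalSpace Opposite
open scoped TensorProduct

namespace Groth.Agent.TateIsog

open Groth.Agent Groth.Agent.AVDegLib Groth.Agent.InvX Groth.Agent.H23

variable {k Ω : Type u} [Field k] [Field Ω] [Algebra k Ω]

/-- The morphism of spectra of the extension. -/
abbrev tΩ (k Ω : Type u) [Field k] [Field Ω] [Algebra k Ω] : Spec (CommRingCat.of Ω) ⟶ Spec (CommRingCat.of k) :=
  Spec.map (CommRingCat.ofHom (algebraMap k Ω))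

variable {A : Over (Spec (CommRingCat.of k))} {A' : Over (Spec (CommRingCat.of Ω))} [IsIntegral A.left]
  [IsIntegral A'.left] {q : A'.left ⟶ A.left} (hq : IsPullback q A'.hom A.hom (tΩ k Ω))

include hq in
theorem flat_surjective : Flat q ∧ Surjective q ∧ QuasiCompact q := by
  haveI : Surjective (tΩ k Ω) := ⟨fun x => ⟨IsLocalRing.closedPoint Ω,
    (inferInstance : Subsingleton (PrimeSpectrum k)).elim _ _⟩⟩
  haveI : Flat (tΩ k Ω) := inferInstance
  exact ⟨MorphismProperty.of_isPullback hq.flip inferInstance, MorphismProperty.of_isPullback hq.flip inferInstance,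
    MorphismProperty.of_isPullback hq.flip inferInstance⟩

include hq in
theorem map_generic : q (genericPoint A'.left) = genericPoint A.left := by
  haveI := (flat_surjective hq).2.1
  haveI : IsDominant q := ⟨q.surjective.denseRange⟩
  exact DivModel.image_genericPoint q

include hq in
theorem eta_preimage' {U : A.left.Opens} (h : genericPoint A.left ∈ U) : genericPoint A'.left ∈ q ⁻¹ᵁ U := by
  show q (genericPoint A'.left) ∈ U
  rw [map_generic hq]; exact h

/-- The inclusion of function fields. -/
def qf : A.left.functionField →+* A'.left.functionField :=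
  (q.stalkMap (genericPoint A'.left)).hom.comp
    (A.left.presheaf.stalkSpecializes (show q (genericPoint A'.left) ⤳ genericPoint A.left by rw [map_generic hq])).hom

theorem qf_gm {U : A.left.Opens} (h : genericPoint A.left ∈ U) (a : Γ(A.left, U)) :
    qf hq (gm U h a) = gm (q ⁻¹ᵁ U) (eta_preimage' hq h) (q.app U a) := by
  show q.stalkMap _ (A.left.presheaf.stalkSpecializes _ (A.left.presheaf.germ U _ h a)) = _
  rw [TopCat.Presheaf.germ_stalkSpecializes_apply]
  exact Scheme.Hom.germ_stalkMap_apply q U _ _ a

theorem qf_algebraMap (c : k) :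
    qf hq (algebraMap k A.left.functionField c) = algebraMap Ω A'.left.functionField (algebraMap k Ω c) := by
  refine (qf_gm hq (U := ⊤) trivial _).trans ?_
  show gm _ _ (q.appTop (A.hom.appTop ((Scheme.ΓSpecIso (CommRingCat.of k)).inv c))) =
    gm _ _ (A'.hom.appTop ((Scheme.ΓSpecIso (CommRingCat.of Ω)).inv (algebraMap k Ω c)))
  refine congrArg _ ((congrArg (fun f : A'.left ⟶ Spec (CommRingCat.of k) =>
    f.appTop ((Scheme.ΓSpecIso (CommRingCat.of k)).inv c)) hq.w).trans ?_)
  show A'.hom.appTop ((tΩ k Ω).appTop ((Scheme.ΓSpecIso (CommRingCat.of k)).inv c)) = _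
  refine congrArg _ ?_
  exact (ConcreteCategory.congr_hom (Scheme.ΓSpecIso_inv_naturality (CommRingCat.ofHom (algebraMap k Ω))) c).symm

/-- The extended function field as an algebra. -/
@[reducible] def qExt : Algebra A.left.functionField A'.left.functionField := (qf hq).toAlgebra

/-- The structure map on sections. -/
abbrev algU (U : A.left.Opens) : k →+* Γ(A.left, U) := (A.left.presheaf.map (homOfLE le_top).op).hom.comp
  ((Scheme.ΓSpecIso (CommRingCat.of k)).inv ≫ A.hom.appTop).hom

/-- Sections over the preimage of an affine open are a tensor product. -/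
theorem tensor_affine {U : A.left.Opens} (hU : IsAffineOpen U) (hηU : genericPoint A.left ∈ U) :
    letI : Algebra k Γ(A.left, U) := (algU U).toAlgebra
    ∃ L : Ω ⊗[k] Γ(A.left, U) →+* A'.left.functionField,
      Function.Injective L ∧
      (∀ c r, L (c ⊗ₜ r) = algebraMap Ω A'.left.functionField c * qf hq (gm U hηU r)) ∧
      (∀ f ∈ sect A' (q ⁻¹ᵁ U), ∃ x, L x = f) := by
  classical
  haveI : Nonempty U := ⟨⟨_, hηU⟩⟩
  haveI := functionField_isFractionRing_of_isAffineOpen A.left U hU
  -- the ring upstairs is the tensor product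
  let φ : k →+* Γ(A.left, U) := algU U
  letI : Algebra k Γ(A.left, U) := φ.toAlgebra
  haveI : IsAffine U.toScheme := hU
  haveI : IsAffine (Spec (CommRingCat.of Ω)) := inferInstance
  have hsq : IsPullback (q ∣_ U) ((q ⁻¹ᵁ U).ι ≫ A'.hom) (U.ι ≫ A.hom) (tΩ k Ω) :=
    (isPullback_morphismRestrict q U).paste_vert hq
  haveI : IsAffine (q ⁻¹ᵁ U).toScheme := IsAffine.of_isPullback hsq
  have hV : genericPoint A'.left ∈ q ⁻¹ᵁ U := eta_preimage' hq hηU
  let ψ : Ω →+* A'.left.functionField := algebraMap Ω A'.left.functionField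
  let χ : Γ(A.left, U) →+* A'.left.functionField := (qf hq).comp (gm U hηU)
  letI : Algebra k A'.left.functionField := (ψ.comp (algebraMap k Ω)).toAlgebra
  let ψ' : Ω →ₐ[k] A'.left.functionField := ⟨ψ, fun _ => rfl⟩
  let χ' : Γ(A.left, U) →ₐ[k] A'.left.functionField :=
    ⟨χ, fun c => by
        show qf hq (gm U hηU (φ c)) = ψ (algebraMap k Ω c)
        rw [show gm U hηU (φ c) = algebraMap k A.left.functionField c from gm_res le_top hηU _]
        exact qf_algebraMap hq c⟩
  -- pushout of the global functions
  have hpo := isPushout_appTop_of_isPullback hsq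
  let a : CommRingCat.of k ⟶ Γ(U.toScheme, ⊤) := (Scheme.ΓSpecIso (CommRingCat.of k)).inv ≫ (U.ι ≫ A.hom).appTop
  have hpo' : IsPushout (CommRingCat.ofHom (algebraMap k Ω)) (CommRingCat.ofHom (algebraMap k Γ(A.left, U)))
      ((Scheme.ΓSpecIso (CommRingCat.of Ω)).inv ≫ ((q ⁻¹ᵁ U).ι ≫ A'.hom).appTop ≫ (q ⁻¹ᵁ U).topIso.hom)
      (q.app U) := by
    refine hpo.flip.of_iso (Scheme.ΓSpecIso (CommRingCat.of k)) (Scheme.ΓSpecIso (CommRingCat.of Ω)) U.topIso
      (q ⁻¹ᵁ U).topIso ?_ ?_ ?_ ?_
    · exact Scheme.ΓSpecIso_naturality _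
    · ext c
      show U.topIso.hom ((U.ι ≫ A.hom).appTop c) = φ ((Scheme.ΓSpecIso (CommRingCat.of k)).hom c)
      simp only [φ, Scheme.Hom.comp_appTop, CommRingCat.comp_apply, RingHom.comp_apply, CommRingCat.hom_comp,
        Scheme.Opens.ι_appTop, Scheme.Opens.topIso_hom, Iso.hom_inv_id_apply]
      exact (ConcreteCategory.congr_hom (A.left.presheaf.map_comp _ _).symm _).trans rfl
    · rw [Iso.hom_inv_id_assoc]
    · rw [morphismRestrict_appTop, Scheme.Opens.topIso_hom, Scheme.Opens.topIso_hom, Category.assoc, ← Functor.map_comp]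
      exact (q.naturality _).symm
  let e := hpo'.isoIsPushout _ _ (CommRingCat.isPushout_tensorProduct k Ω Γ(A.left, U))
  have key : (Algebra.TensorProduct.lift ψ' χ' fun _ _ => mul_comm _ _).toRingHom =
      ((gm (q ⁻¹ᵁ U) hV).comp e.inv.hom) := by
    refine RingHom.ext fun x => ?_
    induction x using TensorProduct.induction_on with
    | zero => simp only [map_zero]
    | add a b ha hb => rw [map_add, map_add, ha, hb]
    | tmul c r =>
      rw [show c ⊗ₜ[k] r = (c ⊗ₜ[k] (1 : Γ(A.left, U))) * ((1 : Ω) ⊗ₜ[k] r) by simp, map_mul, map_mul]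
      congr 1
      · have h := ConcreteCategory.congr_hom
          (IsPushout.inl_isoIsPushout_inv _ _ hpo' (CommRingCat.isPushout_tensorProduct k Ω Γ(A.left, U))) c
        simp only [RingHom.comp_apply, AlgHom.toRingHom_eq_coe, RingHom.coe_coe,
          Algebra.TensorProduct.lift_tmul, map_one, mul_one]
        refine Eq.trans ?_ (congrArg (gm (q ⁻¹ᵁ U) hV) h.symm)
        show ψ c = gm _ hV ((q ⁻¹ᵁ U).topIso.hom (((q ⁻¹ᵁ U).ι ≫ A'.hom).appTop ((Scheme.ΓSpecIso _).inv c)))
        rw [Scheme.Hom.comp_appTop]
        simp only [CommRingCat.comp_apply, Scheme.Opens.ι_appTop]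
        exact ((congrArg (gm _ hV) ((ConcreteCategory.congr_hom (A'.left.presheaf.map_comp _ _).symm _).trans rfl)).trans (gm_res le_top hV _)).symm
      · have h := ConcreteCategory.congr_hom
          (IsPushout.inr_isoIsPushout_inv _ _ hpo' (CommRingCat.isPushout_tensorProduct k Ω Γ(A.left, U))) r
        simp only [RingHom.comp_apply, AlgHom.toRingHom_eq_coe, RingHom.coe_coe,
          Algebra.TensorProduct.lift_tmul, map_one, one_mul]
        refine Eq.trans ?_ (congrArg (gm (q ⁻¹ᵁ U) hV) h.symm)
        exact qf_gm hq hηU r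
  refine ⟨(Algebra.TensorProduct.lift ψ' χ' fun _ _ => mul_comm _ _).toRingHom, fun x y hxy => ?_,
    fun c r => Algebra.TensorProduct.lift_tmul ψ' χ' _ c r, fun f hf => ?_⟩
  · have h2 : gm (q ⁻¹ᵁ U) hV (e.inv x) = gm (q ⁻¹ᵁ U) hV (e.inv y) :=
      (RingHom.congr_fun key x).symm.trans (hxy.trans (RingHom.congr_fun key y))
    exact (ConcreteCategory.bijective_of_isIso e.inv).1 (gm_injective _ hV h2)
  · obtain ⟨b, rfl⟩ := (mem_sect hV).1 hf
    refine ⟨e.hom b, (RingHom.congr_fun key (e.hom b)).trans ?_⟩
    exact congrArg (gm (q ⁻¹ᵁ U) hV) (ConcreteCategory.congr_hom e.hom_inv_id b)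

/-- **Linear disjointness.** Constants independent over `k` stay independent over the function field. -/
theorem linearIndependent_constants {ι : Type u} (v : ι → Ω) (hv : LinearIndependent k v) :
    letI := qExt hq
    LinearIndependent A.left.functionField (fun i => algebraMap Ω A'.left.functionField (v i)) := by
  classical
  letI := qExt hq
  obtain ⟨U, hU, hηU⟩ : ∃ U : A.left.Opens, IsAffineOpen U ∧ genericPoint A.left ∈ U := by
    obtain ⟨_, ⟨U, hU, rfl⟩, hηU, -⟩ := A.left.isBasis_affineOpens.exists_subset_of_mem_open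
      (show genericPoint A.left ∈ (⊤ : A.left.Opens) from trivial) (⊤ : A.left.Opens).2
    exact ⟨U, hU, hηU⟩
  haveI : Nonempty U := ⟨⟨_, hηU⟩⟩
  haveI := functionField_isFractionRing_of_isAffineOpen A.left U hU
  letI : Algebra k Γ(A.left, U) := (algU U).toAlgebra
  obtain ⟨L, hinj, hL, -⟩ := tensor_affine hq hU hηU
  rw [linearIndependent_iff']
  intro s c hc i hi
  obtain ⟨⟨d, hd⟩, hint⟩ := IsLocalization.exist_integer_multiples (nonZeroDivisors Γ(A.left, U)) s c
  choose r hr using hint
  have hd0 : gm U hηU d ≠ 0 := (map_ne_zero_iff _ (gm_injective U hηU)).2 (nonZeroDivisors.ne_zero hd)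
  have h0 : L (∑ j ∈ s.attach, v j ⊗ₜ[k] r j.1 j.2) = 0 := by
    rw [map_sum]
    simp only [hL]
    calc ∑ j ∈ s.attach, algebraMap Ω A'.left.functionField (v j) * qf hq (gm U hηU (r j.1 j.2))
        = ∑ j ∈ s.attach, qf hq (gm U hηU d) * (c j • algebraMap Ω A'.left.functionField (v j)) := Finset.sum_congr rfl fun j _ => by
          show algebraMap Ω A'.left.functionField (v j) * qf hq (gm U hηU (r j.1 j.2)) = qf hq (gm U hηU d) * (qf hq (c j) * algebraMap Ω A'.left.functionField (v j))
          have := hr j.1 j.2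
          rw [Algebra.smul_def] at this
          rw [show gm U hηU (r j.1 j.2) = gm U hηU d * c j from this, map_mul]
          ring
      _ = qf hq (gm U hηU d) * ∑ j ∈ s, c j • algebraMap Ω A'.left.functionField (v j) := by
          rw [← Finset.mul_sum, Finset.sum_attach s (fun j => c j • algebraMap Ω A'.left.functionField (v j))]
      _ = 0 := by rw [show ∑ j ∈ s, c j • algebraMap Ω A'.left.functionField (v j) = 0 from hc, mul_zero]
  have h1 : ∑ j ∈ s.attach, v j ⊗ₜ[k] r j.1 j.2 = 0 := hinj (h0.trans (map_zero _).symm)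
  have h2 : r i hi = 0 := by
    obtain ⟨f, hf⟩ := LinearMap.exists_extend (p := Submodule.span k (Set.range v))
      ((Finsupp.lapply i).comp hv.repr)
    have hfv : ∀ j, f (v j) = if j = i then 1 else 0 := fun j => by
      have := LinearMap.congr_fun hf ⟨v j, Submodule.subset_span ⟨j, rfl⟩⟩
      simp only [LinearMap.comp_apply, Submodule.subtype_apply] at this
      rw [this, hv.repr_eq_single j _ rfl]
      simp [Finsupp.single_apply]
    have h3 := congrArg ((TensorProduct.lid k Γ(A.left, U)).toLinearMap.comp (f.rTensor _)) h1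
    simp only [map_sum, LinearMap.comp_apply, LinearMap.rTensor_tmul, LinearEquiv.coe_coe, TensorProduct.lid_tmul,
      map_zero, hfv, ite_smul, one_smul, zero_smul] at h3
    rw [Finset.sum_eq_single ⟨i, hi⟩ (fun j _ hj => by rw [if_neg (fun h => hj (Subtype.ext h))])
      (fun h => absurd (Finset.mem_attach _ _) h), if_pos rfl] at h3
    exact h3
  have := hr i hi
  rw [Algebra.smul_def, h2, map_zero] at this
  exact (mul_eq_zero.1 this.symm).resolve_left hd0

variable {L : A.left.Modules} (β : GenFrame L)

/-- The inverse image of a frame at the generic point. -/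
def pullFrame : GenFrame ((Scheme.Modules.pullback q).obj L) :=
  ⟨q ⁻¹ᵁ β.U, InvX.pullElt q β.e, InvX.isFrame_pullElt q β.he, eta_preimage' hq β.hη⟩

include hq in
/-- The rational function of the inverse image of a section. -/
theorem rho_pull (hL : PicF.IsInvertible L) {U : A.left.Opens} (h : genericPoint A.left ∈ U) (t : Γ(L, U)) :
    rho (pullFrame hq β) (eta_preimage' hq h) (InvX.pullElt q t) = qf hq (rho β h t) := by
  have hW : genericPoint A.left ∈ U ⊓ β.U := ⟨h, β.hη⟩
  have hW' := eta_preimage' hq hW
  obtain ⟨a, ha⟩ := β.he.exists_coord (inf_le_right : U ⊓ β.U ≤ β.U) (AModX.res L inf_le_left t)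
  have h1 := congrArg (rho β hW) ha
  rw [rho_res, rho_smul, rho_res, rho_self, mul_one] at h1
  have h2 := congrArg (InvX.pullElt q) ha
  rw [InvX.pullElt_smul, ← InvX.res_pullElt q (inf_le_left : U ⊓ β.U ≤ U),
    ← InvX.res_pullElt q (inf_le_right : U ⊓ β.U ≤ β.U)] at h2
  have h3 := congrArg (rho (pullFrame hq β) hW') h2
  rw [rho_res, rho_smul, rho_res] at h3
  rw [h3, h1, qf_gm hq hW]
  show _ * rho (pullFrame hq β) _ (pullFrame hq β).e = _
  rw [rho_self, mul_one]

include hq in
/-- Bounded functions stay bounded. -/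
theorem qf_mem_W (hL : PicF.IsInvertible L) {n : ℕ} {f : A.left.functionField} (hf : f ∈ W β n) :
    qf hq f ∈ W (pullFrame hq β) n := by
  obtain ⟨U, hU, σ, hσ, hxU⟩ := exists_frames hL
  refine mem_W_of_cover (pullFrame hq β) (fun y : A'.left => q ⁻¹ᵁ U (q y)) (fun y => eta_preimage' hq (hU _))
    (fun y => InvX.pullElt q (σ (q y))) (fun y => InvX.isFrame_pullElt q (hσ _)) (fun y => ⟨y, hxU (q y)⟩) fun y => ?_
  obtain ⟨a, ha⟩ := (mem_sect (hU (q y))).1 (hf _ (hU (q y)) (σ (q y)) (hσ _))
  refine (mem_sect (eta_preimage' hq (hU (q y)))).2 ⟨q.app _ a, ?_⟩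
  rw [← qf_gm hq (hU (q y)), ha, map_div₀, map_pow, rho_pull hq β hL]

include hq in
/-- Functions of `A` independent over the small constants stay independent over the big ones. -/
theorem linearIndependent_qf {ι : Type u} (w : ι → A.left.functionField) (hw : LinearIndependent k w) :
    LinearIndependent Ω (fun i => qf hq (w i)) := by
  classical
  letI := qExt hq
  let b := Module.Basis.ofVectorSpace k Ω
  have hb := linearIndependent_constants hq b b.linearIndependent
  rw [linearIndependent_iff'] at hw ⊢
  intro s c hc i hi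
  let J := s.biUnion fun i => (b.repr (c i)).support
  have hexp : ∀ i ∈ s, algebraMap Ω A'.left.functionField (c i) =
      ∑ j ∈ J, qf hq (algebraMap k A.left.functionField (b.repr (c i) j)) * algebraMap Ω _ (b j) := fun i hi => by
    conv_lhs => rw [← b.linearCombination_repr (c i), Finsupp.linearCombination_apply,
      Finsupp.sum_of_support_subset _ (Finset.subset_biUnion_of_mem (fun i => (b.repr (c i)).support) hi) _
        (by simp), map_sum]
    refine Finset.sum_congr rfl fun j _ => ?_
    rw [Algebra.smul_def, map_mul, qf_algebraMap]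
  have h0 : ∑ j ∈ J, (∑ i ∈ s, b.repr (c i) j • w i) • algebraMap Ω A'.left.functionField (b j) = 0 := by
    rw [← hc]
    simp only [Finset.sum_smul]
    rw [Finset.sum_comm]
    refine Finset.sum_congr rfl fun i hi => ?_
    rw [Algebra.smul_def (c i) (qf hq (w i)), hexp i hi, Finset.sum_mul]
    refine Finset.sum_congr rfl fun j _ => ?_
    show qf hq (b.repr (c i) j • w i) * _ = _
    rw [Algebra.smul_def, map_mul]
    ring
  by_contra hci
  obtain ⟨j, hj⟩ : ∃ j, b.repr (c i) j ≠ 0 := by
    by_contra h
    push_neg at h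
    exact hci (b.repr.map_eq_zero_iff.1 (Finsupp.ext h))
  exact hj (hw s (fun i => b.repr (c i) j) (linearIndependent_iff'.1 hb J _ h0 j
    (Finset.mem_biUnion.2 ⟨i, hi, Finsupp.mem_support_iff.2 hj⟩)) i hi)

include hq in
/-- Bounded functions upstairs are combinations of those downstairs. -/
theorem W_eq_span (hL : PicF.IsInvertible L) (n : ℕ) :
    W (pullFrame hq β) n = Submodule.span Ω (qf hq '' W β n) := by
  classical
  refine le_antisymm (fun f hf => ?_) (Submodule.span_le.2 ?_)
  swap
  · rintro _ ⟨g, hg, rfl⟩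
    exact qf_mem_W hq β hL hg
  letI := qExt hq
  let b := Module.Basis.ofVectorSpace k Ω
  let T : (_ →₀ A.left.functionField) →ₗ[A.left.functionField] A'.left.functionField :=
    Finsupp.linearCombination A.left.functionField fun i => algebraMap Ω A'.left.functionField (b i)
  have hTinj : Function.Injective T := linearIndependent_constants hq b b.linearIndependent
  have hframe : ∀ x : A.left, ∃ (U : A.left.Opens), IsAffineOpen U ∧ x ∈ U ∧ ∃ e : Γ(L, U), IsFrame e := fun x => by
    obtain ⟨U₀, hxU₀, e₀, he₀⟩ := InvX.exists_frame hL x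
    obtain ⟨U, hU, hxU, hUle⟩ := exists_isAffineOpen_mem_and_subset (x := x) (U := U₀) hxU₀
    exact ⟨U, hU, hxU, AModX.res L hUle e₀, he₀.res _⟩
  choose U hU hxU e he using hframe
  have key : ∀ x, ∃ c : _ →₀ A.left.functionField,
      (∀ i, c i / rho β (eta_mem A (hxU x)) (e x) ^ n ∈ sect A (U x)) ∧ T c = f := by
    intro x
    let hη := eta_mem A (hxU x)
    have hρ := pow_ne_zero n (rho_ne_zero β hη (he x))
    let P : Submodule k A.left.functionField :=
      { carrier := {g | g / rho β hη (e x) ^ n ∈ sect A (U x)}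
        add_mem' := fun {g g'} hg hg' => by
          simp only [Set.mem_setOf_eq] at hg hg' ⊢
          rw [add_div]; exact add_mem hg hg'
        zero_mem' := by simp only [Set.mem_setOf_eq]; rw [zero_div]; exact zero_mem _
        smul_mem' := fun a g hg => by
          simp only [Set.mem_setOf_eq] at hg ⊢
          rw [smul_div_assoc]; exact (sect A (U x)).smul_mem hg a }
    letI : Algebra k Γ(A.left, U x) := (algU (U x)).toAlgebra
    obtain ⟨Lm, -, hLm, hsurj⟩ := tensor_affine hq (hU x) hη
    have h0 := hf _ (eta_preimage' hq hη) (InvX.pullElt q (e x)) (InvX.isFrame_pullElt q (he x))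
    rw [rho_pull hq β hL] at h0
    obtain ⟨t, ht⟩ := hsurj _ h0
    have hspan : f ∈ Submodule.span Ω (qf hq '' (P : Set A.left.functionField)) := by
      rw [eq_div_iff (by simpa using (map_ne_zero (qf hq)).2 hρ)] at ht
      rw [← ht]
      clear ht
      induction t using TensorProduct.induction_on with
      | zero => rw [map_zero, zero_mul]; exact zero_mem _
      | add t t' h1 h2 => rw [map_add, add_mul]; exact add_mem h1 h2
      | tmul c r =>
        rw [hLm, mul_assoc, ← Algebra.smul_def, ← map_pow, ← map_mul]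
        refine Submodule.smul_mem _ c (Submodule.subset_span ⟨_, ?_, rfl⟩)
        show gm _ hη r * rho β hη (e x) ^ n ∈ ({g | g / rho β hη (e x) ^ n ∈ sect A (U x)} : Set _)
        rw [Set.mem_setOf_eq]
        rw [mul_div_assoc, div_self hρ, mul_one]
        exact gm_mem_sect hη r
    obtain ⟨l, hl, rfl⟩ := Submodule.mem_span_set.1 hspan
    refine Finset.sum_induction _ (fun r => ∃ c : _ →₀ A.left.functionField, (∀ i, c i ∈ P) ∧ T c = r) ?_ ?_ ?_
    · rintro _ _ ⟨c, hc, rfl⟩ ⟨c', hc', rfl⟩
      exact ⟨c + c', fun i => P.add_mem (hc i) (hc' i), map_add _ _ _⟩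
    · exact ⟨0, fun i => P.zero_mem, map_zero _⟩
    · intro m hm
      obtain ⟨g, hg, rfl⟩ := hl hm
      refine ⟨(b.repr (l (qf hq g))).mapRange (fun a => a • g) (zero_smul _ _),
        fun i => by simpa using P.smul_mem _ hg, ?_⟩
      show Finsupp.linearCombination _ (fun i => algebraMap Ω A'.left.functionField (b i)) _ = _
      rw [Finsupp.linearCombination_apply, Finsupp.sum_mapRange_index (by simp)]
      show _ = l (qf hq g) • qf hq g
      conv_rhs => rw [← b.linearCombination_repr (l (qf hq g)), Finsupp.linearCombination_apply, Finsupp.sum,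
        Finset.sum_smul]
      refine Finset.sum_congr rfl fun i _ => ?_
      dsimp only
      show qf hq (_ • g) * _ = _
      rw [Algebra.smul_def, map_mul, qf_algebraMap, Algebra.smul_def, Algebra.smul_def, map_mul]
      ring
  choose c hc hT using key
  let x₀ := genericPoint A.left
  have hcW : ∀ i, c x₀ i ∈ W β n := fun i => mem_W_of_cover β U (fun x => eta_mem A (hxU x)) e he
    (fun x => ⟨x, hxU x⟩) fun x => by
      rw [hTinj ((hT x₀).trans (hT x).symm)]
      exact hc x i
  rw [← hT x₀, show T (c x₀) = _ from Finsupp.linearCombination_apply _ _, Finsupp.sum]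
  refine Submodule.sum_mem _ fun i _ => ?_
  show qf hq (c x₀ i) * algebraMap Ω _ (b i) ∈ _
  rw [mul_comm, ← Algebra.smul_def]
  exact Submodule.smul_mem _ _ (Submodule.subset_span ⟨_, hcW i, rfl⟩)

include hq in
/-- The dimension of the bounded functions does not change. -/
theorem finrank_W_pull (hL : PicF.IsInvertible L) (n : ℕ) [Module.Finite k (W β n)] :
    Module.Finite Ω (W (pullFrame hq β) n) ∧
      Module.finrank Ω (W (pullFrame hq β) n) = Module.finrank k (W β n) := by
  classical
  let v := Module.Free.chooseBasis k (W β n)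
  let w : Module.Free.ChooseBasisIndex k (W β n) → A.left.functionField := fun i => (v i : A.left.functionField)
  have hw : LinearIndependent k w := v.linearIndependent.map' (W β n).subtype (Submodule.ker_subtype _)
  have hli := linearIndependent_qf hq w hw
  have hsp : W (pullFrame hq β) n = Submodule.span Ω (Set.range fun i => qf hq (w i)) := by
    rw [W_eq_span hq β hL]
    refine le_antisymm (Submodule.span_le.2 ?_) (Submodule.span_mono ?_)
    · rintro _ ⟨g, hg, rfl⟩
      have hgsum : g = ∑ i, v.repr ⟨g, hg⟩ i • w i := by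
        have h := congrArg Subtype.val (v.sum_repr ⟨g, hg⟩)
        rw [Submodule.coe_sum] at h
        exact h.symm
      rw [hgsum, map_sum]
      refine Submodule.sum_mem _ fun i _ => ?_
      rw [Algebra.smul_def, map_mul, qf_algebraMap, ← Algebra.smul_def]
      exact Submodule.smul_mem _ _ (Submodule.subset_span ⟨i, rfl⟩)
    · rintro _ ⟨i, rfl⟩
      exact ⟨w i, (v i).2, rfl⟩
  rw [hsp]
  exact ⟨Module.Finite.span_of_finite Ω (Set.finite_range _), by
    rw [finrank_span_eq_card hli, Module.finrank_eq_card_basis v]⟩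

end Groth.Agent.TateIsog
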