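import Groth.Agent.AbSchExt.Main
import Groth.Agent.MorLib.SpreadFP
import Groth.Agent.DivModel.Model
import Groth.Agent.GrpSchLib.SmoothRegular
import Groth.Agent.AVDegLib.Chart

/-!
# Abelian varieties with isomorphic function fields are isomorphic schemes
-/

noncomputable section

set_option linter.style.haveILetI false
set_option linter.unusedSectionVars false
set_option backward.isDefEq.respectTransparency false
set_option backward.isDefEq.respectTransparency.types false
set_option maxHeartbeats 1000000
set_option autoImplicit false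

universe u

open CategoryTheory CategoryTheory.Limits AlgebraicGeometry TopologicalSpace

namespace Groth.Agent.TateIsog

open Groth.Agent Groth.Agent.AVDegLib

variable {k : Type u} [Field k]

/-- A map of function fields over `k` comes from a morphism into an abelian variety. -/
theorem exists_hom_of_ff (A B : Over (Spec (CommRingCat.of k))) [GrpObj B] [IsProper B.hom] [Smooth B.hom]
    [GeometricallyConnected B.hom] [Smooth A.hom] [IsIntegral A.left] [IsIntegral B.left]
    (τ : B.left.functionField →ₐ[k] A.left.functionField) :
    ∃ g : A.left ⟶ B.left, g ≫ B.hom = A.hom ∧ A.left.fromSpecStalk (genericPoint A.left) ≫ g =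
      Spec.map (CommRingCat.ofHom (τ : B.left.functionField →+* A.left.functionField)) ≫
        B.left.fromSpecStalk (genericPoint B.left) := by
  let φ : Spec (A.left.presheaf.stalk (genericPoint A.left)) ⟶ B.left :=
    Spec.map (CommRingCat.ofHom (τ : B.left.functionField →+* A.left.functionField)) ≫
      B.left.fromSpecStalk (genericPoint B.left)
  have hσ : DivModel.σ B.hom (genericPoint B.left) ≫
      CommRingCat.ofHom (τ : B.left.functionField →+* A.left.functionField) = DivModel.σ A.hom (genericPoint A.left) :=
    CommRingCat.hom_ext (RingHom.ext fun c => τ.commutes c)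
  have hφ : φ ≫ B.hom = A.left.fromSpecStalk (genericPoint A.left) ≫ A.hom := by
    rw [Category.assoc, ← DivModel.specMap_σ, ← DivModel.specMap_σ, ← Spec.map_comp, hσ]
  obtain ⟨U, hxU, f, h1, h2⟩ := MorLib.SFP.spread_out A.hom B.hom φ hφ
  haveI : IsLocallyNoetherian A.left := LocallyOfFiniteType.isLocallyNoetherian A.hom
  obtain ⟨g, ⟨hg, hgU⟩, -⟩ := AbSchExt.existsUnique_ext B A.left A.hom
    (fun x => GrpSchLib.isRegularLocalRing_stalk_of_smooth A.hom x) U (U.2.dense ⟨_, hxU⟩) f h2
  refine ⟨g, hg, ?_⟩
  rw [← Scheme.Opens.fromSpecStalkOfMem_ι U (genericPoint A.left) hxU, Category.assoc, hgU]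
  exact h1.symm

/-- Morphisms agreeing at the generic point are equal. -/
theorem ext_generic {A B : Over (Spec (CommRingCat.of k))} [IsSeparated B.hom] [IsIntegral A.left]
    {f g : A.left ⟶ B.left} (hf : f ≫ B.hom = A.hom) (hg : g ≫ B.hom = A.hom)
    (h : A.left.fromSpecStalk (genericPoint A.left) ≫ f = A.left.fromSpecStalk (genericPoint A.left) ≫ g) : f = g := by
  haveI : IsDominant (A.left.fromSpecStalk (genericPoint A.left)) := ⟨by
    rw [DenseRange, Scheme.range_fromSpecStalk]
    exact Dense.mono (Set.singleton_subset_iff.2 specializes_rfl)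
      (dense_iff_closure_eq.2 (genericPoint_spec A.left))⟩
  exact ext_of_isDominant_of_isSeparated B.hom (hf.trans hg.symm) _ h

/-- **Isomorphic function fields give isomorphic schemes.** -/
theorem nonempty_iso_of_ff (A B : Over (Spec (CommRingCat.of k))) [GrpObj A] [GrpObj B] [IsProper A.hom]
    [IsProper B.hom] [Smooth A.hom] [Smooth B.hom] [GeometricallyConnected A.hom] [GeometricallyConnected B.hom]
    [IsIntegral A.left] [IsIntegral B.left] (e : A.left.functionField ≃ₐ[k] B.left.functionField) :
    Nonempty (A ≅ B) := by
  obtain ⟨g, hg, hgη⟩ := exists_hom_of_ff A B e.symm.toAlgHom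
  obtain ⟨h, hh, hhη⟩ := exists_hom_of_ff B A e.toAlgHom
  have comp : ∀ (X Y : Over (Spec (CommRingCat.of k))) [IsIntegral X.left] [IsIntegral Y.left]
      (σ : Y.left.functionField →ₐ[k] X.left.functionField) (τ : X.left.functionField →ₐ[k] Y.left.functionField)
      (_ : ∀ x, σ (τ x) = x) (a : X.left ⟶ Y.left) (b : Y.left ⟶ X.left),
      X.left.fromSpecStalk (genericPoint X.left) ≫ a =
        Spec.map (CommRingCat.ofHom (σ : Y.left.functionField →+* X.left.functionField)) ≫
          Y.left.fromSpecStalk (genericPoint Y.left) →
      Y.left.fromSpecStalk (genericPoint Y.left) ≫ b =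
        Spec.map (CommRingCat.ofHom (τ : X.left.functionField →+* Y.left.functionField)) ≫
          X.left.fromSpecStalk (genericPoint X.left) →
      X.left.fromSpecStalk (genericPoint X.left) ≫ a ≫ b = X.left.fromSpecStalk (genericPoint X.left) := by
    intro X Y _ _ σ τ hστ a b ha hb
    rw [← Category.assoc, ha, Category.assoc, hb, ← Category.assoc, ← Spec.map_comp]
    rw [show CommRingCat.ofHom (τ : X.left.functionField →+* Y.left.functionField) ≫
      CommRingCat.ofHom (σ : Y.left.functionField →+* X.left.functionField) = 𝟙 _ from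
        CommRingCat.hom_ext (RingHom.ext hστ), Spec.map_id]
    exact Category.id_comp _
  refine ⟨Over.isoMk ⟨g, h, ?_, ?_⟩ hg⟩
  · refine ext_generic (A := A) (B := A) (by rw [Category.assoc, hh, hg]) (Category.id_comp _) ?_
    rw [Category.comp_id]
    exact comp A B e.symm.toAlgHom e.toAlgHom e.symm_apply_apply g h hgη hhη
  · refine ext_generic (A := B) (B := B) (by rw [Category.assoc, hg, hh]) (Category.id_comp _) ?_
    rw [Category.comp_id]
    exact comp B A e.toAlgHom e.symm.toAlgHom e.apply_symm_apply h g hhη hgη

end Groth.Agent.TateIsog
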