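import Groth.Agent.AVQuotLib.Quotient
import Groth.Agent.GalPts.Main
import Groth.Agent.H23.MulEtale
import Groth.Agent.ThetaLib.IsotropicLift
import Groth.Agent.GrpSchLib.MonoSubgroup
import Groth.Agent.GrpSchLib.RigidHom
import Groth.Prelude.Def_SGA7a
import Groth.Prelude.Def_AbDual

/-!
# Quotients by Galois stable groups of torsion points

A subgroup `K ⊆ X(Ω)[N]` stable under Galois gives an isogeny `u : X ⟶ Y` with kernel `K` on points and
`v : Y ⟶ X` with `u ≫ v = N`, `v ≫ u = N`.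
-/

noncomputable section

set_option autoImplicit false
set_option linter.style.haveILetI false
set_option linter.unusedSectionVars false
set_option backward.isDefEq.respectTransparency false
set_option backward.isDefEq.respectTransparency.types false
set_option maxHeartbeats 1000000

universe u

open CategoryTheory CategoryTheory.Limits MonoidalCategory CartesianMonoidalCategory MonObj GrpObj AlgebraicGeometry
  TopologicalSpace

namespace Groth.Agent.TateIsog

open Groth.Agent

variable {k Ω : Type u} [Field k] [Field Ω] [Algebra k Ω] [IsAlgClosure k Ω]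

/-- A `k`-scheme finite over `k` has all its points under `Ω`-points. -/
theorem exists_pt_of_finite {T : Over (Spec (CommRingCat.of k))} [IsFinite T.hom] (t : T.left) :
    ∃ r : SGA7.pt (K := k) Ω ⟶ T, r.left (IsLocalRing.closedPoint Ω) = t := by
  haveI := ThetaLib.discreteTopology_of_isFinite T.left T.hom
  obtain ⟨p, hp, hpt⟩ := ((GalPts.closed_iff_and_galois k Ω T.hom).1 t).1 (isClosed_discrete _)
  exact ⟨Over.homMk p hp, hpt⟩

variable {X : Over (Spec (CommRingCat.of k))} [GrpObj X] [IsProper X.hom] [GeometricallyIntegral X.hom]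

/-- **The quotient by a Galois stable group of torsion points.** -/
theorem exists_quotient_pts [IsCommMonObj X] (N : ℕ) (hN : (N : k) ≠ 0)
    (K : Subgroup (SGA7.pt (K := k) Ω ⟶ X)) (hK : ∀ x ∈ K, x ^ N = 1)
    (hgal : ∀ (τ : Ω ≃ₐ[k] Ω), ∀ x ∈ K, SGA7.galAct τ x ∈ K) :
    ∃ (Y : Over (Spec (CommRingCat.of k))) (_ : GrpObj Y) (_ : IsCommMonObj Y) (u : X ⟶ Y) (_ : IsMonHom u)
      (v : Y ⟶ X) (_ : IsMonHom v),
      IsProper Y.hom ∧ GeometricallyIntegral Y.hom ∧ IsFinite u.left ∧ Surjective u.left ∧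
        u ≫ v = (𝟙 X) ^ N ∧ v ≫ u = (𝟙 Y) ^ N ∧ ∀ x : SGA7.pt (K := k) Ω ⟶ X, x ≫ u = 1 ↔ x ∈ K := by
  have hN1 : 1 ≤ N := Nat.pos_of_ne_zero fun h => hN (by rw [h, Nat.cast_zero])
  haveI : GeometricallyConnected X.hom := H23.CubeAb.geometricallyConnected_of_integral X.hom
  let φ : X ⟶ X := (𝟙 X) ^ N
  haveI : IsFinite φ.left := AVMulN.isFinite_pow N hN1
  haveI : GeometricallyReduced X.hom := inferInstance
  haveI : LocallyOfFinitePresentation X.hom := inferInstance
  haveI : Flat X.hom := AssLib.flat_over_field X.hom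
  haveI : Etale φ.left := H23.MulEtale.etale_pow (X := X) N (by
    have h : IsUnit ((N : k)) := IsUnit.mk0 _ hN
    have := h.map (Scheme.ΓSpecIso (CommRingCat.of k)).inv.hom
    rwa [map_natCast] at this)
  -- the torsion scheme
  let P := pullback φ η[X]
  let i : P ⟶ X := pullback.fst φ η[X]
  have sq : IsPullback i (pullback.snd φ η[X]) φ η[X] := IsPullback.of_hasPullback φ η[X]
  haveI : IsClosedImmersion η[X].left := by
    haveI : IsClosedImmersion (η[X].left ≫ X.hom) := by
      rw [Over.w η[X]]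
      exact inferInstanceAs (IsClosedImmersion (𝟙 _))
    exact IsClosedImmersion.of_comp η[X].left X.hom
  haveI : IsClosedImmersion i.left :=
    MorphismProperty.of_isPullback (P := @IsClosedImmersion) (sq.map (Over.forget _)).flip
      (inferInstanceAs (IsClosedImmersion η[X].left))
  haveI : IsFinite P.hom := by
    rw [← Over.w (pullback.snd φ η[X])]
    haveI : IsFinite (pullback.snd φ η[X]).left :=
      MorphismProperty.of_isPullback (P := @IsFinite) (sq.map (Over.forget _)) (inferInstanceAs (IsFinite φ.left))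
    exact inferInstanceAs (IsFinite ((pullback.snd φ η[X]).left ≫ 𝟙 _))
  haveI := ThetaLib.discreteTopology_of_isFinite P.left P.hom
  have hlift : ∀ {T : Over (Spec (CommRingCat.of k))} (z : T ⟶ X), z ^ N = 1 → ∃ z' : T ⟶ P, z' ≫ i = z :=
    fun {T} z hz => ⟨sq.lift z (toUnit T) (by
      show z ≫ ((𝟙 X) ^ N) = _
      rw [MonObj.comp_pow, Category.comp_id, hz]
      rfl), sq.lift_fst _ _ _⟩
  let supK : Set P.left := {x | ∃ p : SGA7.pt (K := k) Ω ⟶ P, p ≫ i ∈ K ∧ p.left (IsLocalRing.closedPoint Ω) = x}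
  let U : P.left.Opens := ⟨supK, isOpen_discrete _⟩
  let NK : Over (Spec (CommRingCat.of k)) := Over.mk (U.ι ≫ P.hom)
  let incU : NK ⟶ P := Over.homMk U.ι rfl
  let j : NK ⟶ X := incU ≫ i
  haveI : IsClosedImmersion U.ι :=
    IsClosedImmersion.of_isPreimmersion _ (isClosed_discrete _)
  haveI : IsClosedImmersion j.left := inferInstanceAs (IsClosedImmersion (U.ι ≫ i.left))
  haveI : IsFinite NK.hom := inferInstanceAs (IsFinite (U.ι ≫ P.hom))
  haveI : Mono j := Over.mono_of_mono_left j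
  -- factorisation through the subgroup
  have hfac : ∀ {T : Over (Spec (CommRingCat.of k))} (z : T ⟶ X), z ^ N = 1 →
      (∀ t : T.left, ∃ r : SGA7.pt (K := k) Ω ⟶ T, r.left (IsLocalRing.closedPoint Ω) = t ∧ r ≫ z ∈ K) →
      ∃ b : T ⟶ NK, b ≫ j = z := fun {T} z hz hr => by
    obtain ⟨z', hz'⟩ := hlift z hz
    have hrange : Set.range z'.left ⊆ Set.range U.ι := by
      rw [Scheme.Opens.range_ι]
      rintro _ ⟨t, rfl⟩
      obtain ⟨r, rfl, hrK⟩ := hr t
      exact ⟨r ≫ z', by rw [Category.assoc, hz']; exact hrK, rfl⟩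
    refine ⟨Over.homMk (IsOpenImmersion.lift U.ι z'.left hrange) ?_, ?_⟩
    · show _ ≫ U.ι ≫ P.hom = T.hom
      rw [← Category.assoc, IsOpenImmersion.lift_fac, Over.w z']
    · rw [← hz', ← Category.assoc]
      congr 1
      exact Over.OverMorphism.ext (IsOpenImmersion.lift_fac _ _ _)
  have hmem : ∀ r : SGA7.pt (K := k) Ω ⟶ NK, r ≫ j ∈ K := fun r => by
    obtain ⟨p, hp, hpx⟩ : U.ι (r.left (IsLocalRing.closedPoint Ω)) ∈ supK :=
      (r.left (IsLocalRing.closedPoint Ω)).2
    obtain ⟨σ, hσ⟩ := ((GalPts.closed_iff_and_galois k Ω P.hom).2 p.left (r ≫ incU).left (Over.w p)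
      (Over.w (r ≫ incU))).1 hpx
    have h : r ≫ incU = SGA7.specAut σ ≫ p := Over.OverMorphism.ext hσ
    show r ≫ incU ≫ i ∈ K
    rw [← Category.assoc, h, Category.assoc]
    exact hgal σ _ hp
  have hkN : ∀ {T : Over (Spec (CommRingCat.of k))} (b : T ⟶ NK), (b ≫ j) ^ N = 1 := fun {T} b => by
    have h := sq.w
    rw [show pullback.snd φ η[X] = toUnit P from toUnit_unique _ _] at h
    have h' : i ^ N = 1 := by
      rw [← Category.comp_id (i ^ N), MonObj.pow_comp, Category.comp_id, ← Category.comp_id i]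
      calc (i ≫ 𝟙 X) ^ N = i ≫ φ := (MonObj.comp_pow _ _ _).symm
        _ = 1 := h
    rw [show b ≫ j = (b ≫ incU) ≫ i from (Category.assoc _ _ _).symm, ← MonObj.comp_pow, h', MonObj.comp_one]
  -- the group structure
  haveI : IsFinite (NK ⊗ NK).hom := by
    show IsFinite (pullback.fst NK.hom NK.hom ≫ NK.hom)
    infer_instance
  obtain ⟨η', hη'⟩ := hfac (1 : 𝟙_ (Over (Spec (CommRingCat.of k))) ⟶ X) (one_pow _) fun t => by
    haveI : IsFinite (𝟙_ (Over (Spec (CommRingCat.of k)))).hom := inferInstanceAs (IsFinite (𝟙 _))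
    obtain ⟨r, hr⟩ := exists_pt_of_finite (Ω := Ω) t
    exact ⟨r, hr, by rw [MonObj.comp_one]; exact K.one_mem⟩
  obtain ⟨μ', hμ'⟩ := hfac ((fst NK NK ≫ j) * (snd NK NK ≫ j))
    (by rw [mul_pow, hkN, hkN, _root_.mul_one]) fun t => by
      obtain ⟨r, hr⟩ := exists_pt_of_finite (Ω := Ω) t
      refine ⟨r, hr, ?_⟩
      rw [MonObj.comp_mul, ← Category.assoc r (fst NK NK) j, ← Category.assoc r (snd NK NK) j]
      exact K.mul_mem (hmem _) (hmem _)
  obtain ⟨ι', hι'⟩ := hfac j⁻¹ (by
      have := hkN (𝟙 NK)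
      rw [Category.id_comp] at this
      rw [inv_pow, this, inv_one]) fun t => by
    obtain ⟨r, hr⟩ := exists_pt_of_finite (Ω := Ω) t
    exact ⟨r, hr, by rw [GrpObj.comp_inv]; exact K.inv_mem (hmem _)⟩
  obtain ⟨sN, hj⟩ := GrpSchLib.exists_grpObj_of_mono j η' (by
    rw [hη', Hom.one_def, toUnit_unique (toUnit _) (𝟙 _), Category.id_comp]) μ' hμ' ι' hι'
  letI := sN
  haveI := hj
  -- the quotient
  obtain ⟨Y, sY, u, hYp, hYg, hum, huf, hufl, hus, hju, huker⟩ := AVQuotLib.exists_quotient j N hN1 (by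
    rw [MonObj.comp_pow, Category.comp_id]
    simpa using hkN (𝟙 NK))
  haveI := hYp; haveI := hYg; haveI := hum; haveI := huf; haveI := hufl; haveI := hus
  haveI : IsCommMonObj Y := isCommMonObj_of_isProper_of_geometricallyIntegral Y
  haveI : QuasiCompact u.left := inferInstance
  have hcov : AVQuotLib.Cov u := ⟨inferInstance, inferInstance, inferInstance⟩
  obtain ⟨v, hv⟩ := hcov.exists_desc φ fun T a b hab => by
    obtain ⟨c, hc⟩ := huker T (a * b⁻¹) (by rw [MonObj.mul_comp, GrpObj.inv_comp, hab, mul_inv_cancel])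
    show a ≫ ((𝟙 X) ^ N) = b ≫ ((𝟙 X) ^ N)
    rw [MonObj.comp_pow, MonObj.comp_pow, Category.comp_id, Category.comp_id, ← mul_inv_eq_one, ← inv_pow,
      ← mul_pow, ← hc, hkN]
  have he1 : (η[X] : 𝟙_ _ ⟶ X) = 1 := by
    rw [Hom.one_def, toUnit_unique (toUnit _) (𝟙 _), Category.id_comp]
  haveI : IsMonHom v := GrpSchLib.RigidHom.isMonHom_of_one v (by
    rw [← IsMonHom.one_hom u, Category.assoc, hv]
    show η[X] ≫ ((𝟙 X) ^ N) = 1
    rw [MonObj.comp_pow, Category.comp_id, he1, one_pow])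
  haveI := hcov.epi
  refine ⟨Y, sY, inferInstance, u, hum, v, inferInstance, hYp, hYg, huf, hus, hv, ?_, fun x => ⟨fun hx => ?_, fun hx => ?_⟩⟩
  · rw [← cancel_epi u, ← Category.assoc, hv]
    show ((𝟙 X) ^ N) ≫ u = _
    rw [MonObj.pow_comp, Category.id_comp, MonObj.comp_pow, Category.comp_id]
  · obtain ⟨b, rfl⟩ := huker _ x hx
    exact hmem b
  · obtain ⟨z', hz'⟩ := hlift x (hK x hx)
    have hrange : Set.range z'.left ⊆ Set.range U.ι := by
      rw [Scheme.Opens.range_ι]
      rintro _ ⟨t, rfl⟩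
      refine ⟨z', by rw [hz']; exact hx, ?_⟩
      congr 1
      exact Subsingleton.elim (α := PrimeSpectrum Ω) _ _
    let b : SGA7.pt (K := k) Ω ⟶ NK := Over.homMk (IsOpenImmersion.lift U.ι z'.left hrange) (by
      show _ ≫ U.ι ≫ P.hom = _
      rw [← Category.assoc, IsOpenImmersion.lift_fac, Over.w z'])
    have hb : b ≫ j = x := by
      rw [← hz', show b ≫ j = (b ≫ incU) ≫ i from (Category.assoc _ _ _).symm]
      congr 1
      exact Over.OverMorphism.ext (IsOpenImmersion.lift_fac _ _ _)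
    rw [← hb, Category.assoc, hju, MonObj.comp_one]

/-- The image of the Tate module under `v`: the sequences whose `n`-th component is in the kernel of `u`. -/
theorem mem_range_tate {S : Scheme.{u}} {T : Over S} {A B : Over S} [GrpObj A] [IsCommMonObj A] [GrpObj B]
    [IsCommMonObj B] (l : ℕ) [Fact l.Prime] (n : ℕ) (u : A ⟶ B) [IsMonHom u] (v : B ⟶ A) [IsMonHom v]
    (huv : u ≫ v = (𝟙 A) ^ l ^ n) (hvu : v ≫ u = (𝟙 B) ^ l ^ n) (z : AbDual.TateMod A l T) :
    z ∈ LinearMap.range (AbDual.tateMapₗ (l := l) (T := T) v) ↔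
      (AbDual.TateMod.component A l T n z).toMul ≫ u = 1 := by
  let c : ∀ {C : Over S} [GrpObj C] [IsCommMonObj C], AbDual.TateMod C l T → ℕ → (T ⟶ C) :=
    fun {C} _ _ w m => ((w : ℕ → Additive (T ⟶ C)) m).toMul
  have htor : ∀ {C : Over S} [GrpObj C] [IsCommMonObj C] (w : AbDual.TateMod C l T) (m : ℕ), c w m ^ l ^ m = 1 :=
    fun w m => congrArg Additive.toMul (AbDual.TateMod.torsion w m)
  have hcompat : ∀ {C : Over S} [GrpObj C] [IsCommMonObj C] (w : AbDual.TateMod C l T) (m i : ℕ),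
      c w (m + i) ^ l ^ i = c w m := fun w m i => by
    induction i generalizing m with
    | zero => rw [pow_zero, pow_one, add_zero]
    | succ i ih =>
      rw [pow_succ', pow_mul, ← ih m]
      congr 1
      exact congrArg Additive.toMul (AbDual.TateMod.compat w (m + i))
  constructor
  · rintro ⟨w, rfl⟩
    show (c w n ≫ v) ≫ u = 1
    rw [Category.assoc, hvu, MonObj.comp_pow, Category.comp_id, htor]
  · intro hz
    have hz' : c z n ≫ u = 1 := hz
    let w : AbDual.TateMod B l T := ⟨fun m => Additive.ofMul (c z (m + n) ≫ u),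
      ⟨fun m => congrArg Additive.ofMul (show (c z (m + n) ≫ u) ^ l ^ m = 1 by
          rw [← MonObj.pow_comp, add_comm m n, hcompat, hz']),
       fun m => congrArg Additive.ofMul (show (c z (m + 1 + n) ≫ u) ^ l = c z (m + n) ≫ u by
          rw [← MonObj.pow_comp, show m + 1 + n = (m + n) + 1 by omega]
          congr 1
          exact congrArg Additive.toMul (AbDual.TateMod.compat z (m + n)))⟩⟩
    refine ⟨w, AbDual.TateMod.ext fun m => Additive.toMul.injective ?_⟩
    show (c z (m + n) ≫ u) ≫ v = c z m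
    rw [Category.assoc, huv, MonObj.comp_pow, Category.comp_id, hcompat]

end Groth.Agent.TateIsog
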