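import Groth.Agent.TateIsog.Limit
import Groth.Agent.TateIsog.QuotPts
import Groth.Agent.AVSubLib.DegDet
import Groth.Agent.AVHomForm.Rep
import Groth.Agent.S11684
import Groth.Agent.S15651
import Groth.Agent.AVCentLib.Rep0
import Groth.Prelude.Def_EndTate
import Mathlib.FieldTheory.Perfect
import Mathlib.RingTheory.TensorProduct.Maps

/-!
# Stable subspaces of the Tate module are images of endomorphisms

The generic part of Tate's argument: the algebra spanned by the endomorphisms, and the limit over a family of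
isogenies with finitely many targets.
-/

noncomputable section

set_option autoImplicit false
set_option linter.style.haveILetI false
set_option linter.unusedSectionVars false
set_option backward.isDefEq.respectTransparency false
set_option backward.isDefEq.respectTransparency.types false
set_option maxHeartbeats 1000000
set_option synthInstance.maxHeartbeats 200000

universe u

open CategoryTheory CategoryTheory.Limits MonoidalCategory CartesianMonoidalCategory MonObj GrpObj AlgebraicGeometry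
open scoped TensorProduct

namespace Groth.Agent.TateIsog

open Groth.Agent

/-- A central element of a semisimple ring with zero square is zero. -/
theorem eq_zero_of_central_sq {R : Type*} [Ring R] [IsSemisimpleRing R] {x : R} (hx : ∀ r, Commute x r)
    (h : x * x = 0) : x = 0 := by
  obtain ⟨u, r, hu, hux⟩ := exists_right_generator (fun _ : Unit => x)
  have hu' : u = x * r () := by simpa using hu
  rw [← hux (), hu', _root_.mul_assoc, ← (hx (r ())).eq, ← _root_.mul_assoc, h, zero_mul]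

/-- The centre of a semisimple algebra over a perfect field is separable. -/
theorem isSeparable_center (K : Type*) [Field K] [PerfectField K] (R : Type*) [Ring R] [Algebra K R]
    [FiniteDimensional K R] [IsSemisimpleRing R] : Algebra.IsSeparable K (Subalgebra.center K R) := by
  refine ⟨fun x => ?_⟩
  haveI : Algebra.IsIntegral K (Subalgebra.center K R) := Algebra.IsIntegral.of_finite _ _
  have hint : IsIntegral K x := Algebra.IsIntegral.isIntegral x
  refine PerfectField.separable_iff_squarefree.2 fun d ⟨b, hb⟩ => ?_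
  have hne := minpoly.ne_zero hint
  have hd0 : d ≠ 0 := fun h => hne (by rw [hb, h, zero_mul, zero_mul])
  have hb0 : b ≠ 0 := fun h => hne (by rw [hb, h, mul_zero])
  have hz : Polynomial.aeval x (d * b) = 0 := by
    refine Subtype.ext (eq_zero_of_central_sq (fun r => ?_) ?_)
    · exact ((Subalgebra.mem_center_iff.1 (Polynomial.aeval x (d * b)).2) r).symm
    · have h2 : Polynomial.aeval x (d * b) * Polynomial.aeval x (d * b) = 0 := by
        rw [← map_mul, show d * b * (d * b) = minpoly K x * b by rw [hb]; ring, map_mul, minpoly.aeval, zero_mul]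
      exact congrArg Subtype.val h2
  have hle := Polynomial.natDegree_le_natDegree (minpoly.degree_le_of_ne_zero K x (mul_ne_zero hd0 hb0) hz)
  rw [hb, Polynomial.natDegree_mul (mul_ne_zero hd0 hd0) hb0, Polynomial.natDegree_mul hd0 hd0,
    Polynomial.natDegree_mul hd0 hb0] at hle
  exact Polynomial.isUnit_iff_degree_eq_zero.2
    ((Polynomial.degree_eq_natDegree hd0).trans (by norm_cast; omega))

variable {k Ω : Type u} [Field k] [Field Ω] [Algebra k Ω] [IsAlgClosure k Ω] (l : ℕ) [Fact l.Prime]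

local notation "pΩ" => SGA7.pt (K := k) Ω

section Alg

variable (X : Over (Spec (CommRingCat.of k))) [GrpObj X] [IsCommMonObj X]

/-- The endomorphisms of the Tate space induced by endomorphisms. -/
def endSet : Set (Module.End ℚ_[l] (ℚ_[l] ⊗[ℤ_[l]] AbDual.TateMod X l pΩ)) :=
  {ψ | ∃ (f : X ⟶ X) (_ : IsMonHom f), ψ = (AbDual.tateMapₗ (l := l) (T := pΩ) f).baseChange ℚ_[l]}

/-- The span of the endomorphisms in the integral Tate module. -/
def endSpan : Submodule ℤ_[l] (Module.End ℤ_[l] (AbDual.TateMod X l pΩ)) :=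
  Submodule.span ℤ_[l] {ψ | ∃ (f : X ⟶ X) (_ : IsMonHom f), ψ = AbDual.tateMapₗ (l := l) (T := pΩ) f}

theorem baseChange_mem_span {e : Module.End ℤ_[l] (AbDual.TateMod X l pΩ)} (he : e ∈ endSpan (Ω := Ω) l X) :
    e.baseChange ℚ_[l] ∈ Submodule.span ℚ_[l] (endSet (Ω := Ω) l X) := by
  induction he using Submodule.span_induction with
  | mem ψ hψ =>
    obtain ⟨f, hf, rfl⟩ := hψ
    exact Submodule.subset_span ⟨f, hf, rfl⟩
  | zero => simp
  | add a b _ _ ha hb => rw [LinearMap.baseChange_add]; exact add_mem ha hb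
  | smul c a _ ha =>
    rw [LinearMap.baseChange_smul, ← algebraMap_smul ℚ_[l] c]
    exact Submodule.smul_mem _ _ ha

/-- The algebra spanned by the endomorphisms. -/
def endSub : Subalgebra ℚ_[l] (Module.End ℚ_[l] (ℚ_[l] ⊗[ℤ_[l]] AbDual.TateMod X l pΩ)) :=
  Algebra.adjoin ℚ_[l] (endSet (Ω := Ω) l X)

theorem mem_endSub {ψ : Module.End ℚ_[l] (ℚ_[l] ⊗[ℤ_[l]] AbDual.TateMod X l pΩ)} :
    ψ ∈ endSub (Ω := Ω) l X ↔ ψ ∈ Submodule.span ℚ_[l] (endSet (Ω := Ω) l X) := by
  let M : Submonoid (Module.End ℚ_[l] (ℚ_[l] ⊗[ℤ_[l]] AbDual.TateMod X l pΩ)) :=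
    { carrier := endSet (Ω := Ω) l X
      one_mem' := by
        refine ⟨(1 : EndAV.End X).toHom, inferInstance, ?_⟩
        show _ = ((Module.End.baseChangeHom ℤ_[l] ℚ_[l] (AbDual.TateMod X l pΩ)) (EndAV.End.tateRep l pΩ 1))
        rw [map_one, map_one]
      mul_mem' := by
        rintro _ _ ⟨f, hf, rfl⟩ ⟨f', hf', rfl⟩
        refine ⟨(EndAV.End.of f * EndAV.End.of f').toHom, inferInstance, ?_⟩
        show _ = ((Module.End.baseChangeHom ℤ_[l] ℚ_[l] (AbDual.TateMod X l pΩ))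
          (EndAV.End.tateRep l pΩ (EndAV.End.of f * EndAV.End.of f')))
        rw [map_mul, map_mul]
        rfl }
  rw [← Subalgebra.mem_toSubmodule, endSub, Algebra.adjoin_eq_span,
    show Submonoid.closure (endSet (Ω := Ω) l X) = M from Submonoid.closure_eq M]
  exact Iff.rfl

theorem isSemisimpleRing_endSub [IsProper X.hom] [GeometricallyIntegral X.hom] :
    IsSemisimpleRing (endSub (Ω := Ω) l X) := by
  haveI : Module.Finite ℤ (EndAV.End X) := AVHomForm.moduleFinite_hom (A := X) (B := X)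
  haveI : Module.Finite ℚ (EndAV.End0 X) := Module.Finite.base_change ℤ ℚ (EndAV.End X)
  haveI : IsSemisimpleRing (EndAV.End0 X) := S15651.result k X
  haveI := isSeparable_center ℚ (EndAV.End0 X)
  haveI : IsSemisimpleRing (ℚ_[l] ⊗[ℚ] EndAV.End0 X) := S11684.result ℚ (EndAV.End0 X) ℚ_[l]
  let V := ℚ_[l] ⊗[ℤ_[l]] AbDual.TateMod X l pΩ
  letI : Algebra ℚ (Module.End ℚ_[l] V) :=
    ((algebraMap ℚ_[l] (Module.End ℚ_[l] V)).comp (algebraMap ℚ ℚ_[l])).toAlgebra' fun a x =>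
      Algebra.commutes (algebraMap ℚ ℚ_[l] a) x
  haveI : IsScalarTower ℚ ℚ_[l] (Module.End ℚ_[l] V) := IsScalarTower.of_algebraMap_eq fun a => rfl
  let ψ : EndAV.End0 X →ₐ[ℚ] Module.End ℚ_[l] V :=
    { AVCentLib.rep0 X l pΩ ℚ_[l] with
      commutes' := fun a => RingHom.congr_fun (Subsingleton.elim
        ((AVCentLib.rep0 X l pΩ ℚ_[l]).comp (algebraMap ℚ (EndAV.End0 X))) (algebraMap ℚ _)) a }
  let χ : ℚ_[l] ⊗[ℚ] EndAV.End0 X →ₐ[ℚ_[l]] Module.End ℚ_[l] V :=
    Algebra.TensorProduct.lift (Algebra.ofId ℚ_[l] _) ψ fun a x => Algebra.commute_algebraMap_left a (ψ x)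
  have hψ : ∀ φ : EndAV.End X, ψ (EndAV.toEnd0 φ) = (AbDual.tateMapₗ (l := l) (T := pΩ) φ.toHom).baseChange ℚ_[l] :=
    fun φ => AVCentLib.rep0_toEnd0 X l pΩ ℚ_[l] φ
  have hrange : χ.range = endSub (Ω := Ω) l X := by
    refine le_antisymm ?_ (Algebra.adjoin_le ?_)
    · rintro _ ⟨x, rfl⟩
      show χ x ∈ endSub (Ω := Ω) l X
      induction x using TensorProduct.induction_on with
      | zero => rw [map_zero]; exact zero_mem _
      | add x y hx hy => rw [map_add]; exact add_mem hx hy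
      | tmul a x =>
        obtain ⟨q, φ, hq⟩ := AVSimpleLib.exists_toEnd0 x
        rw [Algebra.TensorProduct.lift_tmul, hq, map_smul, hψ, ← algebraMap_smul ℚ_[l] q]
        exact mul_mem (Subalgebra.algebraMap_mem _ a) (Subalgebra.smul_mem _
          (Algebra.subset_adjoin (show (AbDual.tateMapₗ (l := l) (T := pΩ) φ.toHom).baseChange ℚ_[l] ∈ endSet (Ω := Ω) l X
            from ⟨φ.toHom, inferInstance, rfl⟩)) _)
    · rintro _ ⟨f, hf, rfl⟩
      refine ⟨1 ⊗ₜ EndAV.toEnd0 (EndAV.End.of f), ?_⟩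
      show χ (1 ⊗ₜ EndAV.toEnd0 (EndAV.End.of f)) = _
      rw [Algebra.TensorProduct.lift_tmul, map_one, _root_.one_mul, hψ]
      rfl
  rw [← hrange]
  let fr : (ℚ_[l] ⊗[ℚ] EndAV.End0 X) →+* ↥χ.range := AlgHom.toRingHom (χ.rangeRestrict)
  have hfr : Function.Surjective fr := fun y => AlgHom.rangeRestrict_surjective χ y
  exact RingHom.isSemisimpleRing_of_surjective (R := ℚ_[l] ⊗[ℚ] EndAV.End0 X) fr hfr

/-- An element of the integral span commutes with the Galois action. -/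
theorem commute_galois (ρ : (Ω ≃ₐ[k] Ω) → Module.End ℤ_[l] (AbDual.TateMod X l pΩ))
    (hρ : ∀ (τ : Ω ≃ₐ[k] Ω) (z : AbDual.TateMod X l pΩ) (m : ℕ),
      (AbDual.TateMod.component X l pΩ m (ρ τ z)).toMul =
        SGA7.galAct τ (AbDual.TateMod.component X l pΩ m z).toMul)
    (r : endSub (Ω := Ω) l X) (τ : Ω ≃ₐ[k] Ω) :
    Commute (r : Module.End ℚ_[l] (ℚ_[l] ⊗[ℤ_[l]] AbDual.TateMod X l pΩ)) ((ρ τ).baseChange ℚ_[l]) := by
  obtain ⟨r, hr⟩ := r
  have h := (mem_endSub l X).1 hr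
  show Commute r _
  clear hr
  induction h using Submodule.span_induction with
  | mem ψ hψ =>
    obtain ⟨f, hf, rfl⟩ := hψ
    show _ * _ = _ * _
    rw [Module.End.mul_eq_comp, Module.End.mul_eq_comp, ← LinearMap.baseChange_comp, ← LinearMap.baseChange_comp]
    congr 1
    refine LinearMap.ext fun z => AbDual.TateMod.ext fun m => Additive.toMul.injective ?_
    show (AbDual.TateMod.component X l pΩ m (ρ τ z)).toMul ≫ f =
      (AbDual.TateMod.component X l pΩ m (ρ τ (AbDual.tateMapₗ f z))).toMul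
    rw [hρ, hρ]
    exact Category.assoc _ _ _
  | zero => exact Commute.zero_left _
  | add a b _ _ ha hb => exact ha.add_left hb
  | smul c a _ ha => exact ha.smul_left c

end Alg

section Tower

variable (X : Over (Spec (CommRingCat.of k))) [GrpObj X] [IsCommMonObj X] [IsProper X.hom]
  [GeometricallyIntegral X.hom]

/-- The integral part of a subspace. -/
def intPart (W : Submodule ℚ_[l] (ℚ_[l] ⊗[ℤ_[l]] AbDual.TateMod X l pΩ)) :
    Submodule ℤ_[l] (AbDual.TateMod X l pΩ) :=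
  (W.restrictScalars ℤ_[l]).comap (TensorProduct.mk ℤ_[l] ℚ_[l] (AbDual.TateMod X l pΩ) 1)

theorem mem_intPart {W : Submodule ℚ_[l] (ℚ_[l] ⊗[ℤ_[l]] AbDual.TateMod X l pΩ)} {t : AbDual.TateMod X l pΩ} :
    t ∈ intPart (Ω := Ω) l X W ↔ (1 : ℚ_[l]) ⊗ₜ t ∈ W := Iff.rfl

/-- **The quotients attached to a stable subspace.** -/
theorem exists_level (hl : (l : k) ≠ 0) (ρ : (Ω ≃ₐ[k] Ω) → Module.End ℤ_[l] (AbDual.TateMod X l pΩ))
    (hρ : ∀ (τ : Ω ≃ₐ[k] Ω) (z : AbDual.TateMod X l pΩ) (m : ℕ),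
      (AbDual.TateMod.component X l pΩ m (ρ τ z)).toMul =
        SGA7.galAct τ (AbDual.TateMod.component X l pΩ m z).toMul)
    (W : Submodule ℚ_[l] (ℚ_[l] ⊗[ℤ_[l]] AbDual.TateMod X l pΩ))
    (hW : ∀ τ : Ω ≃ₐ[k] Ω, W.map ((ρ τ).baseChange ℚ_[l]) ≤ W) (n : ℕ) :
    ∃ (Y : Over (Spec (CommRingCat.of k))) (_ : GrpObj Y) (_ : IsCommMonObj Y) (u : X ⟶ Y) (_ : IsMonHom u)
      (v : Y ⟶ X) (_ : IsMonHom v),
      IsProper Y.hom ∧ GeometricallyIntegral Y.hom ∧ IsFinite u.left ∧ Surjective u.left ∧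
        u ≫ v = (𝟙 X) ^ l ^ n ∧ v ≫ u = (𝟙 Y) ^ l ^ n ∧
        ∀ z : AbDual.TateMod X l pΩ, z ∈ LinearMap.range (AbDual.tateMapₗ (l := l) (T := pΩ) v) ↔
          ∃ w ∈ intPart (Ω := Ω) l X W, ∃ t : AbDual.TateMod X l pΩ, z = w + ((l : ℤ_[l]) ^ n) • t := by
  let cn : AbDual.TateMod X l pΩ →+ Additive (pΩ ⟶ X) := AbDual.TateMod.component X l pΩ n
  let K : Subgroup (pΩ ⟶ X) :=
    { carrier := {x | ∃ w ∈ intPart (Ω := Ω) l X W, (cn w).toMul = x}
      one_mem' := ⟨0, zero_mem _, by rw [map_zero]; rfl⟩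
      mul_mem' := by
        rintro _ _ ⟨a, ha, rfl⟩ ⟨b, hb, rfl⟩
        exact ⟨a + b, add_mem ha hb, by rw [map_add]; rfl⟩
      inv_mem' := by
        rintro _ ⟨a, ha, rfl⟩
        exact ⟨-a, neg_mem ha, by rw [map_neg]; rfl⟩ }
  obtain ⟨Y, sY, cY, u, hu, v, hv, hYp, hYg, huf, hus, huv, hvu, hker⟩ :=
    exists_quotient_pts (Ω := Ω) (X := X) (l ^ n) (by rw [Nat.cast_pow]; exact pow_ne_zero n hl) K
      (by rintro _ ⟨w, -, rfl⟩; exact AbDual.TateMod.component_mem w n)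
      (by
        rintro τ _ ⟨w, hw, rfl⟩
        refine ⟨ρ τ w, ?_, hρ τ w n⟩
        rw [mem_intPart] at hw ⊢
        exact hW τ ⟨_, hw, LinearMap.baseChange_tmul _ _ _⟩)
  refine ⟨Y, sY, cY, u, hu, v, hv, hYp, hYg, huf, hus, huv, hvu, fun z => ?_⟩
  rw [mem_range_tate l n u v huv hvu, hker]
  constructor
  · rintro ⟨w, hw, hwz⟩
    refine ⟨w, hw, ?_⟩
    have h0 : ((z - w : AbDual.TateMod X l pΩ) : ℕ → Additive (pΩ ⟶ X)) n = 0 := by
      show cn (z - w) = 0
      rw [map_sub, sub_eq_zero]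
      exact (Additive.toMul.injective hwz).symm
    let d : AbDual.TateMod X l pΩ := z - w
    have hcompat : ∀ m i : ℕ, (l ^ i) • (d : ℕ → Additive (pΩ ⟶ X)) (m + i) = (d : ℕ → Additive (pΩ ⟶ X)) m := by
      intro m i
      induction i generalizing m with
      | zero => rw [pow_zero, one_nsmul, add_zero]
      | succ i ih => rw [pow_succ, mul_nsmul', ← add_assoc, AbDual.TateMod.compat d (m + i), ih]
    let t : AbDual.TateMod X l pΩ := ⟨fun m => (d : ℕ → Additive (pΩ ⟶ X)) (m + n),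
      ⟨fun m => by
        show (l ^ m) • (d : ℕ → Additive (pΩ ⟶ X)) (m + n) = 0
        rw [show m + n = n + m by omega, hcompat]
        exact h0,
       fun m => by
        show l • (d : ℕ → Additive (pΩ ⟶ X)) (m + 1 + n) = (d : ℕ → Additive (pΩ ⟶ X)) (m + n)
        rw [show m + 1 + n = m + n + 1 by omega]
        exact AbDual.TateMod.compat d (m + n)⟩⟩
    refine ⟨t, ?_⟩
    rw [← sub_eq_iff_eq_add']
    refine AbDual.TateMod.ext fun m => ?_
    show _ = ((((l : ℤ_[l]) ^ n) • t : AbDual.TateMod X l pΩ) : ℕ → Additive (pΩ ⟶ X)) m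
    rw [← Nat.cast_pow, Nat.cast_smul_eq_nsmul]
    show _ = (l ^ n) • (d : ℕ → Additive (pΩ ⟶ X)) (m + n)
    rw [hcompat]
  · rintro ⟨w, hw, t, rfl⟩
    refine ⟨w, hw, congrArg Additive.toMul ?_⟩
    show cn w = cn (w + ((l : ℤ_[l]) ^ n) • t)
    rw [map_add, ← Nat.cast_pow, Nat.cast_smul_eq_nsmul, map_nsmul,
      show (l ^ n) • cn t = 0 from AbDual.TateMod.torsion t n, add_zero]

/-- **The limit.** Tuples of endomorphisms approximating the levels of a stable subspace give an element with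
that image. -/
theorem exists_range_eq (hl : (l : k) ≠ 0) (W : Submodule ℚ_[l] (ℚ_[l] ⊗[ℤ_[l]] AbDual.TateMod X l pΩ))
    {J : Type*} [Fintype J] (c : ℕ)
    (h : ∀ N : ℕ, ∃ n ≥ N, ∃ e : J → Module.End ℤ_[l] (AbDual.TateMod X l pΩ),
      (∀ j, e j ∈ endSpan (Ω := Ω) l X) ∧
      (∀ j x, ∃ w ∈ intPart (Ω := Ω) l X W, ∃ t, e j x = w + ((l : ℤ_[l]) ^ n) • t) ∧
      ∀ w ∈ intPart (Ω := Ω) l X W, ∃ (x : J → AbDual.TateMod X l pΩ) (t : AbDual.TateMod X l pΩ),
        ∑ j, e j (x j) = ((l : ℤ_[l]) ^ c) • w + ((l : ℤ_[l]) ^ n) • t) :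
    ∃ u ∈ Submodule.span ℚ_[l] (endSet (Ω := Ω) l X), LinearMap.range u = W := by
  classical
  haveI := IsAlgClosure.isAlgClosed k (K := Ω)
  obtain ⟨g, hg⟩ := TorsPtsLib.exists_dim X
  obtain ⟨hfree, hfin, -⟩ := AVHomForm.tate_free Ω l hl X hg
  haveI := hfree; haveI := hfin
  haveI : Module.Finite ℤ_[l] (endSpan (Ω := Ω) l X) := Module.Finite.of_fg (IsNoetherian.noetherian _)
  haveI := isSemisimpleRing_endSub (Ω := Ω) l X
  obtain ⟨e, he, hle, hge⟩ := exists_limit l (endSpan (Ω := Ω) l X) (intPart (Ω := Ω) l X W) c h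
  let eQ : J → endSub (Ω := Ω) l X := fun j =>
    ⟨(e j).baseChange ℚ_[l], (mem_endSub l X).2 (baseChange_mem_span l X (he j))⟩
  obtain ⟨u, r, hu, hue⟩ := exists_right_generator eQ
  refine ⟨u, (mem_endSub l X).1 u.2, le_antisymm ?_ fun v hv => ?_⟩
  · rintro _ ⟨v, rfl⟩
    have huv : (u : Module.End ℚ_[l] (ℚ_[l] ⊗[ℤ_[l]] AbDual.TateMod X l pΩ)) =
        ∑ j, ((e j).baseChange ℚ_[l]) * (r j : Module.End ℚ_[l] (ℚ_[l] ⊗[ℤ_[l]] AbDual.TateMod X l pΩ)) := by
      rw [hu, AddSubmonoidClass.coe_finsetSum]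
      rfl
    rw [huv, LinearMap.sum_apply]
    refine sum_mem fun j _ => ?_
    show (e j).baseChange ℚ_[l] _ ∈ W
    generalize (r j : Module.End ℚ_[l] (ℚ_[l] ⊗[ℤ_[l]] AbDual.TateMod X l pΩ)) v = y
    induction y using TensorProduct.induction_on with
    | zero => rw [map_zero]; exact zero_mem _
    | tmul q x =>
      rw [LinearMap.baseChange_tmul, show q ⊗ₜ[ℤ_[l]] (e j x) = q • ((1 : ℚ_[l]) ⊗ₜ[ℤ_[l]] e j x) by
        rw [TensorProduct.smul_tmul', smul_eq_mul, _root_.mul_one]]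
      exact W.smul_mem q (hle j x)
    | add a b ha hb => rw [map_add]; exact add_mem ha hb
  · obtain ⟨s, t, ht⟩ := exists_pow_smul_mem l v
    have htW : t ∈ intPart (Ω := Ω) l X W := by
      rw [mem_intPart, ← ht]
      exact W.smul_mem _ hv
    obtain ⟨x, hx⟩ := hge t htW
    have hx' : ∑ j, (e j).baseChange ℚ_[l] ((1 : ℚ_[l]) ⊗ₜ x j) = ((l : ℚ_[l]) ^ (c + s)) • v := by
      simp only [LinearMap.baseChange_tmul, ← TensorProduct.tmul_sum, hx]
      rw [pow_add, mul_smul, ht, TensorProduct.tmul_smul, ← algebraMap_smul ℚ_[l] ((l : ℤ_[l]) ^ c), map_pow,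
        map_natCast]
    have hmem : ((l : ℚ_[l]) ^ (c + s)) • v ∈
        LinearMap.range (u : Module.End ℚ_[l] (ℚ_[l] ⊗[ℤ_[l]] AbDual.TateMod X l pΩ)) := by
      rw [← hx']
      refine sum_mem fun j _ => ⟨(e j).baseChange ℚ_[l] ((1 : ℚ_[l]) ⊗ₜ x j), ?_⟩
      exact LinearMap.congr_fun (congrArg Subtype.val (hue j)) _
    have hne : ((l : ℚ_[l]) ^ (c + s)) ≠ 0 :=
      pow_ne_zero _ (Nat.cast_ne_zero.2 (Fact.out : l.Prime).ne_zero)
    simpa [smul_smul, inv_mul_cancel₀ hne] using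
      Submodule.smul_mem (LinearMap.range (u : Module.End ℚ_[l] (ℚ_[l] ⊗[ℤ_[l]] AbDual.TateMod X l pΩ)))
        (((l : ℚ_[l]) ^ (c + s))⁻¹) hmem

end Tower

section Isom

/-- Abelian varieties isomorphic as schemes over the field are isomorphic as groups. -/
theorem exists_groupIso {A B : Over (Spec (CommRingCat.of k))} [GrpObj A] [IsProper A.hom]
    [GeometricallyIntegral A.hom] [GrpObj B] [IsProper B.hom] (φ : A ≅ B) :
    ∃ (ψ : A ⟶ B) (χ : B ⟶ A), IsMonHom ψ ∧ ψ ≫ χ = 𝟙 A ∧ χ ≫ ψ = 𝟙 B := by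
  let b : 𝟙_ (Over (Spec (CommRingCat.of k))) ⟶ B := η[A] ≫ φ.hom
  let t : B ⟶ B := 𝟙 B * (toUnit B ≫ b)⁻¹
  let t' : B ⟶ B := 𝟙 B * (toUnit B ≫ b)
  have hconst : ∀ (f : B ⟶ B), f ≫ toUnit B ≫ b = toUnit B ≫ b := fun f => by
    rw [← Category.assoc, toUnit_unique (f ≫ toUnit B) (toUnit B)]
  have htt : t ≫ t' = 𝟙 B := by
    show t ≫ (𝟙 B * (toUnit B ≫ b)) = _
    rw [MonObj.comp_mul, Category.comp_id, hconst, inv_mul_cancel_right]
  have htt' : t' ≫ t = 𝟙 B := by
    show t' ≫ (𝟙 B * (toUnit B ≫ b)⁻¹) = _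
    rw [MonObj.comp_mul, Category.comp_id, GrpObj.comp_inv, hconst, mul_inv_cancel_right]
  refine ⟨φ.hom ≫ t, t' ≫ φ.inv, GrpSchLib.RigidHom.isMonHom_of_one _ ?_, ?_, ?_⟩
  · show η[A] ≫ φ.hom ≫ (𝟙 B * (toUnit B ≫ b)⁻¹) = 1
    rw [← Category.assoc, MonObj.comp_mul, Category.comp_id, GrpObj.comp_inv, ← Category.assoc,
      toUnit_unique ((η[A] ≫ φ.hom) ≫ toUnit B) (𝟙 _), Category.id_comp]
    exact mul_inv_cancel b
  · rw [Category.assoc, ← Category.assoc t, htt, Category.id_comp, Iso.hom_inv_id]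
  · rw [Category.assoc, ← Category.assoc φ.inv, Iso.inv_hom_id, Category.id_comp, htt']

/-- A function from the natural numbers to a finite type takes some value arbitrarily far. -/
theorem exists_frequent {J : Type*} [Finite J] (i : ℕ → J) : ∃ n₀, ∀ N, ∃ n ≥ N, i n = i n₀ := by
  obtain ⟨j, hj⟩ := Finite.exists_infinite_fiber i
  have hj' : (i ⁻¹' {j}).Infinite := Set.infinite_coe_iff.1 hj
  obtain ⟨n₀, hn₀⟩ := hj'.nonempty
  exact ⟨n₀, fun N => by
    obtain ⟨n, hn, hnN⟩ := hj'.exists_gt N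
    exact ⟨n, hnN.le, (hn : i n = j).trans (hn₀ : i n₀ = j).symm⟩⟩

end Isom

end Groth.Agent.TateIsog
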