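import Groth.Agent.TateIsog.Geometry
import Mathlib.GroupTheory.CosetCover
import Mathlib.Topology.NoetherianSpace
import Mathlib.Topology.KrullDimension

/-!
# Cutting down the dimension with sections
-/

noncomputable section

set_option linter.style.haveILetI false
set_option linter.unusedSectionVars false
set_option backward.isDefEq.respectTransparency false
set_option backward.isDefEq.respectTransparency.types false
set_option maxHeartbeats 1000000
set_option autoImplicit false

universe u

open CategoryTheory CategoryTheory.Limits AlgebraicGeometry TopologicalSpace Opposite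

namespace Groth.Agent.TateIsog

open Groth.Agent Groth.Agent.AVDegLib Groth.Agent.InvX Groth.Agent.H23

variable {k : Type u} [Field k] {A : Over (Spec (CommRingCat.of k))} [IsIntegral A.left]
  {L : A.left.Modules}

/-- Over an infinite field some section is invertible at each of finitely many points, if for each point there is one. -/
theorem exists_avoid [Infinite k] (β : GenFrame L) (hL : PicF.IsInvertible L) (n : ℕ) (F : Finset A.left)
    (hF : ∀ y ∈ F, ∃ t : Γ(CohB1.tensorPow L n, ⊤), y ∈ TrivBasic.locus t) :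
    ∃ t : Γ(CohB1.tensorPow L n, ⊤), ∀ y ∈ F, y ∈ TrivBasic.locus t := by
  classical
  choose U hyU e he using fun y : A.left => InvX.exists_frame hL y
  have hη : ∀ y, genericPoint A.left ∈ U y := fun y => eta_mem A (hyU y)
  let r := fun (y : A.left) (f : W β n) (a : Γ(A.left, U y)) => gm _ (hη y) a * rho β (hη y) (e y) ^ n = f.1
  have hr : ∀ (y : A.left) (t : Γ(CohB1.tensorPow L n, ⊤)) (a : Γ(A.left, U y)), AModX.res _ (le_top : U y ≤ ⊤) t = a • AmpleX.powElt (e y) n →
      r y ⟨rho (powFrame β n) (U := ⊤) trivial t, rho_mem_W β n t⟩ a := by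
    intro y t a ha
    have h := congrArg (rho (powFrame β n) (hη y)) ha
    rw [rho_res, rho_smul, rho_pow] at h
    exact h.symm
  have hloc : ∀ (y : A.left) (t : Γ(CohB1.tensorPow L n, ⊤)) (a : Γ(A.left, U y)), AModX.res _ (le_top : U y ≤ ⊤) t = a • AmpleX.powElt (e y) n →
      (y ∈ TrivBasic.locus t ↔ y ∈ A.left.basicOpen a) := by
    intro y t a ha
    have hb := TrivBasic.locus_eq_basicOpen (AmpleX.isFrame_powElt (he y) n) ha
    rw [← hb]
    exact ⟨fun h => ⟨h, hyU y⟩, fun h => h.1⟩
  let P : A.left → Submodule k (W β n) := fun y =>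
    { carrier := {f | ∃ a, r y f a ∧ y ∉ A.left.basicOpen a}
      add_mem' := by
        rintro f f' ⟨a, ha, hya⟩ ⟨b, hb, hyb⟩
        refine ⟨a + b, ?_, ?_⟩
        · show gm _ _ (a + b) * _ = _
          rw [map_add, add_mul, ha, hb]; rfl
        · rw [Scheme.mem_basicOpen _ _ y (hyU y), map_add] at *
          exact IsLocalRing.nonunits_add hya hyb
      zero_mem' := ⟨0, by show gm _ _ 0 * _ = _; rw [map_zero, zero_mul]; rfl, by
        rw [Scheme.mem_basicOpen _ _ y (hyU y), map_zero]; exact not_isUnit_zero⟩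
      smul_mem' := by
        rintro c f ⟨a, ha, hya⟩
        refine ⟨A.left.presheaf.map (homOfLE le_top).op
          (((Scheme.ΓSpecIso (CommRingCat.of k)).inv ≫ A.hom.appTop) c) * a, ?_, ?_⟩
        · show gm _ _ _ * _ = _
          rw [map_mul, mul_assoc, ha]
          refine (congrArg (· * f.1) (gm_res le_top (hη y) _)).trans ?_
          show _ = (c • f.1 : A.left.functionField)
          rw [Algebra.smul_def]
          rfl
        · rw [Scheme.mem_basicOpen _ _ y (hyU y), map_mul] at *
          exact fun h => hya (isUnit_of_mul_isUnit_right h) }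
  have hne : ∀ y : F, P y.1 ≠ ⊤ := fun y h => by
    obtain ⟨t, ht⟩ := hF y.1 y.2
    obtain ⟨a, ha⟩ := (AmpleX.isFrame_powElt (he y.1) n).exists_coord le_rfl (AModX.res _ le_top t)
    rw [AModX.res_self] at ha
    obtain ⟨b, hb, hyb⟩ := (h ▸ Submodule.mem_top :
      (⟨rho (powFrame β n) (U := ⊤) trivial t, rho_mem_W β n t⟩ : W β n) ∈ P y.1)
    have hab : b = a := gm_injective _ (hη y.1)
      (mul_right_cancel₀ (pow_ne_zero _ (rho_ne_zero β (hη y.1) (he y.1))) (hb.trans (hr _ _ _ ha).symm))
    exact hyb (hab ▸ (hloc _ _ _ ha).1 ht)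
  obtain ⟨f, hf⟩ : ∃ f : W β n, ∀ y : F, f ∉ P y.1 := by
    by_contra h
    push_neg at h
    obtain ⟨y, hy⟩ := Subspace.exists_eq_top_of_iUnion_eq_univ (p := fun y : F => P y.1)
      (Set.eq_univ_of_forall fun f => Set.mem_iUnion.2 (h f))
    exact hne y hy
  obtain ⟨t, ht⟩ := exists_section_of_mem_W β hL f.2
  refine ⟨t, fun y hy => ?_⟩
  obtain ⟨a, ha⟩ := (AmpleX.isFrame_powElt (he y) n).exists_coord le_rfl (AModX.res _ le_top t)
  rw [AModX.res_self] at ha
  rw [hloc _ _ _ ha]
  by_contra h
  exact hf ⟨y, hy⟩ ⟨a, (hr _ _ _ ha).trans ht, h⟩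

/-- The order of a point in the poset of irreducible closed sets. -/
def codimPt (x : A.left) : ℕ∞ :=
  Order.coheight (⟨closure {x}, isIrreducible_singleton.closure, isClosed_closure⟩ : IrreducibleCloseds A.left)

/-- **Cutting.** On a space of dimension `g`, the square of a nonzero section and `g` further sections have no
common zero when the square is generated by its sections. -/
theorem exists_cut [Infinite k] [IsProper A.hom] (hL : PicF.IsInvertible L) (β : GenFrame L) {g : ℕ}
    (hg : topologicalKrullDim A.left = g) (t₀ : Γ(CohB1.tensorPow L 2, ⊤))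
    (ht₀ : genericPoint A.left ∈ TrivBasic.locus t₀)
    (hbpf : ∀ x, ∃ t : Γ(CohB1.tensorPow L 2, ⊤), x ∈ TrivBasic.locus t) :
    ∃ t : Fin g → Γ(CohB1.tensorPow L 2, ⊤), ∀ x, x ∈ TrivBasic.locus t₀ ∨ ∃ j, x ∈ TrivBasic.locus (t j) := by
  classical
  haveI : CompactSpace A.left := QuasiCompact.compactSpace_of_compactSpace A.hom
  haveI : IsLocallyNoetherian A.left := LocallyOfFiniteType.isLocallyNoetherian A.hom
  haveI : AlgebraicGeometry.IsNoetherian A.left := {}
  suffices ∀ i, ∃ t : Fin i → Γ(CohB1.tensorPow L 2, ⊤), ∀ x, x ∈ TrivBasic.locus t₀ ∨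
      (∃ j, x ∈ TrivBasic.locus (t j)) ∨ (i + 1 : ℕ) ≤ codimPt x by
    obtain ⟨t, ht⟩ := this g
    refine ⟨t, fun x => ?_⟩
    rcases ht x with h | h | h
    · exact Or.inl h
    · exact Or.inr h
    · exfalso
      have h1 := Order.coheight_le_krullDim
        (⟨closure {x}, isIrreducible_singleton.closure, isClosed_closure⟩ : IrreducibleCloseds A.left)
      rw [show Order.krullDim (IrreducibleCloseds A.left) = _ from hg] at h1
      have h2 : ((g + 1 : ℕ) : WithBot ℕ∞) ≤ (g : WithBot ℕ∞) := le_trans (by exact_mod_cast h) h1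
      have h3 : g + 1 ≤ g := by exact_mod_cast h2
      omega
  have step : ∀ x y : A.left, y ⤳ x → ¬ x ⤳ y → codimPt y + 1 ≤ codimPt x := fun x y h h' => by
    refine Order.coheight_add_one_le (lt_of_le_not_ge ?_ ?_)
    · exact closure_minimal (Set.singleton_subset_iff.2 (specializes_iff_mem_closure.1 h)) isClosed_closure
    · intro hle
      exact h' (specializes_iff_mem_closure.2 (hle (subset_closure rfl)))
  intro i
  induction i with
  | zero =>
    refine ⟨Fin.elim0, fun x => ?_⟩
    by_cases hx : x ∈ TrivBasic.locus t₀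
    · exact Or.inl hx
    · refine Or.inr (Or.inr ?_)
      have := step x (genericPoint A.left) (genericPoint_specializes x)
        fun h => hx (h.mem_open (TrivBasic.locus t₀).isOpen ht₀)
      refine le_trans ?_ this
      simp
  | succ i ih =>
    obtain ⟨t, ht⟩ := ih
    let Z : Closeds A.left := ⟨((TrivBasic.locus t₀ : Set A.left) ∪ ⋃ j, (TrivBasic.locus (t j) : Set A.left))ᶜ,
      ((TrivBasic.locus t₀).isOpen.union (isOpen_iUnion fun j => (TrivBasic.locus (t j)).isOpen)).isClosed_compl⟩
    obtain ⟨S, hSfin, hScl, hSirr, hS⟩ := NoetherianSpace.exists_finite_set_isClosed_irreducible Z.2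
    haveI := hSfin.fintype
    let F : Finset A.left := Finset.univ.image fun s : S => (hSirr s.1 s.2).genericPoint
    have hgen : ∀ s : S, (hSirr s.1 s.2).genericPoint ∈ s.1 := fun s => by
      have := (hSirr s.1 s.2).isGenericPoint_genericPoint_closure.mem
      rwa [(hScl s.1 s.2).closure_eq] at this
    obtain ⟨tn, htn⟩ := exists_avoid β hL 2 F fun y _ => hbpf y
    refine ⟨Fin.snoc t tn, fun x => ?_⟩
    by_cases hx : x ∈ TrivBasic.locus t₀
    · exact Or.inl hx
    by_cases hx' : ∃ j, x ∈ TrivBasic.locus (t j)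
    · obtain ⟨j, hj⟩ := hx'
      exact Or.inr (Or.inl ⟨j.castSucc, by rwa [Fin.snoc_castSucc]⟩)
    by_cases hxn : x ∈ TrivBasic.locus tn
    · exact Or.inr (Or.inl ⟨Fin.last i, by rwa [Fin.snoc_last]⟩)
    refine Or.inr (Or.inr ?_)
    have hxZ : x ∈ (Z : Set A.left) := by
      intro h
      rcases h with h | h
      · exact hx h
      · exact hx' (Set.mem_iUnion.1 h)
    change x ∈ Z.carrier at hxZ
    rw [hS] at hxZ
    obtain ⟨s, hs, hxs⟩ := hxZ
    let y := (hSirr s hs).genericPoint
    have hy : y ∈ F := Finset.mem_image.2 ⟨⟨s, hs⟩, Finset.mem_univ _, rfl⟩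
    have hyx : y ⤳ x := by
      have := (hSirr s hs).isGenericPoint_genericPoint_closure
      rw [(hScl s hs).closure_eq] at this
      exact this.specializes hxs
    have hyZ : y ∈ (Z : Set A.left) := by show y ∈ Z.carrier; rw [hS]; exact ⟨s, hs, hgen ⟨s, hs⟩⟩
    have h1 : ((i + 1 : ℕ) : ℕ∞) ≤ codimPt y := by
      rcases ht y with h | ⟨j, h⟩ | h
      · exact absurd (Or.inl h) hyZ
      · exact absurd (Or.inr (Set.mem_iUnion.2 ⟨j, h⟩)) hyZ
      · exact h
    have h2 := step x y hyx fun h => hxn (h.mem_open (TrivBasic.locus tn).isOpen (htn y hy))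
    refine le_trans ?_ h2
    rw [Nat.cast_add, Nat.cast_one]
    exact add_le_add h1 le_rfl

end Groth.Agent.TateIsog
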