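import Groth.Agent.TateIsog.NormBound
import Mathlib.LinearAlgebra.Dimension.Finrank
import Mathlib.FieldTheory.Tower
import Mathlib.Analysis.SpecificLimits.Basic
import Mathlib.RingTheory.AlgebraicIndependent.Basic
import Mathlib.RingTheory.IntegralClosure.IntegrallyClosed
import Mathlib.RingTheory.Polynomial.UniqueFactorization
import Mathlib.RingTheory.Norm.Transitivity
import Mathlib.RingTheory.Polynomial.RationalRoot

/-!
# A function field is generated by a bounded piece of a section ring of maximal growth
-/

set_option autoImplicit false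
set_option linter.style.haveILetI false

universe u

noncomputable section

namespace Groth.Agent.TateIsog

open MvPolynomial Filter Topology

/-- An element lying in every valuation ring containing the image of a ring is integral over it. -/
theorem isIntegral_of_forall_mem {R L : Type u} [CommRing R] [Field L] [Algebra R L] (x : L)
    (h : ∀ O : ValuationSubring L, (∀ r : R, algebraMap R L r ∈ O) → x ∈ O) : IsIntegral R x := by
  let S : Set L := Set.range (algebraMap R L)
  have hx : x ∈ (⨅ V : {V : ValuationSubring L // S ⊆ V.toSubring}, V.1.toSubring) :=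
    Subring.mem_iInf.2 fun V => h V.1 fun r => V.2 ⟨r, rfl⟩
  rw [iInf_valuationSubring_superset] at hx
  have hcl : Subring.closure S ≤ (algebraMap R L).range := Subring.closure_le.2 fun y hy => hy
  obtain ⟨p, hp, hpx⟩ : IsIntegral (Subring.closure S) x := hx
  have h2 : IsIntegral ((algebraMap R L).range) x := by
    refine ⟨p.map (Subring.inclusion hcl), hp.map _, ?_⟩
    rw [Polynomial.eval₂_map]
    exact hpx
  obtain ⟨q, hq, hqx⟩ := h2
  obtain ⟨q', hq', -, hqm⟩ := Polynomial.lifts_and_degree_eq_and_monic
    (f := (algebraMap R L).rangeRestrict) (p := q)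
    (Polynomial.mem_lifts q |>.2 (Polynomial.map_surjective _ (RingHom.rangeRestrict_surjective _) q)) hq
  refine ⟨q', hqm, ?_⟩
  rw [← hq', Polynomial.eval₂_map] at hqx
  exact hqx

/-- A monotone polynomial growth bound. -/
theorem le_of_growth {δ X e g s : ℕ} (h : ∀ n : ℕ, δ * n ^ g ≤ X * (n * e + s) ^ g) : δ ≤ X * e ^ g := by
  have hlim : Tendsto (fun n : ℕ => (X : ℝ) * ((e : ℝ) + (s : ℝ) / n) ^ g) atTop (𝓝 ((X : ℝ) * ((e : ℝ) + 0) ^ g)) :=
    ((tendsto_const_div_atTop_nhds_zero_nat (s : ℝ)).const_add (e : ℝ) |>.pow g).const_mul _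
  have hev : ∀ᶠ n : ℕ in atTop, (δ : ℝ) ≤ (X : ℝ) * ((e : ℝ) + (s : ℝ) / n) ^ g := by
    refine (eventually_gt_atTop 0).mono fun n hn => ?_
    have hn' : (0 : ℝ) < n := by exact_mod_cast hn
    have h1 : (δ : ℝ) * (n : ℝ) ^ g ≤ (X : ℝ) * ((n : ℝ) * e + s) ^ g := by exact_mod_cast h n
    rw [show (n : ℝ) * e + s = n * ((e : ℝ) + (s : ℝ) / n) by field_simp, mul_pow] at h1
    have h2 : (0 : ℝ) < (n : ℝ) ^ g := pow_pos hn' g
    nlinarith
  have := ge_of_tendsto hlim hev
  rw [add_zero] at this
  exact_mod_cast this

section Main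

variable {Ω L : Type u} [Field Ω] [Infinite Ω] [Field L] [Algebra Ω L]

/-- **Generation.** Let `W n` be a filtered family of subspaces of a field `L` of dimension `c * n ^ g`, exhausting
`L` by fractions, and `z` algebraically independent in `W e` controlling poles. Then `W (C * e)` generates `L` as soon
as `(C + g) ^ g < 2 * C ^ g`. -/
theorem adjoin_eq_top (W : ℕ → Submodule Ω L) (g c e : ℕ) (he : 1 ≤ e)
    (hmul : ∀ a b x y, x ∈ W a → y ∈ W b → x * y ∈ W (a + b)) (h0 : (1 : L) ∈ W 0) (h1 : (1 : L) ∈ W 1)
    (hdim : ∀ n, 1 ≤ n → Module.Finite Ω (W n) ∧ Module.finrank Ω (W n) = c * n ^ g)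
    (hfrac : ∀ x : L, ∃ n : ℕ, ∃ a ∈ W n, ∃ b ∈ W n, b ≠ 0 ∧ x = a / b)
    (z : Fin g → L) (hz : ∀ i, z i ∈ W e) (hzi : AlgebraicIndependent Ω z)
    (hval : ∀ O : ValuationSubring L, (∀ a, algebraMap Ω L a ∈ O) →
      ∀ w : L, w = 1 ∨ w ∈ Set.range z → w ≠ 0 → (∀ j, z j / w ∈ O) → w⁻¹ ∈ O →
        ∀ n : ℕ, ∀ f ∈ W (n * e), f / w ^ n ∈ O)
    (C : ℕ) (hC : (C + g) ^ g < 2 * C ^ g) (hC1 : 1 ≤ C) :
    IntermediateField.adjoin Ω (W (C * e) : Set L) = ⊤ := by
  classical
  have h1n : ∀ n, (1 : L) ∈ W n := fun n => by
    induction n with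
    | zero => exact h0
    | succ n ih => simpa using hmul n 1 1 1 ih h1
  have hmono : ∀ a b, a ≤ b → W a ≤ W b := fun a b hab x hx => by
    obtain ⟨d, rfl⟩ := Nat.exists_eq_add_of_le hab
    simpa using hmul a d x 1 hx (h1n d)
  let P := MvPolynomial (Fin g) Ω
  let K := FractionRing P
  letI : Algebra K L := (IsFractionRing.liftAlgHom (A := P) (K := K) (g := aeval z) hzi).toRingHom.toAlgebra
  have hK : ∀ p : P, algebraMap K L (algebraMap P K p) = aeval z p := fun p =>
    IsFractionRing.lift_algebraMap (A := P) (K := K) hzi p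
  haveI : IsScalarTower Ω K L := IsScalarTower.of_algebraMap_eq fun a => by
    rw [IsScalarTower.algebraMap_apply Ω P K, hK, MvPolynomial.algebraMap_eq, aeval_C]
  have hXK : ∀ i, algebraMap K L (algebraMap P K (X i)) = z i := fun i => (hK _).trans (aeval_X _ _)
  -- monomials
  have hmon : ∀ (n : ℕ) (s : Sym (Fin (g + 1)) n), aeval z (monomial (symExp s) (1 : Ω)) ∈ W (n * e) := by
    intro n s
    have h : ∀ m : Multiset (Fin (g + 1)), (m.map (Fin.cons (1 : L) z)).prod ∈ W (Multiset.card m * e) := by
      intro m
      induction m using Multiset.induction with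
      | empty => simpa using h0
      | cons a m ih =>
        rw [Multiset.map_cons, Multiset.prod_cons, Multiset.card_cons,
          show (Multiset.card m + 1) * e = e + Multiset.card m * e by ring]
        refine hmul _ _ _ _ ?_ ih
        refine Fin.cases ?_ (fun i => ?_) a
        · exact h1n e
        · simpa using hz i
    have hh := h (s : Multiset (Fin (g + 1)))
    rw [show Multiset.card (s : Multiset (Fin (g + 1))) = n from s.2] at hh
    convert hh using 1
    rw [aeval_monomial, map_one, _root_.one_mul, Finsupp.prod_fintype _ _ (fun _ => pow_zero _),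
      Finset.prod_multiset_map_count, Finset.prod_subset (s₁ := (s : Multiset (Fin (g + 1))).toFinset) (Finset.subset_univ _) (fun a _ ha => by
        rw [Multiset.count_eq_zero.2 (fun h' => ha (Multiset.mem_toFinset.2 h')), pow_zero]), Fin.prod_univ_succ]
    simp [symExp_apply]
  -- degree bound
  have hbound : ∀ b : Finset L, LinearIndependent K (fun x : b => (x : L)) → b.card ≤ g.factorial * c * e ^ g := by
    intro b hb
    choose n a ha d hd hd0 hx using fun x : L => hfrac x
    let D : L := ∏ x ∈ b, d x
    have hD : D ≠ 0 := Finset.prod_ne_zero_iff.2 fun x _ => hd0 x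
    let s := ∑ x ∈ b, n x + 1
    have hDx : ∀ x ∈ b, D * x ∈ W s := by
      intro x hxb
      have hp : ∀ t : Finset L, (∏ y ∈ t, d y) ∈ W (∑ y ∈ t, n y) := fun t => by
        induction t using Finset.induction with
        | empty => simpa using h0
        | insert y t hy ih =>
          rw [Finset.prod_insert hy, Finset.sum_insert hy]
          exact hmul _ _ _ _ (hd y) ih
      have e1 : D * x = a x * ∏ y ∈ b.erase x, d y := by
        show (∏ y ∈ b, d y) * x = _
        rw [← Finset.mul_prod_erase b d hxb]
        conv_lhs => rw [mul_right_comm]; arg 1; arg 2; rw [hx x]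
        rw [mul_div_cancel₀ _ (hd0 x)]
      rw [e1]
      refine hmono _ s ?_ (hmul _ _ _ _ (ha x) (hp (b.erase x)))
      rw [Finset.add_sum_erase b n hxb]
      exact Nat.le_succ _
    refine le_of_growth (s := s) fun m => ?_
    haveI := (hdim (m * e + s) (by omega)).1
    let v : Sym (Fin (g + 1)) m × b → W (m * e + s) := fun p =>
      ⟨aeval z (monomial (symExp p.1) (1 : Ω)) * (D * (p.2 : L)), hmul _ _ _ _ (hmon m p.1) (hDx _ p.2.2)⟩
    have hv : LinearIndependent Ω v := by
      refine LinearIndependent.of_comp (Submodule.subtype _) ?_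
      have hb' : LinearIndependent K (fun x : b => D * (x : L)) :=
        hb.map' (LinearMap.mulLeft K D) (LinearMap.ker_eq_bot.2 (mul_right_injective₀ hD))
      have hm' : LinearIndependent Ω (fun s : Sym (Fin (g + 1)) m => algebraMap P K (monomial (symExp s) (1 : Ω))) := by
        have h := ((basisMonomials (Fin g) Ω).linearIndependent.comp _ (symExp_injective (n := m))).map'
          (IsScalarTower.toAlgHom Ω P K).toLinearMap (LinearMap.ker_eq_bot.2 (IsFractionRing.injective P K))
        have e : (fun s : Sym (Fin (g + 1)) m => algebraMap P K (monomial (symExp s) (1 : Ω))) =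
            ⇑(IsScalarTower.toAlgHom Ω P K).toLinearMap ∘ ⇑(basisMonomials (Fin g) Ω) ∘ symExp :=
          funext fun s => by simp [coe_basisMonomials]
        rw [e]
        exact h
      convert linearIndependent_smul hm' hb' using 1
      funext p
      show aeval z (monomial (symExp p.1) (1 : Ω)) * (D * (p.2 : L)) = _
      rw [Algebra.smul_def, hK]
    have hcard := hv.fintype_card_le_finrank
    rw [Fintype.card_prod, Fintype.card_coe, (hdim (m * e + s) (by omega)).2, ← Nat.card_eq_fintype_card, card_sym]
      at hcard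
    calc b.card * m ^ g ≤ b.card * ((m + g).choose g * g.factorial) :=
          Nat.mul_le_mul_left _ (pow_le_choose_mul_factorial g m)
      _ = g.factorial * ((m + g).choose g * b.card) := by ring
      _ ≤ g.factorial * (c * (m * e + s) ^ g) := Nat.mul_le_mul_left _ hcard
      _ = g.factorial * c * (m * e + s) ^ g := by ring
  have hrk : Module.rank K L ≤ ((g.factorial * c * e ^ g : ℕ) : Cardinal) := rank_le hbound
  haveI : FiniteDimensional K L := Module.rank_lt_aleph0_iff.1 (hrk.trans_lt Cardinal.natCast_lt_aleph0)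
  have hδ : Module.finrank K L ≤ g.factorial * c * e ^ g := Module.finrank_le_of_rank_le hrk
  -- the field generated by the bounded piece
  let F₀ := IntermediateField.adjoin Ω (W (C * e) : Set L)
  have hzF : ∀ i, z i ∈ F₀ := fun i =>
    IntermediateField.subset_adjoin Ω _ (hmono e (C * e) (Nat.le_mul_of_pos_left e hC1) (hz i))
  have hKF : ∀ x : K, algebraMap K L x ∈ F₀ := fun x => by
    obtain ⟨p, q, hq, rfl⟩ := IsFractionRing.div_surjective (A := P) x
    have hmem : ∀ p : P, aeval z p ∈ F₀ := fun p => by
      induction p using MvPolynomial.induction_on with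
      | C a => rw [aeval_C]; exact F₀.algebraMap_mem a
      | add p q hp hq => rw [map_add]; exact add_mem hp hq
      | mul_X p i hp => rw [map_mul, aeval_X]; exact mul_mem hp (hzF i)
    rw [map_div₀, hK, hK]
    exact div_mem (hmem p) (hmem q)
  let F : IntermediateField K L := F₀.toSubfield.toIntermediateField hKF
  by_contra hne
  have hFne : F ≠ ⊤ := fun hF => hne (eq_top_iff.2 fun x _ => (hF ▸ IntermediateField.mem_top : x ∈ F))
  have h2r : 2 * Module.finrank K F ≤ Module.finrank K L := by
    have h := Module.finrank_mul_finrank K F L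
    have h2 : 2 ≤ Module.finrank F L := by
      have hp : 0 < Module.finrank F L := Module.finrank_pos
      have hn1 : Module.finrank F L ≠ 1 := fun h' => hFne (IntermediateField.finrank_eq_one_iff_eq_top.1 h')
      omega
    nlinarith
  -- the bounded piece inside it
  have hWF : ∀ x ∈ W (C * e), x ∈ F := fun x hx => IntermediateField.subset_adjoin Ω _ hx
  haveI : IsScalarTower Ω F L := IsScalarTower.of_algebraMap_eq fun a => by
    rw [IsScalarTower.algebraMap_apply Ω K F, ← IsScalarTower.algebraMap_apply K F L]
    exact IsScalarTower.algebraMap_apply Ω K L a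
  let W' : Submodule Ω F := (W (C * e)).comap ((IsScalarTower.toAlgHom Ω F L).toLinearMap)
  let ι : W' ≃ₗ[Ω] W (C * e) := LinearEquiv.ofBijective
    (((IsScalarTower.toAlgHom Ω F L).toLinearMap.comp W'.subtype).codRestrict _ fun x => x.2)
    ⟨fun x y h => Subtype.ext (by
      have h' := congrArg (fun t : ↥(W (C * e)) => (t : L)) h
      exact Subtype.ext h'),
      fun y => ⟨⟨⟨y.1, hWF y.1 y.2⟩, y.2⟩, Subtype.ext rfl⟩⟩
  haveI := (hdim (C * e) (Nat.one_le_iff_ne_zero.2 (by positivity))).1
  haveI : Module.Finite Ω W' := Module.Finite.equiv ι.symm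
  letI : Algebra P L := ((algebraMap K L).comp (algebraMap P K)).toAlgebra
  letI : Algebra P F := ((algebraMap K F).comp (algebraMap P K)).toAlgebra
  haveI : IsScalarTower P K F := IsScalarTower.of_algebraMap_eq fun _ => rfl
  haveI : IsScalarTower P F L := IsScalarTower.of_algebraMap_eq fun p => by
    show algebraMap K L (algebraMap P K p) = algebraMap F L (algebraMap K F (algebraMap P K p))
    rw [← IsScalarTower.algebraMap_apply K F L]
  have hPL : ∀ p : P, algebraMap P L p = aeval z p := hK
  haveI : IsIntegrallyClosed P := inferInstance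
  have hnorm : ∀ f ∈ W', ∃ N : P, Algebra.norm K f = algebraMap P K N ∧
      N.totalDegree ≤ Module.finrank K F * C := by
    intro f hf
    have hint : IsIntegral P f := by
      rw [← isIntegral_algebraMap_iff (algebraMap F L).injective]
      refine isIntegral_of_forall_mem _ fun O hO => ?_
      have hz' : ∀ j, z j / 1 ∈ O := fun j => by
        rw [div_one]
        have := hO (X j)
        rwa [hPL, aeval_X] at this
      have := hval O (fun a => by have := hO (MvPolynomial.C a); rwa [hPL, aeval_C] at this) 1 (Or.inl rfl) one_ne_zero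
        hz' (by rw [inv_one]; exact O.one_mem) C _ hf
      simpa using this
    obtain ⟨N, hN⟩ := IsIntegrallyClosed.algebraMap_eq_of_integral (Algebra.isIntegral_norm K hint)
    refine ⟨N, hN.symm, ?_⟩
    rcases Nat.eq_zero_or_pos g with hg | hg
    · subst hg
      rw [show N = MvPolynomial.C (isEmptyRingEquiv Ω (Fin 0) N) from (isEmptyRingEquiv Ω (Fin 0)).symm_apply_apply N |>.symm]
      simp
    · let i : Fin g := ⟨0, hg⟩
      refine totalDegree_le_of_mem_degV i _ ?_
      let w : F := algebraMap K F (algebraMap P K (X i))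
      have hw0 : (algebraMap F L w) = z i := by rw [← IsScalarTower.algebraMap_apply K F L, hXK]
      have hzne : z i ≠ 0 := hzi.ne_zero i
      have hint2 : IsIntegral (degV Ω g) (f / w ^ C) := by
        rw [← isIntegral_algebraMap_iff (algebraMap F L).injective, map_div₀, map_pow, hw0]
        refine isIntegral_of_forall_mem _ fun O hO => ?_
        have hO' : ∀ x ∈ degV Ω g, algebraMap K L x ∈ O := fun x hx => hO ⟨x, hx⟩
        have hdiv : ∀ p q : P, q ≠ 0 → p.totalDegree ≤ q.totalDegree → aeval z p / aeval z q ∈ O := fun p q hq h => by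
          have := hO' _ (div_mem_degV hq h)
          rwa [map_div₀, hK, hK] at this
        refine hval O (fun a => ?_) (z i) (Or.inr ⟨i, rfl⟩) hzne (fun j => ?_) ?_ C _ hf
        · have := hdiv (MvPolynomial.C a) 1 one_ne_zero (by simp)
          simpa using this
        · have := hdiv (X j) (X i) (X_ne_zero i) (by simp)
          simpa using this
        · have := hdiv 1 (X i) (X_ne_zero i) (by simp)
          simpa using this
      have := Algebra.isIntegral_norm K hint2
      have hwne : w ^ C ≠ 0 := pow_ne_zero _ fun h => hzne (by rw [← hw0, h, map_zero])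
      have e2 : Algebra.norm K (f / w ^ C) = Algebra.norm K f / Algebra.norm K (w ^ C) := by
        rw [eq_div_iff (Algebra.norm_ne_zero_iff.2 hwne), ← map_mul, div_mul_cancel₀ _ hwne]
      rw [e2, map_pow, Algebra.norm_algebraMap, ← pow_mul] at this
      obtain ⟨y, hy⟩ := IsIntegrallyClosed.algebraMap_eq_of_integral this
      rw [hN.symm] at hy
      rw [map_pow]
      exact hy ▸ y.2
  have hmain := finrank_le_of_norm W' C hnorm
  rw [ι.finrank_eq, (hdim (C * e) (Nat.one_le_iff_ne_zero.2 (by positivity))).2] at hmain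
  have hcpos : 0 < c := by
    rcases Nat.eq_zero_or_pos c with rfl | h
    · exfalso
      have hh := (hdim 1 le_rfl).2
      haveI := (hdim 1 le_rfl).1
      rw [show 0 * 1 ^ g = 0 from Nat.zero_mul _, Submodule.finrank_eq_zero] at hh
      rw [hh, Submodule.mem_bot] at h1
      exact one_ne_zero h1
    · exact h
  have hkey := choose_mul_factorial_le g C
  have hK2 : 2 * (c * (C * e) ^ g * g.factorial) ≤ g.factorial * c * e ^ g * (C + g) ^ g :=
    calc 2 * (c * (C * e) ^ g * g.factorial) ≤ 2 * (Module.finrank K F * (C + g).choose g * g.factorial) := by gcongr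
      _ = (2 * Module.finrank K F) * ((C + g).choose g * g.factorial) := by ring
      _ ≤ (g.factorial * c * e ^ g) * (C + g) ^ g := Nat.mul_le_mul (h2r.trans hδ) hkey
  have hlt : g.factorial * c * e ^ g * (C + g) ^ g < g.factorial * c * e ^ g * (2 * C ^ g) :=
    Nat.mul_lt_mul_of_pos_left hC (by positivity)
  rw [mul_pow] at hK2
  nlinarith

end Main

end Groth.Agent.TateIsog
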