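import Mathlib.FieldTheory.IsAlgClosed.AlgebraicClosure
import Mathlib.FieldTheory.IntermediateField.Adjoin.Basic
import Mathlib.RingTheory.MvPolynomial.Basic
import Mathlib.RingTheory.AlgebraicIndependent.Basic
import Mathlib.RingTheory.AlgebraicIndependent.TranscendenceBasis
import Mathlib.Algebra.MvPolynomial.Equiv

/-!
# Finitely many function fields with bounded relations over a finite field
-/

set_option autoImplicit false
set_option linter.style.haveILetI false

universe u

noncomputable section

namespace Groth.Agent.TateIsog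

open MvPolynomial

variable (k : Type u) [Field k] [Finite k]

/-- Over a finite field there are only finitely many polynomials in finitely many variables of bounded total degree. -/
theorem finite_totalDegree_le (σ : Type) [Finite σ] (n : ℕ) :
    {f : MvPolynomial σ k | f.totalDegree ≤ n}.Finite := by
  classical
  haveI : Finite (σ →₀ Fin (n + 1)) := Finite.of_injective _ DFunLike.coe_injective
  let S : Set (σ →₀ ℕ) := {d | ∀ i, d i < n + 1}
  have hS : S.Finite := (Set.finite_range (fun d : σ →₀ Fin (n + 1) =>
    d.mapRange Fin.val rfl)).subset fun d hd => ⟨d.mapRange (fun m => (Fin.ofNat (n + 1) m)) (by simp), by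
      ext i; simp [Nat.mod_eq_of_lt (hd i)]⟩
  haveI := hS.to_subtype
  refine (Set.finite_univ.of_injOn (f := fun (f : MvPolynomial σ k) (d : S) => f.coeff d.1)
    (Set.mapsTo_univ _ _) fun f hf g hg h => ?_)
  refine MvPolynomial.ext _ _ fun d => ?_
  by_cases hd : d ∈ S
  · exact congrFun h ⟨d, hd⟩
  · have aux : ∀ p : MvPolynomial σ k, p.totalDegree ≤ n → p.coeff d = 0 := fun p hp => by
      by_contra hne
      refine hd fun i => ?_
      have h1 := le_totalDegree (mem_support_iff.2 hne)
      by_cases hi : i ∈ d.support
      · have h2 : d i ≤ d.sum fun _ e => e :=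
          Finset.single_le_sum (f := fun j => d j) (fun _ _ => Nat.zero_le _) hi
        omega
      · simp [Finsupp.notMem_support_iff.1 hi]
    rw [aux f hf, aux g hg]

/-- There are finitely many fields generated over a finite field by `N` elements of transcendence degree `g` such
that any `g + 1` of them satisfy an algebraic relation of degree at most `n`. -/
theorem exists_finite_fields (g N n : ℕ) :
    ∃ (J : Type u) (_ : Finite J) (F : J → Type u) (_ : ∀ j, Field (F j)) (_ : ∀ j, Algebra k (F j)),
      ∀ (κ : Type u) [Field κ] [Algebra k κ] (x : Fin N → κ),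
        IntermediateField.adjoin k (Set.range x) = ⊤ →
        (∃ s : Fin g → Fin N, AlgebraicIndependent k (x ∘ s)) →
        (∀ s : Fin (g + 1) → Fin N, ∃ f : MvPolynomial (Fin (g + 1)) k,
          f ≠ 0 ∧ f.totalDegree ≤ n ∧ aeval (x ∘ s) f = 0) →
        ∃ j, Nonempty (κ ≃ₐ[k] F j) := by
  classical
  let K := FractionRing (MvPolynomial (Fin g) k)
  let Kb := AlgebraicClosure K
  let pol : MvPolynomial (Fin (g + 1)) k → Polynomial Kb := fun f =>
    (finSuccEquiv k g f).map ((algebraMap K Kb).comp (algebraMap (MvPolynomial (Fin g) k) K))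
  let R : Set Kb := ⋃ f ∈ {f : MvPolynomial (Fin (g + 1)) k | f.totalDegree ≤ n}, {r | pol f ≠ 0 ∧ (pol f).IsRoot r}
  have hR : R.Finite := (finite_totalDegree_le k (Fin (g + 1)) n).biUnion fun f _ => by
    by_cases h : pol f = 0
    · simp [h]
    · exact (Polynomial.finite_setOfPred_isRoot h).subset fun r hr => hr.2
  haveI := hR.to_subtype
  refine ⟨Fin N → R, inferInstance, fun v => ↥(IntermediateField.adjoin k (Set.range fun i => (v i : Kb))),
    fun v => inferInstance, fun v => inferInstance, ?_⟩
  intro κ _ _ x hx ⟨s, hs⟩ hrel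
  -- the transcendental subfield
  letI : Algebra K κ := (IsFractionRing.liftAlgHom (A := MvPolynomial (Fin g) k) (K := K)
    (g := aeval (x ∘ s)) hs).toRingHom.toAlgebra
  have hK : ∀ p : MvPolynomial (Fin g) k, algebraMap K κ (algebraMap _ K p) = aeval (x ∘ s) p := fun p =>
    IsFractionRing.lift_algebraMap (A := MvPolynomial (Fin g) k) (K := K) hs p
  haveI : IsScalarTower k K κ := IsScalarTower.of_algebraMap_eq fun a => by
    rw [IsScalarTower.algebraMap_apply k (MvPolynomial (Fin g) k) K, hK, MvPolynomial.algebraMap_eq, aeval_C]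
  -- every generator is algebraic over it
  have key : ∀ i, ∃ p : MvPolynomial (Fin (g + 1)) k, p.totalDegree ≤ n ∧
      (finSuccEquiv k g p).map (algebraMap (MvPolynomial (Fin g) k) K) ≠ 0 ∧
      Polynomial.aeval (x i) ((finSuccEquiv k g p).map (algebraMap (MvPolynomial (Fin g) k) K)) = 0 := by
    intro i
    obtain ⟨f, hf0, hfd, hf⟩ := hrel (Fin.cons i s)
    refine ⟨f, hfd, fun h => hf0 ?_, ?_⟩
    · exact (finSuccEquiv k g).injective <| by
        rw [map_zero]
        exact Polynomial.map_injective _ (IsFractionRing.injective _ K) (by rw [h, Polynomial.map_zero])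
    · rw [Polynomial.aeval_def, Polynomial.eval₂_map]
      refine (Eq.trans ?_ hf)
      have : ((Polynomial.eval₂RingHom ((algebraMap K κ).comp (algebraMap _ K)) (x i)).comp
          (finSuccEquiv k g).toRingEquiv.toRingHom) = (aeval (x ∘ Fin.cons i s) : _ →ₐ[k] κ).toRingHom := by
        refine MvPolynomial.ringHom_ext (fun r => ?_) fun j => ?_
        · simp [finSuccEquiv_apply, hK]
        · refine Fin.cases ?_ (fun j => ?_) j
          · simp [finSuccEquiv_X_zero]
          · simp [finSuccEquiv_X_succ, hK]
      exact RingHom.congr_fun this f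
  haveI : Algebra.IsAlgebraic K κ := by
    have h : ∀ i, IsAlgebraic K (x i) := fun i => by
      obtain ⟨f, -, h1, h2⟩ := key i
      exact ⟨_, h1, h2⟩
    have htop : IntermediateField.adjoin K (Set.range x) = ⊤ := by
      refine eq_top_iff.2 fun y _ => ?_
      have : IntermediateField.adjoin k (Set.range x) ≤
          (IntermediateField.adjoin K (Set.range x)).restrictScalars k :=
        IntermediateField.adjoin_le_iff.2 (IntermediateField.subset_adjoin K _)
      exact this (hx ▸ IntermediateField.mem_top)
    haveI := IntermediateField.isAlgebraic_adjoin (S := Set.range x) (K := K)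
      (by rintro _ ⟨i, rfl⟩; exact (h i).isIntegral)
    rw [htop] at this
    exact IntermediateField.topEquiv.isAlgebraic
  let φ : κ →ₐ[K] Kb := IsAlgClosed.lift
  have hmem : ∀ i, φ (x i) ∈ R := fun i => by
    obtain ⟨f, hfd, h1, h2⟩ := key i
    have he : pol f = ((finSuccEquiv k g f).map (algebraMap (MvPolynomial (Fin g) k) K)).map (algebraMap K Kb) :=
      (Polynomial.map_map _ _ _).symm
    refine Set.mem_biUnion hfd ⟨?_, ?_⟩
    · rw [he]
      exact (Polynomial.map_ne_zero_iff (algebraMap K Kb).injective).2 h1
    · rw [he, Polynomial.IsRoot, Polynomial.eval_map, ← Polynomial.aeval_def, Polynomial.aeval_algHom_apply, h2,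
        map_zero]
  refine ⟨fun i => ⟨_, hmem i⟩, ⟨?_⟩⟩
  let ψ : κ →ₐ[k] Kb := φ.restrictScalars k
  have hrange : ψ.fieldRange = IntermediateField.adjoin k (Set.range fun i => φ (x i)) := by
    rw [AlgHom.fieldRange_eq_map, ← hx, IntermediateField.adjoin_map]
    congr 1
    ext y
    simp [ψ]
  exact (AlgEquiv.ofInjectiveField ψ).trans (IntermediateField.equivOfEq hrange)

end Groth.Agent.TateIsog
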