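import Groth.Agent.TateIsog.Generators
import Groth.Agent.TateIsog.BaseChange
import Groth.Agent.TateIsog.PrimeFin
import Groth.Agent.FibDim.BaseField
import Groth.Agent.RGLib.Lim8RelAmple
import Mathlib.FieldTheory.IsAlgClosed.AlgebraicClosure

/-!
# Finiteness of the function fields of polarized abelian varieties over a finite field
-/

noncomputable section

set_option linter.style.haveILetI false
set_option linter.unusedSectionVars false
set_option backward.isDefEq.respectTransparency false
set_option backward.isDefEq.respectTransparency.types false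
set_option maxHeartbeats 1000000
set_option autoImplicit false

universe u

open CategoryTheory CategoryTheory.Limits AlgebraicGeometry TopologicalSpace Opposite

namespace Groth.Agent.TateIsog

open Groth.Agent Groth.Agent.AVDegLib Groth.Agent.InvX Groth.Agent.H23 Groth.Agent.H23.PicMul

variable {k : Type u} [Field k]

theorem mem_locus_of_rho_ne_zero {A : Over (Spec (CommRingCat.of k))} [IsIntegral A.left] {L : A.left.Modules}
    (β : GenFrame L) (s : Γ(L, ⊤)) (h : rho β (U := ⊤) trivial s ≠ 0) : genericPoint A.left ∈ TrivBasic.locus s := by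
  obtain ⟨a, ha⟩ := β.he.exists_coord le_rfl (AModX.res L le_top s)
  rw [AModX.res_self] at ha
  have hb := TrivBasic.locus_eq_basicOpen β.he ha
  have h' := congrArg (rho β β.hη) ha
  rw [rho_res, rho_smul, rho_self, mul_one] at h'
  have hmem : genericPoint A.left ∈ A.left.basicOpen a := by
    rw [Scheme.mem_basicOpen _ _ _ β.hη]
    show IsUnit (gm β.U β.hη a)
    rw [← h']; exact isUnit_iff_ne_zero.2 h
  rw [← hb] at hmem
  exact hmem.1

/-- An ample module all of whose powers have `c * n ^ g` sections, `c` nonzero, has a nonzero section. -/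
theorem exists_section_ne_zero {A : Over (Spec (CommRingCat.of k))} [IsIntegral A.left] {L : A.left.Modules}
    (hL : PicF.IsInvertible L) {c : ℕ} (hc : 1 ≤ c) :
    letI : A.left.Over (Spec (CommRingCat.of k)) := ⟨A.hom⟩
    Module.Finite k (Coh.HH A.left (CohB1.tensorPow L 1) 0) →
      Module.finrank k (Coh.HH A.left (CohB1.tensorPow L 1) 0) = c →
        ∃ (s : Γ(L, ⊤)) (β : GenFrame L), rho β (U := ⊤) trivial s = 1 := by
  letI : A.left.Over (Spec (CommRingCat.of k)) := ⟨A.hom⟩
  intro hfin hrk
  obtain ⟨U, hηU, e₀, he₀⟩ := InvX.exists_frame hL (genericPoint A.left)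
  let β₁ : GenFrame L := ⟨U, e₀, he₀, hηU⟩
  obtain ⟨hfin', hrk'⟩ := finrank_W β₁ hL 1 hfin
  obtain ⟨f, hf⟩ : ∃ f : W β₁ 1, f ≠ 0 := by
    by_contra h
    push_neg at h
    haveI : Subsingleton (W β₁ 1) := ⟨fun a b => (h a).trans (h b).symm⟩
    have := Module.finrank_zero_of_subsingleton (R := k) (M := W β₁ 1)
    omega
  obtain ⟨t, ht⟩ := exists_section_of_mem_W β₁ hL f.2
  obtain ⟨φ⟩ := cl_eq_iff.1 (show PicF.cl (CohB1.tensorPow L 1) = PicF.cl L by rw [cl_tensorPow, pow_one])
  let s : Γ(L, ⊤) := φ.hom.app ⊤ t
  have hs : genericPoint A.left ∈ TrivBasic.locus s := by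
    refine mem_locus_of_rho_ne_zero β₁ s fun h0 => ?_
    have hst : s = 0 := rho_injective β₁ hL (U := ⊤) trivial (h0.trans (by
      refine (rho_eq β₁ _ 0 ?_).symm
      rw [map_zero]; exact zero_smul _ _))
    have ht0 : t = 0 := by
      have := congrArg (φ.inv.app ⊤) hst
      rw [map_zero] at this
      refine Eq.trans ?_ this
      show t = (φ.hom.app ⊤ ≫ φ.inv.app ⊤) t
      rw [← Scheme.Modules.Hom.comp_app, Iso.hom_inv_id]
      rfl
    refine hf (Subtype.ext ?_)
    rw [← ht, ht0]
    exact rho_eq _ _ _ (by rw [map_zero]; exact zero_smul _ _)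
  exact ⟨s, frameOf s hs, rho_frameOf s hs⟩

/-- **Finiteness of function fields.** Over a finite field, finitely many fields are function fields of abelian
varieties of dimension `g` with an ample module `L` such that `L ^ n` has `c * n ^ g` sections. -/
theorem exists_finite_functionFields [Finite k] (g c : ℕ) (hc : 1 ≤ c) :
    ∃ (J : Type u) (_ : Finite J) (F : J → Type u) (_ : ∀ j, Field (F j)) (_ : ∀ j, Algebra k (F j)),
      ∀ (A : Over (Spec (CommRingCat.of k))) [GrpObj A] [IsProper A.hom] [GeometricallyIntegral A.hom]
        [IsIntegral A.left] (L : A.left.Modules),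
        CohB1.IsAmple L → topologicalKrullDim A.left = g →
        letI : A.left.Over (Spec (CommRingCat.of k)) := ⟨A.hom⟩
        (∀ n, 1 ≤ n → Module.Finite k (Coh.HH A.left (CohB1.tensorPow L n) 0) ∧
          Module.finrank k (Coh.HH A.left (CohB1.tensorPow L n) 0) = c * n ^ g) →
        ∃ j, Nonempty (A.left.functionField ≃ₐ[k] F j) := by
  classical
  obtain ⟨C, hC1, hC⟩ := exists_C g
  let N := c * (C * 2) ^ g
  let n₀ := (g + 1).factorial * N + 1
  obtain ⟨J, hJ, F, i1, i2, hF⟩ := exists_finite_fields k g N n₀
  refine ⟨J, hJ, F, i1, i2, fun A _ _ _ _ L hL hg => ?_⟩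
  letI : A.left.Over (Spec (CommRingCat.of k)) := ⟨A.hom⟩
  intro hdim
  obtain ⟨s, β, hs⟩ := exists_section_ne_zero hL.1 hc (hdim 1 le_rfl).1 (by rw [(hdim 1 le_rfl).2, one_pow, mul_one])
  have hW : ∀ n, 1 ≤ n → Module.Finite k (W β n) ∧ Module.finrank k (W β n) = c * n ^ g := fun n hn =>
    ⟨(finrank_W β hL.1 n (hdim n hn).1).1, (finrank_W β hL.1 n (hdim n hn).1).2.trans (hdim n hn).2⟩
  obtain ⟨hfinW, hrkW⟩ := hW (C * 2) (by omega)
  haveI := hfinW
  let bW := Module.finBasisOfFinrankEq k (W β (C * 2)) hrkW
  let x : Fin N → A.left.functionField := fun i => (bW i : A.left.functionField)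
  -- generation, descended from an algebraic closure
  have hgen : IntermediateField.adjoin k (Set.range x) = ⊤ := by
    let Ω := AlgebraicClosure k
    let A' : Over (Spec (CommRingCat.of Ω)) := (Over.pullback (tΩ k Ω)).obj A
    letI : GrpObj A' := Functor.grpObjObj
    let q : A'.left ⟶ A.left := pullback.fst A.hom (tΩ k Ω)
    have hq : IsPullback q A'.hom A.hom (tΩ k Ω) := IsPullback.of_hasPullback A.hom (tΩ k Ω)
    haveI : IsProper A'.hom := MorphismProperty.of_isPullback hq inferInstance
    haveI : GeometricallyIntegral A'.hom := MorphismProperty.of_isPullback hq inferInstance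
    haveI : IsIntegral A'.left := GeometricallyIntegral.isIntegral_of_subsingleton A'.hom
    haveI : IsAffineHom q := MorphismProperty.of_isPullback hq.flip inferInstance
    have hL' : CohB1.IsAmple ((Scheme.Modules.pullback q).obj L) := Groth.Agent.RGLib.Lim8.isAmple_pullback_affine q hL
    have hg' : topologicalKrullDim A'.left = g := (FibDim.topologicalKrullDim_baseChange hq).trans hg
    have hdim' : ∀ n, 1 ≤ n → Module.Finite Ω (W (pullFrame hq β) n) ∧
        Module.finrank Ω (W (pullFrame hq β) n) = c * n ^ g := fun n hn => by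
      haveI := (hW n hn).1
      exact ⟨(finrank_W_pull hq β hL.1 n).1, (finrank_W_pull hq β hL.1 n).2.trans (hW n hn).2⟩
    have htop := adjoin_W_eq_top hL' (pullFrame hq β) (InvX.pullElt q s)
      (((rho_pull hq β hL.1 (U := ⊤) trivial s)).trans (by rw [hs, map_one])) hg' hdim' C hC1 hC
    rw [W_eq_span hq β hL.1] at htop
    letI := qExt hq
    letI : Algebra k A'.left.functionField :=
      ((algebraMap Ω A'.left.functionField).comp (algebraMap k Ω)).toAlgebra
    haveI : IsScalarTower k A.left.functionField A'.left.functionField :=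
      IsScalarTower.of_algebraMap_eq fun a => (qf_algebraMap hq a).symm
    haveI : IsScalarTower k Ω A'.left.functionField := IsScalarTower.of_algebraMap_eq fun _ => rfl
    refine eq_top_iff.2 fun y _ => mem_adjoin_of_mem_adjoin (Ω := Ω) (L' := A'.left.functionField)
      (fun v hv => linearIndependent_constants hq v hv) _ y ?_
    have hle : IntermediateField.adjoin Ω (↑(Submodule.span Ω (qf hq '' W β (C * 2))) : Set A'.left.functionField) ≤
        IntermediateField.adjoin Ω (algebraMap A.left.functionField A'.left.functionField '' Set.range x) := by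
      rw [IntermediateField.adjoin_le_iff]
      intro f hf
      induction hf using Submodule.span_induction with
      | mem f hf =>
        obtain ⟨w, hw, rfl⟩ := hf
        have hwsum : w = ∑ i, bW.repr ⟨w, hw⟩ i • x i := by
          have h := congrArg Subtype.val (bW.sum_repr ⟨w, hw⟩)
          rw [Submodule.coe_sum] at h
          exact h.symm
        rw [hwsum, map_sum]
        refine sum_mem fun i _ => ?_
        rw [Algebra.smul_def, map_mul, qf_algebraMap]
        exact mul_mem (IntermediateField.algebraMap_mem _ _) (IntermediateField.subset_adjoin Ω _ ⟨x i, ⟨i, rfl⟩, rfl⟩)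
      | zero => exact zero_mem _
      | add a b _ _ ha hb => exact add_mem ha hb
      | smul a b _ hb => rw [Algebra.smul_def]; exact mul_mem (IntermediateField.algebraMap_mem _ _) hb
    exact hle (htop ▸ IntermediateField.mem_top)
  refine hF A.left.functionField x hgen ?_ ?_
  · -- a transcendence basis among the generators
    haveI : Algebra.IsAlgebraic (Algebra.adjoin k (Set.range x)) A.left.functionField := by
      refine ⟨fun y => ?_⟩
      obtain ⟨r, hr, r', hr', rfl⟩ := IntermediateField.mem_adjoin_iff_div.1 (hgen ▸ IntermediateField.mem_top (x := y))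
      rw [div_eq_mul_inv]
      exact (isAlgebraic_algebraMap (⟨r, hr⟩ : Algebra.adjoin k (Set.range x))).mul
        (isAlgebraic_algebraMap (⟨r', hr'⟩ : Algebra.adjoin k (Set.range x))).inv
    obtain ⟨u, hu, hub⟩ := exists_isTranscendenceBasis_subset (R := k) (Set.range x)
    have hcard : Cardinal.mk u = g := hub.cardinalMk_eq_trdeg.trans (trdeg_eq_dim hg)
    haveI : Fintype u := ((Set.finite_range x).subset hu).fintype
    have hcu : Fintype.card u = g := by
      rw [Cardinal.mk_fintype] at hcard
      exact_mod_cast hcard
    choose p hp using fun y : u => hu y.2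
    refine ⟨fun j => p ((Fintype.equivFinOfCardEq hcu).symm j), ?_⟩
    have h2 := hub.1.comp _ (Fintype.equivFinOfCardEq hcu).symm.injective
    have e : x ∘ (fun j => p ((Fintype.equivFinOfCardEq hcu).symm j)) =
        ((↑) : u → A.left.functionField) ∘ (Fintype.equivFinOfCardEq hcu).symm := funext fun j => hp _
    rw [e]
    exact h2
  · -- relations by counting
    intro t
    let y := x ∘ t
    by_contra h
    push_neg at h
    have hmem : ∀ d : Fin (g + 1) →₀ ℕ, ∀ m, d.sum (fun _ e => e) ≤ m →
        MvPolynomial.aeval y (MvPolynomial.monomial d (1 : k)) ∈ W β (m * (C * 2)) := by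
      intro d m hdm
      have h1W : ∀ j, (1 : A.left.functionField) ∈ W β j := fun j => by
        induction j with
        | zero => exact one_mem_W_zero β
        | succ j ih => simpa using mul_mem_W β j 1 _ _ ih (one_mem_W_one β s hs)
      have hprod : ∀ D : Fin (g + 1) →₀ ℕ,
          MvPolynomial.aeval y (MvPolynomial.monomial D (1 : k)) ∈ W β (D.sum (fun _ e => e) * (C * 2)) := by
        intro D
        induction D using Finsupp.induction_linear with
        | zero => simpa using one_mem_W_zero β
        | add D D' hD hD' =>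
          rw [← one_mul (1 : k), ← MvPolynomial.monomial_mul, map_mul, Finsupp.sum_add_index' (fun _ => rfl)
            (fun _ _ _ => rfl), add_mul]
          exact mul_mem_W β _ _ _ _ hD hD'
        | single i e =>
          rw [MvPolynomial.aeval_monomial, map_one, one_mul, Finsupp.prod_single_index (h := fun i k' => y i ^ k') (pow_zero _),
            Finsupp.sum_single_index rfl]
          induction e with
          | zero => simpa using one_mem_W_zero β
          | succ e ih =>
            rw [pow_succ, Nat.succ_mul]
            exact mul_mem_W β _ _ _ _ ih (bW (t i)).2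
      have := mul_mem_W β _ _ _ _ (hprod d) (h1W ((m - d.sum (fun _ e => e)) * (C * 2)))
      rwa [mul_one, ← add_mul, Nat.add_sub_cancel' hdm] at this
    obtain ⟨hfn, hrn⟩ := hW (n₀ * (C * 2)) (Nat.one_le_iff_ne_zero.2 (by positivity))
    haveI := hfn
    let v : Sym (Fin (g + 2)) n₀ → W β (n₀ * (C * 2)) := fun σ =>
      ⟨MvPolynomial.aeval y (MvPolynomial.monomial (symExp σ) (1 : k)), hmem _ _ (by
        rw [Finsupp.sum_fintype _ _ (fun _ => rfl)]
        simp only [symExp_apply]
        calc ∑ i : Fin (g + 1), Multiset.count i.succ (σ : Multiset (Fin (g + 2)))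
            ≤ ∑ i : Fin (g + 2), Multiset.count i (σ : Multiset (Fin (g + 2))) := by
              conv_rhs => rw [Fin.sum_univ_succ]
              exact Nat.le_add_left _ _
          _ = n₀ := by rw [Multiset.sum_count_eq_card (fun a _ => Finset.mem_univ a)]; exact σ.2)⟩
    have hv : LinearIndependent k v := by
      refine LinearIndependent.of_comp (Submodule.subtype _) ?_
      rw [Fintype.linearIndependent_iff]
      intro a ha σ
      let f : MvPolynomial (Fin (g + 1)) k := ∑ σ, MvPolynomial.monomial (symExp σ) (a σ)
      have hfd : f.totalDegree ≤ n₀ := by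
        refine (MvPolynomial.totalDegree_finsetSum_le ?_)
        intro σ _
        refine (MvPolynomial.totalDegree_monomial_le _ _).trans ?_
        rw [Finsupp.sum_fintype _ _ (fun _ => rfl)]
        simp only [symExp_apply]
        calc ∑ i : Fin (g + 1), Multiset.count i.succ (σ : Multiset (Fin (g + 2)))
            ≤ ∑ i : Fin (g + 2), Multiset.count i (σ : Multiset (Fin (g + 2))) := by
              conv_rhs => rw [Fin.sum_univ_succ]
              exact Nat.le_add_left _ _
          _ = n₀ := by rw [Multiset.sum_count_eq_card (fun a _ => Finset.mem_univ a)]; exact σ.2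
      have hf0 : f = 0 := by
        by_contra hne
        refine h f hne hfd ?_
        rw [map_sum, ← ha]
        refine Finset.sum_congr rfl fun σ _ => ?_
        show _ = a σ • MvPolynomial.aeval y (MvPolynomial.monomial (symExp σ) (1 : k))
        rw [← map_smul, MvPolynomial.smul_monomial, smul_eq_mul, mul_one]
      have h3 := congrArg (MvPolynomial.coeff (symExp σ)) hf0
      rw [MvPolynomial.coeff_sum, MvPolynomial.coeff_zero, Finset.sum_eq_single σ, MvPolynomial.coeff_monomial,
        if_pos rfl] at h3
      · exact h3
      · intro τ _ hτ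
        rw [MvPolynomial.coeff_monomial, if_neg fun e => hτ (symExp_injective e)]
      · simp
    have hcard := hv.fintype_card_le_finrank
    rw [hrn, ← Nat.card_eq_fintype_card, card_sym, mul_pow, mul_comm (n₀ ^ g), ← mul_assoc] at hcard
    have h4 := pow_le_choose_mul_factorial (g + 1) n₀
    have h5 : n₀ ^ g * n₀ ≤ n₀ ^ g * ((g + 1).factorial * N) := by
      calc n₀ ^ g * n₀ = n₀ ^ (g + 1) := (pow_succ _ _).symm
        _ ≤ _ := h4
        _ ≤ N * n₀ ^ g * (g + 1).factorial := Nat.mul_le_mul_right _ hcard
        _ = _ := by ring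
    have h6 := Nat.le_of_mul_le_mul_left h5 (pow_pos (Nat.succ_pos _) g)
    exact absurd h6 (Nat.not_succ_le_self _)

end Groth.Agent.TateIsog
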