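import Groth.Agent.TateIsog.Fields
import Groth.Agent.TateIsog.Birat
import Groth.Agent.AVEuler.Homog
import Groth.Agent.AVEuler.AmpleVanishingField
import Groth.Agent.AmpleX.RelAffine
import Groth.Agent.CurveCohLib.Proper
import Groth.Agent.VolLib.UnifStep
import Groth.Agent.AbSchCube.Omega

/-!
# Finiteness of abelian varieties with an ample module of given Euler characteristic over a finite field
-/

noncomputable section

set_option linter.style.haveILetI false
set_option linter.unusedSectionVars false
set_option backward.isDefEq.respectTransparency false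
set_option backward.isDefEq.respectTransparency.types false
set_option maxHeartbeats 1000000
set_option autoImplicit false

universe u

open CategoryTheory CategoryTheory.Limits AlgebraicGeometry TopologicalSpace

namespace Groth.Agent.TateIsog

open Groth.Agent Groth.Agent.AVDegLib Groth.Agent.H23 Groth.Agent.H23.PicMul

variable {k : Type u} [Field k]

theorem smooth_av (A : Over (Spec (CommRingCat.of k))) [GrpObj A] [IsProper A.hom] [GeometricallyIntegral A.hom] :
    Smooth A.hom := by
  haveI : Flat A.hom := inferInstance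
  exact AbSchCube.smooth_hom A

/-- The sections of the powers of an ample module on an abelian variety. -/
theorem h0_tensorPow (A : Over (Spec (CommRingCat.of k))) [GrpObj A] [IsProper A.hom] [GeometricallyIntegral A.hom]
    {L : A.left.Modules} (hL : CohB1.IsAmple L) {g : ℕ} (hg : topologicalKrullDim A.left = g) :
    letI : A.left.Over (Spec (CommRingCat.of k)) := ⟨A.hom⟩
    ∀ c : ℕ, Curv2.euler k A.left L = c →
      1 ≤ c ∧ ∀ n, 1 ≤ n → Module.Finite k (Coh.HH A.left (CohB1.tensorPow L n) 0) ∧
        Module.finrank k (Coh.HH A.left (CohB1.tensorPow L n) 0) = c * n ^ g := by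
  letI : A.left.Over (Spec (CommRingCat.of k)) := ⟨A.hom⟩
  haveI : IsProper (A.left ↘ Spec (CommRingCat.of k)) := ‹IsProper A.hom›
  haveI := CurveCohLib.isNoetherian_of_proper (k := k) (X := A.left)
  haveI := smooth_av A
  haveI : GeometricallyConnected A.hom := H23.CubeAb.geometricallyConnected_of_integral A.hom
  intro c hc
  have hfin : ∀ M : A.left.Modules, CohB1.IsAmple M → Module.Finite k (Coh.HH A.left M 0) := fun M hM =>
    CurveCohLib.finite_HH (AmpleVan.isCoh_invertible hM.1) 0
  refine ⟨?_, fun n hn => ?_⟩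
  · obtain ⟨h1, h2⟩ := AVEuler.ample_vanishing_field hL
    rw [VolLib.euler_one (k := k) h1, VolLib.dimH_def] at hc
    haveI := hfin L hL
    have := Module.finrank_pos (R := k) (M := Coh.HH A.left L 0)
    omega
  have hn' := AmpleX.isAmple_tensorPow hL (show 0 < n by omega)
  refine ⟨hfin _ hn', ?_⟩
  obtain ⟨M, hM, hLM⟩ : ∃ M : A.left.Modules, PicF.IsInvertible M ∧ PicF.cl L * PicF.cl M = 1 := by
    obtain ⟨M, hM, ⟨e⟩⟩ := PicInv.exists_inverse hL.1
    exact ⟨M, hM, by rw [← cl_tensor, one_def]; exact cl_eq_iff.2 ⟨e⟩⟩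
  have h := AVEuler.euler_homogeneous hg hL.1 hM hLM n 0
  rw [hc, Nat.cast_zero, sub_zero] at h
  have he : Curv2.euler k A.left (CohB1.tensorMod (CohB1.tensorPow L n) (CohB1.tensorPow M 0)) =
      Curv2.euler k A.left (CohB1.tensorPow L n) := by
    refine CurveCohLib.euler_congr (k := k) (cl_eq_iff.1 ?_).some
    rw [cl_tensor, cl_tensorPow M 0, pow_zero, _root_.mul_one]
  rw [he, VolLib.euler_one (k := k) (AVEuler.ample_vanishing_field hn').1, VolLib.dimH_def, mul_comm] at h
  exact_mod_cast h

/-- **Finiteness.** Over a finite field there are, up to isomorphism, only finitely many abelian varieties of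
dimension `g` with an ample module of Euler characteristic `c`. -/
theorem exists_finite_avs [Finite k] (g c : ℕ) :
    ∃ (n : ℕ) (Bs : Fin n → Over (Spec (CommRingCat.of k))),
      ∀ (B : Over (Spec (CommRingCat.of k))) [GrpObj B] [IsProper B.hom] [GeometricallyIntegral B.hom]
        (L : B.left.Modules), CohB1.IsAmple L → topologicalKrullDim B.left = g →
        letI : B.left.Over (Spec (CommRingCat.of k)) := ⟨B.hom⟩
        Curv2.euler k B.left L = c → ∃ i, Nonempty (B ≅ Bs i) := by
  classical
  rcases Nat.eq_zero_or_pos c with rfl | hc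
  · exact ⟨0, Fin.elim0, fun B _ _ _ L hL hg hE => absurd (h0_tensorPow B hL hg 0 hE).1 (by omega)⟩
  obtain ⟨J, hJ, F, i1, i2, hF⟩ := exists_finite_functionFields (k := k) g c hc
  let P : J → Prop := fun j => ∃ (B : Over (Spec (CommRingCat.of k))) (_ : GrpObj B) (_ : IsProper B.hom)
    (_ : GeometricallyIntegral B.hom) (hi : IsIntegral B.left),
      Nonempty (B.left.functionField ≃ₐ[k] F j)
  haveI : Fintype {j // P j} := Fintype.ofFinite _
  choose B₀ i3 i4 i5 i6 e₀ using fun j : {j // P j} => j.2
  refine ⟨Fintype.card {j // P j}, fun i => B₀ ((Fintype.equivFin _).symm i), fun B _ _ _ L hL hg => ?_⟩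
  letI : B.left.Over (Spec (CommRingCat.of k)) := ⟨B.hom⟩
  intro hE
  haveI : IsIntegral B.left := GeometricallyIntegral.isIntegral_of_subsingleton B.hom
  obtain ⟨-, hdim⟩ := h0_tensorPow B hL hg c hE
  obtain ⟨j, ⟨e⟩⟩ := hF B L hL hg hdim
  let j' : {j // P j} := ⟨j, B, inferInstance, inferInstance, inferInstance, inferInstance, ⟨e⟩⟩
  refine ⟨Fintype.equivFin _ j', ?_⟩
  simp only [Equiv.symm_apply_apply]
  letI := i3 j'; haveI := i4 j'; haveI := i5 j'; haveI := i6 j'
  haveI := smooth_av B
  haveI := smooth_av (B₀ j')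
  haveI : GeometricallyConnected B.hom := H23.CubeAb.geometricallyConnected_of_integral B.hom
  haveI : GeometricallyConnected (B₀ j').hom := H23.CubeAb.geometricallyConnected_of_integral (B₀ j').hom
  obtain ⟨e'⟩ := e₀ j'
  exact nonempty_iso_of_ff B (B₀ j') (e.trans e'.symm)

end Groth.Agent.TateIsog
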