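import Groth.Agent.TateIsog.Range
import Groth.Agent.AVFrobLib.Exist
import Groth.Agent.AVFrobLib.Rosati
import Groth.Agent.GalPts.Main
import Mathlib.FieldTheory.Finite.GaloisField

/-!
# The Frobenius endomorphism generates the Galois action on the Tate module
-/

noncomputable section

set_option autoImplicit false
set_option linter.style.haveILetI false
set_option linter.unusedSectionVars false
set_option backward.isDefEq.respectTransparency false
set_option backward.isDefEq.respectTransparency.types false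
set_option maxHeartbeats 1000000
set_option synthInstance.maxHeartbeats 200000

universe u

open CategoryTheory CategoryTheory.Limits MonoidalCategory CartesianMonoidalCategory MonObj GrpObj AlgebraicGeometry
open scoped TensorProduct

namespace Groth.Agent.TateIsog

open Groth.Agent

variable {k Ω : Type u} [Field k] [Finite k] [Field Ω] [Algebra k Ω] [IsAlgClosure k Ω]

local notation "pΩ" => SGA7.pt (K := k) Ω

variable (k Ω) in
/-- The Frobenius automorphism of the algebraic closure. -/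
def frobAut : Ω ≃ₐ[k] Ω :=
  haveI : Fintype k := Fintype.ofFinite k
  haveI : Algebra.IsAlgebraic k Ω := IsAlgClosure.isAlgebraic
  FiniteField.frobeniusAlgEquivOfAlgebraic k Ω

theorem frobAut_apply (x : Ω) : frobAut k Ω x = x ^ Nat.card k := by
  letI : Fintype k := Fintype.ofFinite k
  haveI : Algebra.IsAlgebraic k Ω := IsAlgClosure.isAlgebraic
  rw [Nat.card_eq_fintype_card]
  show (FiniteField.frobeniusAlgEquivOfAlgebraic k Ω : Ω → Ω) x = _
  rw [FiniteField.coe_frobeniusAlgEquivOfAlgebraic]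

/-- The Frobenius endomorphism acts on points as the Frobenius automorphism. -/
theorem comp_frobenius {X : Over (Spec (CommRingCat.of k))} (π : X ⟶ X)
    (hπ : WeilLib.IsPowMap π.left (Nat.card k)) (x : pΩ ⟶ X) : x ≫ π = SGA7.specAut (frobAut k Ω) ≫ x := by
  haveI := Fintype.ofFinite k
  obtain ⟨p, hp⟩ := CharP.exists k
  obtain ⟨e, hprime, he⟩ := FiniteField.card k p
  haveI : Fact p.Prime := ⟨hprime⟩
  haveI : CharP (CommRingCat.of k) p := hp
  haveI : CharP Ω p := charP_of_injective_algebraMap (algebraMap k Ω).injective p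
  haveI : CharP (CommRingCat.of Ω) p := ‹CharP Ω p›
  haveI : FrobSch.IsCharP X.left p := FrobSch.IsCharP.of_hom X.hom p
  haveI : FrobSch.IsCharP (Spec (CommRingCat.of Ω)) p :=
    FrobSch.IsCharP.of_hom (Spec.map (CommRingCat.ofHom (algebraMap k Ω))) p
  haveI : FrobSch.IsCharP (SGA7.pt (K := k) Ω).left p := ‹FrobSch.IsCharP (Spec (CommRingCat.of Ω)) p›
  have hq : Nat.card k = p ^ (e : ℕ) := by rw [Nat.card_eq_fintype_card, he]
  refine Over.OverMorphism.ext ?_
  show x.left ≫ π.left = Spec.map (CommRingCat.ofHom (frobAut k Ω : Ω →+* Ω)) ≫ x.left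
  have hσ : Spec.map (CommRingCat.ofHom (frobAut k Ω : Ω →+* Ω)) = AVFrobLib.frobIter p (Spec (CommRingCat.of Ω)) e := by
    rw [AVFrobLib.frobIter_spec]
    refine congrArg Spec.map (CommRingCat.hom_ext (RingHom.ext fun z => ?_))
    show frobAut k Ω z = iterateFrobenius Ω p e z
    rw [frobAut_apply, iterateFrobenius_def, hq]
  rw [AVFrobLib.isPowMap_eq hπ (by rw [hq]; exact AVFrobLib.isPowMap_frobIter p X.left e),
    ← AVFrobLib.frobIter_comp p x.left, hσ]
  rfl

variable (l : ℕ) [Fact l.Prime]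

/-- The Tate map of Frobenius is the Galois action of Frobenius. -/
theorem tate_frobenius {X : Over (Spec (CommRingCat.of k))} [GrpObj X] [IsCommMonObj X] (π : X ⟶ X) [IsMonHom π]
    (hπ : WeilLib.IsPowMap π.left (Nat.card k)) :
    AbDual.tateMapₗ (l := l) (T := pΩ) π = gal l X (frobAut k Ω) :=
  LinearMap.ext fun _ => AbDual.TateMod.ext fun _ => congrArg Additive.ofMul (comp_frobenius π hπ _)

/-- Every point is defined over a finite subfield. -/
theorem exists_field_of_def {X : Over (Spec (CommRingCat.of k))} [LocallyOfFiniteType X.hom] (x : pΩ ⟶ X) :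
    ∃ F : IntermediateField k Ω, FiniteDimensional k F ∧
      ∀ σ τ : Ω ≃ₐ[k] Ω, (∀ a ∈ F, σ a = τ a) → SGA7.specAut σ ≫ x = SGA7.specAut τ ≫ x := by
  haveI := IsAlgClosure.isAlgClosed k (K := Ω)
  haveI : Algebra.IsAlgebraic k Ω := IsAlgClosure.isAlgebraic
  haveI : JacobsonSpace X.left := LocallyOfFiniteType.jacobsonSpace X.hom
  let w := x.left (IsLocalRing.closedPoint Ω)
  have hw : IsClosed ({w} : Set X.left) :=
    ((GalPts.closed_iff_and_galois k Ω X.hom).1 w).2 ⟨x.left, Over.w x, rfl⟩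
  let ψ : CommRingCat.of k ⟶ X.left.residueField w := Spec.preimage (X.left.fromSpecResidueField w ≫ X.hom)
  have hψ : Spec.map ψ = X.left.fromSpecResidueField w ≫ X.hom := Spec.map_preimage _
  letI : Algebra k (X.left.residueField w) := ψ.hom.toAlgebra
  haveI := isClosed_singleton_iff_locallyOfFiniteType.1 hw
  haveI : LocallyOfFiniteType (Spec.map ψ) := by rw [hψ]; infer_instance
  haveI : Algebra.FiniteType k (X.left.residueField w) := by
    rw [← RingHom.finiteType_algebraMap]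
    exact (HasRingHomProperty.Spec_iff (P := @LocallyOfFiniteType)).1 ‹_›
  haveI : Module.Finite k (X.left.residueField w) := finite_of_finite_type_of_isJacobsonRing _ _
  obtain ⟨φ, hfac, hcomm⟩ : ∃ φ : X.left.residueField w ⟶ CommRingCat.of Ω,
      Spec.map φ ≫ X.left.fromSpecResidueField w = x.left ∧ ψ ≫ φ = CommRingCat.ofHom (algebraMap k Ω) := by
    let p : Spec (CommRingCat.of Ω) ⟶ X.left := x.left
    have hfac := Scheme.descResidueField_stalkClosedPointTo_fromSpecResidueField Ω X.left p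
    refine ⟨_, hfac, Spec.map_injective ?_⟩
    rw [Spec.map_comp, hψ, ← Category.assoc]
    exact (congrArg (· ≫ X.hom) hfac).trans (Over.w x)
  let j : X.left.residueField w →ₐ[k] Ω := { φ.hom with commutes' := fun c => congr($hcomm c) }
  haveI : FiniteDimensional k j.fieldRange := inferInstanceAs (Module.Finite k (LinearMap.range j.toLinearMap))
  refine ⟨j.fieldRange, inferInstance, fun σ τ h => Over.OverMorphism.ext ?_⟩
  show Spec.map (CommRingCat.ofHom (σ : Ω →+* Ω)) ≫ x.left = Spec.map (CommRingCat.ofHom (τ : Ω →+* Ω)) ≫ x.left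
  rw [← hfac, ← Category.assoc, ← Category.assoc, ← Spec.map_comp, ← Spec.map_comp]
  congr 2
  exact CommRingCat.hom_ext (RingHom.ext fun z => h _ ⟨z, rfl⟩)

/-- Powers of the Frobenius action. -/
theorem gal_pow {X : Over (Spec (CommRingCat.of k))} [GrpObj X] [IsCommMonObj X] (σ : Ω ≃ₐ[k] Ω) (i : ℕ) :
    (gal l X σ) ^ i = gal l X (σ ^ i) := by
  induction i with
  | zero =>
    refine LinearMap.ext fun z => AbDual.TateMod.ext fun m => Additive.toMul.injective ?_
    show ((z : ℕ → Additive (pΩ ⟶ X)) m).toMul = SGA7.specAut (σ ^ 0) ≫ ((z : ℕ → Additive (pΩ ⟶ X)) m).toMul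
    have h : SGA7.specAut (1 : Ω ≃ₐ[k] Ω) = 𝟙 pΩ := Over.OverMorphism.ext (Spec.map_id _)
    rw [pow_zero, h, Category.id_comp]
  | succ i ih =>
    rw [pow_succ', ih]
    refine LinearMap.ext fun z => AbDual.TateMod.ext fun m => Additive.toMul.injective ?_
    show SGA7.specAut σ ≫ SGA7.specAut (σ ^ i) ≫ ((z : ℕ → Additive (pΩ ⟶ X)) m).toMul =
      SGA7.specAut (σ ^ (i + 1)) ≫ ((z : ℕ → Additive (pΩ ⟶ X)) m).toMul
    rw [← Category.assoc]
    congr 1
    refine Over.OverMorphism.ext ?_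
    show Spec.map _ ≫ Spec.map _ = Spec.map _
    rw [← Spec.map_comp, pow_succ']
    rfl

/-- The `l`-power torsion of the components divides. -/
theorem exists_eq_pow_smul {X : Over (Spec (CommRingCat.of k))} [GrpObj X] [IsCommMonObj X] (m : ℕ)
    (d : AbDual.TateMod X l pΩ) (hd : AbDual.TateMod.component X l pΩ m d = 0) :
    ∃ t : AbDual.TateMod X l pΩ, d = ((l : ℤ_[l]) ^ m) • t := by
  have hcompat : ∀ a i : ℕ, (l ^ i) • (d : ℕ → Additive (pΩ ⟶ X)) (a + i) = (d : ℕ → Additive (pΩ ⟶ X)) a := by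
    intro a i
    induction i generalizing a with
    | zero => rw [pow_zero, one_nsmul, add_zero]
    | succ i ih => rw [pow_succ, mul_nsmul', ← add_assoc, AbDual.TateMod.compat d (a + i), ih]
  let t : AbDual.TateMod X l pΩ := ⟨fun a => (d : ℕ → Additive (pΩ ⟶ X)) (a + m),
    ⟨fun a => by
      show (l ^ a) • (d : ℕ → Additive (pΩ ⟶ X)) (a + m) = 0
      rw [show a + m = m + a by omega, hcompat]
      exact hd,
     fun a => by
      show l • (d : ℕ → Additive (pΩ ⟶ X)) (a + 1 + m) = (d : ℕ → Additive (pΩ ⟶ X)) (a + m)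
      rw [show a + 1 + m = a + m + 1 by omega]
      exact AbDual.TateMod.compat d (a + m)⟩⟩
  refine ⟨t, AbDual.TateMod.ext fun a => ?_⟩
  show _ = ((((l : ℤ_[l]) ^ m) • t : AbDual.TateMod X l pΩ) : ℕ → Additive (pΩ ⟶ X)) a
  rw [← Nat.cast_pow, Nat.cast_smul_eq_nsmul]
  show _ = (l ^ m) • (d : ℕ → Additive (pΩ ⟶ X)) (a + m)
  rw [hcompat]

/-- **Frobenius generates.** The Galois action lies in the span of the powers of Frobenius. -/
theorem gal_mem_span (hl : (l : k) ≠ 0) (X : Over (Spec (CommRingCat.of k))) [GrpObj X] [IsCommMonObj X]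
    [IsProper X.hom] [GeometricallyIntegral X.hom] (τ : Ω ≃ₐ[k] Ω) :
    gal l X τ ∈ Submodule.span ℤ_[l] (Set.range fun i : ℕ => gal l X (frobAut k Ω) ^ i) := by
  classical
  haveI := IsAlgClosure.isAlgClosed k (K := Ω)
  haveI : Algebra.IsAlgebraic k Ω := IsAlgClosure.isAlgebraic
  obtain ⟨g, hg⟩ := TorsPtsLib.exists_dim X
  obtain ⟨hfree, hfin, -⟩ := AVHomForm.tate_free Ω l hl X hg
  haveI := hfree; haveI := hfin
  refine mem_of_forall_pow l fun m => ?_
  have hlΩ : ((l ^ m : ℕ) : Ω) ≠ 0 := by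
    rw [← map_natCast (algebraMap k Ω), Nat.cast_pow]
    exact (map_ne_zero _).mpr (pow_ne_zero m hl)
  have hcard := (TorsPtsLib.geom_points (Spec.map (CommRingCat.ofHom (algebraMap k Ω))) X hg).2.1 (l ^ m) hlΩ
  haveI : Finite (AbDual.torsPts X (l ^ m) pΩ) := Nat.finite_of_card_ne_zero (by
    rw [hcard]
    exact pow_ne_zero _ (pow_ne_zero _ (Fact.out : l.Prime).ne_zero))
  choose F hFfin hF using fun a : AbDual.torsPts X (l ^ m) pΩ => exists_field_of_def (Ω := Ω) (a : pΩ ⟶ X)
  haveI : ∀ a, FiniteDimensional k (F a) := hFfin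
  let E : IntermediateField k Ω := ⨆ a, F a
  haveI : FiniteDimensional k E := IntermediateField.finiteDimensional_iSup_of_finite
  haveI : Finite E := Module.finite_of_finite k
  haveI : Fintype k := Fintype.ofFinite k
  obtain ⟨⟨i, hi⟩, hiτ⟩ := (FiniteField.bijective_frobeniusAlgEquivOfAlgebraic_pow k E).2 (τ.restrictNormal E)
  have hagree : ∀ a ∈ E, τ a = ((frobAut k Ω) ^ i) a := fun a ha => by
    have h1 : (τ.restrictNormal E ⟨a, ha⟩ : Ω) = τ a := AlgEquiv.restrictNormal_commutes τ E ⟨a, ha⟩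
    rw [← h1, ← hiτ, AlgEquiv.coe_pow, AlgEquiv.coe_pow, FiniteField.coe_frobeniusAlgEquivOfAlgebraic]
    have hf : (⇑(frobAut k Ω) : Ω → Ω) = fun z => z ^ Fintype.card k :=
      funext fun z => by rw [frobAut_apply, Nat.card_eq_fintype_card]
    rw [hf, pow_iterate, pow_iterate]
    rfl
  refine ⟨gal l X (frobAut k Ω) ^ i, Submodule.subset_span ⟨i, rfl⟩, ?_⟩
  have hz : ∀ z, AbDual.TateMod.component X l pΩ m ((gal l X τ - gal l X (frobAut k Ω) ^ i) z) = 0 := fun z => by
    rw [LinearMap.sub_apply, map_sub, sub_eq_zero, gal_pow]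
    exact Additive.toMul.injective (hF ⟨_, AbDual.TateMod.component_mem z m⟩ _ _ fun a ha =>
      hagree a ((le_iSup F _) ha))
  choose D hD using fun j => exists_eq_pow_smul l m _ (hz (Module.Free.chooseBasis ℤ_[l] (AbDual.TateMod X l pΩ) j))
  refine ⟨(Module.Free.chooseBasis ℤ_[l] (AbDual.TateMod X l pΩ)).constr ℤ_[l] D, ?_⟩
  refine (Module.Free.chooseBasis ℤ_[l] (AbDual.TateMod X l pΩ)).ext fun j => ?_
  rw [LinearMap.add_apply, LinearMap.smul_apply, Module.Basis.constr_basis, ← hD j, LinearMap.sub_apply,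
    add_sub_cancel]

/-- What commutes with Frobenius commutes with Galois, rationally. -/
theorem comm_gal_of_frobenius (hl : (l : k) ≠ 0) {A B : Over (Spec (CommRingCat.of k))} [GrpObj A] [IsCommMonObj A]
    [IsProper A.hom] [GeometricallyIntegral A.hom] [GrpObj B] [IsCommMonObj B] [IsProper B.hom]
    [GeometricallyIntegral B.hom]
    (φ : ℚ_[l] ⊗[ℤ_[l]] AbDual.TateMod A l pΩ →ₗ[ℚ_[l]] ℚ_[l] ⊗[ℤ_[l]] AbDual.TateMod B l pΩ)
    (h : φ ∘ₗ (gal l A (frobAut k Ω)).baseChange ℚ_[l] = (gal l B (frobAut k Ω)).baseChange ℚ_[l] ∘ₗ φ)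
    (τ : Ω ≃ₐ[k] Ω) :
    φ ∘ₗ (gal l A τ).baseChange ℚ_[l] = (gal l B τ).baseChange ℚ_[l] ∘ₗ φ := by
  haveI : IsProper (A ⊗ B).hom := isProper_tensor_av _ _
  haveI : GeometricallyIntegral (A ⊗ B).hom := H23.MaxAbelian.geometricallyIntegral_tensor A B
  haveI : IsCommMonObj (A ⊗ B) := isCommMonObj_of_isProper_of_geometricallyIntegral _
  -- transport to the product
  let jA : A ⟶ A ⊗ B := lift (𝟙 A) 1
  let jB : B ⟶ A ⊗ B := lift 1 (𝟙 B)
  haveI : IsMonHom jA := GrpSchLib.RigidHom.isMonHom_of_one _ (by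
    apply CartesianMonoidalCategory.hom_ext <;> simp [jA, eta_eq_one, MonObj.comp_one, MonObj.one_comp])
  haveI : IsMonHom jB := GrpSchLib.RigidHom.isMonHom_of_one _ (by
    apply CartesianMonoidalCategory.hom_ext <;> simp [jB, eta_eq_one, MonObj.comp_one, MonObj.one_comp])
  let IA := (AbDual.tateMapₗ (l := l) (T := pΩ) jA).baseChange ℚ_[l]
  let IB := (AbDual.tateMapₗ (l := l) (T := pΩ) jB).baseChange ℚ_[l]
  let PA := (AbDual.tateMapₗ (l := l) (T := pΩ) (fst A B)).baseChange ℚ_[l]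
  let PB := (AbDual.tateMapₗ (l := l) (T := pΩ) (snd A B)).baseChange ℚ_[l]
  let Φ : Module.End ℚ_[l] (ℚ_[l] ⊗[ℤ_[l]] AbDual.TateMod (A ⊗ B) l pΩ) := IB ∘ₗ φ ∘ₗ PA
  have hn : ∀ {C D : Over (Spec (CommRingCat.of k))} [GrpObj C] [IsCommMonObj C] [GrpObj D] [IsCommMonObj D]
      (f : C ⟶ D) [IsMonHom f] (σ : Ω ≃ₐ[k] Ω) (v : ℚ_[l] ⊗[ℤ_[l]] AbDual.TateMod C l pΩ),
      (AbDual.tateMapₗ (l := l) (T := pΩ) f).baseChange ℚ_[l] ((gal l C σ).baseChange ℚ_[l] v) =
        (gal l D σ).baseChange ℚ_[l] ((AbDual.tateMapₗ (l := l) (T := pΩ) f).baseChange ℚ_[l] v) := fun f _ σ v => by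
    rw [← LinearMap.comp_apply, ← LinearMap.baseChange_comp, tate_gal, LinearMap.baseChange_comp]
    rfl
  have hΦ : Commute Φ ((gal l (A ⊗ B) (frobAut k Ω)).baseChange ℚ_[l]) := LinearMap.ext fun v => by
    show IB (φ (PA ((gal l (A ⊗ B) (frobAut k Ω)).baseChange ℚ_[l] v))) = _
    simp only [PA, hn]
    rw [show φ ((gal l A (frobAut k Ω)).baseChange ℚ_[l] _) = _ from LinearMap.congr_fun h _]
    simp only [IB, hn, LinearMap.comp_apply]
    rfl
  have hΦτ : Commute Φ ((gal l (A ⊗ B) τ).baseChange ℚ_[l]) := by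
    suffices ∀ ψ ∈ Submodule.span ℤ_[l] (Set.range fun i : ℕ => gal l (A ⊗ B) (frobAut k Ω) ^ i),
        Commute Φ (ψ.baseChange ℚ_[l]) from this _ (gal_mem_span l hl (A ⊗ B) τ)
    intro ψ hmem
    induction hmem using Submodule.span_induction with
    | mem ψ hψ =>
      obtain ⟨i, rfl⟩ := hψ
      show Commute Φ ((Module.End.baseChangeHom ℤ_[l] ℚ_[l] _) (gal l (A ⊗ B) (frobAut k Ω) ^ i))
      rw [map_pow]
      exact hΦ.pow_right i
    | zero => rw [LinearMap.baseChange_zero]; exact Commute.zero_right _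
    | add a b _ _ ha hb => rw [LinearMap.baseChange_add]; exact ha.add_right hb
    | smul c a _ ha => rw [LinearMap.baseChange_smul, ← algebraMap_smul ℚ_[l] c]; exact ha.smul_right _
  have e1 : ∀ v, PA (IA v) = v := fun v => by
    simp only [PA, IA]
    rw [← LinearMap.comp_apply, ← LinearMap.baseChange_comp, ← tate_comp, tate_eq_id l _ (lift_fst _ _),
      LinearMap.baseChange_id]
    rfl
  have e2 : ∀ v, PB (IB v) = v := fun v => by
    simp only [PB, IB]
    rw [← LinearMap.comp_apply, ← LinearMap.baseChange_comp, ← tate_comp, tate_eq_id l _ (lift_snd _ _),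
      LinearMap.baseChange_id]
    rfl
  refine LinearMap.ext fun v => ?_
  have h2 := congrArg PB (LinearMap.congr_fun hΦτ.eq (IA v))
  simp only [Φ, Module.End.mul_apply, LinearMap.comp_apply] at h2
  simp only [IA, PA, PB, IB, ← hn] at h2 e1 e2
  simp only [e1, e2] at h2
  exact h2

end Groth.Agent.TateIsog
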