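import Groth.Agent.TateIsog.Geometry
import Groth.Agent.AmpleX.Sect
import Groth.Agent.AVDualExist.Stalk
import Groth.Agent.S8120

/-!
# The square of an effective invertible module on an abelian variety has no base points
-/

noncomputable section

set_option linter.style.haveILetI false
set_option linter.unusedSectionVars false
set_option backward.isDefEq.respectTransparency false
set_option backward.isDefEq.respectTransparency.types false
set_option maxHeartbeats 1000000
set_option autoImplicit false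

universe u

open CategoryTheory CategoryTheory.Limits MonoidalCategory CartesianMonoidalCategory MonObj GrpObj AlgebraicGeometry
  TopologicalSpace

namespace Groth.Agent.TateIsog

open Groth.Agent Groth.Agent.H23 Groth.Agent.H23.PicMul

variable {k : Type u} [Field k] [IsAlgClosed k] {A : Over (Spec (CommRingCat.of k))} [GrpObj A] [IsProper A.hom]
  [GeometricallyIntegral A.hom]

local notation "pt₀" => 𝟙_ (Over (Spec (CommRingCat.of k)))

theorem isIso_translation (a : pt₀ ⟶ A) : IsIso (𝟙 A * (toUnit A ≫ a) : A ⟶ A).left := by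
  haveI : IsCommMonObj A := isCommMonObj_of_isProper_of_geometricallyIntegral A
  have h : ∀ a b : pt₀ ⟶ A,
      (𝟙 A * (toUnit A ≫ a)) ≫ (𝟙 A * (toUnit A ≫ b)) = 𝟙 A * (toUnit A ≫ (a * b)) := fun a b => by
    rw [MonObj.comp_mul (f := 𝟙 A * (toUnit A ≫ a)), Category.comp_id, ← Category.assoc,
      toUnit_unique (_ ≫ toUnit A) (toUnit A), _root_.mul_assoc, ← MonObj.comp_mul]
  haveI : IsIso (𝟙 A * (toUnit A ≫ a) : A ⟶ A) := ⟨𝟙 A * (toUnit A ≫ a⁻¹),
    by rw [h, mul_inv_cancel, MonObj.comp_one, _root_.mul_one],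
    by rw [h, inv_mul_cancel, MonObj.comp_one, _root_.mul_one]⟩
  exact (Over.forget _).map_isIso (𝟙 A * (toUnit A ≫ a) : A ⟶ A)

/-- For a module with a nonzero section, every point is off the zero set of some section of its square. -/
theorem exists_section_two [IsIntegral A.left] {L : A.left.Modules} (hL : PicF.IsInvertible L) (s : Γ(L, ⊤))
    (hs : (TrivBasic.locus s : Set A.left).Nonempty) (x : A.left) :
    ∃ t : Γ(CohB1.tensorPow L 2, ⊤), x ∈ TrivBasic.locus t := by
  haveI : IsCommMonObj A := isCommMonObj_of_isProper_of_geometricallyIntegral A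
  haveI : JacobsonSpace A.left := LocallyOfFiniteType.jacobsonSpace A.hom
  haveI : CompactSpace A.left := QuasiCompact.compactSpace_of_compactSpace A.hom
  -- reduce to a closed point
  obtain ⟨x₀, hx₀c, hx₀⟩ : ∃ x₀ ∈ closedPoints A.left, x ⤳ x₀ := by
    obtain ⟨x₀, hx₀c, hx₀⟩ := nonempty_inter_closedPoints (X := A.left) (Z := closure {x}) ⟨x, subset_closure rfl⟩
      isClosed_closure.isLocallyClosed
    exact ⟨x₀, hx₀, specializes_iff_mem_closure.2 hx₀c⟩
  obtain ⟨a, ha⟩ := AVDualExist.exists_rational hx₀c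
  suffices ∃ t : Γ(CohB1.tensorPow L 2, ⊤), x₀ ∈ TrivBasic.locus t by
    obtain ⟨t, ht⟩ := this
    exact ⟨t, hx₀.mem_open (TrivBasic.locus t).isOpen ht⟩
  let tr : (pt₀ ⟶ A) → (A.left ⟶ A.left) := fun b => (𝟙 A * (toUnit A ≫ b) : A ⟶ A).left
  let rf : A ⟶ A := (𝟙 A)⁻¹ * (toUnit A ≫ a)
  have hrf : rf ≫ rf = 𝟙 A := by
    show rf ≫ ((𝟙 A)⁻¹ * (toUnit A ≫ a)) = _
    rw [MonObj.comp_mul, GrpObj.comp_inv, Category.comp_id, ← Category.assoc,
      toUnit_unique (rf ≫ toUnit A) (toUnit A), show rf⁻¹ = ((𝟙 A)⁻¹ * (toUnit A ≫ a))⁻¹ from rfl, _root_.mul_inv, _root_.inv_inv,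
      inv_mul_cancel_right]
  haveI : IsIso rf := ⟨rf, hrf, hrf⟩
  haveI : IsIso rf.left := (Over.forget _).map_isIso rf
  haveI := isIso_translation a
  -- a point `y` with `x + y` and `x - y` in the open set
  let O : A.left.Opens := tr a ⁻¹ᵁ TrivBasic.locus s ⊓ rf.left ⁻¹ᵁ TrivBasic.locus s
  haveI : IrreducibleSpace A.left := inferInstance
  have hne : (O : Set A.left).Nonempty := by
    refine nonempty_preirreducible_inter (tr a ⁻¹ᵁ TrivBasic.locus s).isOpen (rf.left ⁻¹ᵁ TrivBasic.locus s).isOpen ?_ ?_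
    · obtain ⟨z, hz⟩ := hs
      obtain ⟨w, hw⟩ := (tr a).homeomorph.surjective z
      exact ⟨w, show tr a w ∈ TrivBasic.locus s from hw ▸ hz⟩
    · obtain ⟨z, hz⟩ := hs
      obtain ⟨w, hw⟩ := rf.left.homeomorph.surjective z
      exact ⟨w, show rf.left w ∈ TrivBasic.locus s from hw ▸ hz⟩
  obtain ⟨y₀, hy₀, hy₀c⟩ := nonempty_inter_closedPoints hne O.isOpen.isLocallyClosed
  obtain ⟨b, hb⟩ := AVDualExist.exists_rational hy₀c
  have e1 : b ≫ (𝟙 A * (toUnit A ≫ a)) = a ≫ (𝟙 A * (toUnit A ≫ b)) := by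
    rw [MonObj.comp_mul, MonObj.comp_mul, Category.comp_id, Category.comp_id, ← Category.assoc,
      ← Category.assoc, toUnit_unique (b ≫ toUnit A) (𝟙 _), toUnit_unique (a ≫ toUnit A) (𝟙 _), Category.id_comp,
      Category.id_comp, mul_comm]
  have e2 : b ≫ rf = a ≫ (𝟙 A * (toUnit A ≫ b⁻¹)) := by
    show b ≫ ((𝟙 A)⁻¹ * (toUnit A ≫ a)) = _
    rw [MonObj.comp_mul, MonObj.comp_mul, GrpObj.comp_inv, Category.comp_id, Category.comp_id, ← Category.assoc,
      ← Category.assoc, toUnit_unique (b ≫ toUnit A) (𝟙 _), toUnit_unique (a ≫ toUnit A) (𝟙 _), Category.id_comp,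
      Category.id_comp, mul_comm]
  have hmem : ∀ (f g : A ⟶ A), b ≫ f = a ≫ g → f.left y₀ ∈ TrivBasic.locus s → x₀ ∈ g.left ⁻¹ᵁ TrivBasic.locus s :=
    fun f g h hf => by
      show g.left x₀ ∈ TrivBasic.locus s
      rw [← ha, show g.left (a.left _) = (a ≫ g).left (IsLocalRing.closedPoint k) from rfl, ← h]
      rwa [show (b ≫ f).left (IsLocalRing.closedPoint k) = f.left (b.left (IsLocalRing.closedPoint k)) from rfl, hb]
  -- the product of translates
  let σ₁ : Γ((Scheme.Modules.pullback (tr b)).obj L, ⊤) := InvX.pullElt (tr b) s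
  let σ₂ : Γ((Scheme.Modules.pullback (tr b⁻¹)).obj L, ⊤) := InvX.pullElt (tr b⁻¹) s
  have hl : ∀ {M : A.left.Modules} (σ : Γ(M, ⊤)), TrivBasic.locus σ = AmpleX.locus σ := fun σ => by
    rw [TrivBasic.locus, AmpleX.genLocus_eq_locus, InvX.one_ofSect]
  have hx₁ : x₀ ∈ AmpleX.locus σ₁ ⊓ AmpleX.locus σ₂ := by
    refine ⟨?_, ?_⟩
    · have := hmem _ _ e1 hy₀.1
      rw [hl] at this
      exact (AmpleX.locus_pullElt hL (tr b) s).ge this
    · have := hmem _ _ e2 hy₀.2
      rw [hl] at this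
      exact (AmpleX.locus_pullElt hL (tr b⁻¹) s).ge this
  have hcl : PicF.cl (CohB1.tensorMod ((Scheme.Modules.pullback (tr b)).obj L) ((Scheme.Modules.pullback (tr b⁻¹)).obj L)) =
      PicF.cl (CohB1.tensorPow L 2) := by
    obtain ⟨e⟩ := S8120.result k A L hL b b⁻¹
    rw [← cl_eq_iff.2 ⟨e⟩, cl_tensor, cl_tensorPow, sq]
    congr 1
    show PicF.pullCl _ (PicF.cl L) = _
    rw [mul_inv_cancel, MonObj.comp_one, _root_.mul_one, Over.id_left]
    exact cl_eq_iff.2 ⟨(Scheme.Modules.pullbackId _).app L⟩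
  obtain ⟨t, ht⟩ := AmpleX.exists_locus_cl hcl (InvX.tmul σ₁ σ₂)
  refine ⟨t, ?_⟩
  rw [hl, ht, AmpleX.locus_tmul (PicClLib.isInvertible_pullback _ hL) (PicClLib.isInvertible_pullback _ hL)]
  exact hx₁

end Groth.Agent.TateIsog
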