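import Groth.Agent.TateIsog.FieldGen
import Groth.Agent.TateIsog.TwoL
import Groth.Agent.TateIsog.Cut
import Mathlib.RingTheory.AlgebraicIndependent.TranscendenceBasis

/-!
# Generators of bounded degree of the function field of a polarized abelian variety
-/

noncomputable section

set_option linter.style.haveILetI false
set_option linter.unusedSectionVars false
set_option backward.isDefEq.respectTransparency false
set_option backward.isDefEq.respectTransparency.types false
set_option maxHeartbeats 1000000
set_option autoImplicit false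

universe u

open CategoryTheory CategoryTheory.Limits AlgebraicGeometry TopologicalSpace Opposite

namespace Groth.Agent.TateIsog

open Groth.Agent Groth.Agent.AVDegLib Groth.Agent.InvX Groth.Agent.H23

/-- A bound on the degree of generators. -/
theorem exists_C (g : ℕ) : ∃ C, 1 ≤ C ∧ (C + g) ^ g < 2 * C ^ g := by
  refine ⟨2 * g * g + 1, Nat.le_add_left _ _, ?_⟩
  generalize hC : 2 * g * g + 1 = C
  have key : ∀ m, m ≤ g → (C + g) ^ m * (C - m * g) ≤ C ^ m * C := fun m => by
    induction m with
    | zero => simp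
    | succ m ih =>
      intro hm
      have h1 : (C + g) * (C - (m + 1) * g) ≤ C * (C - m * g) := by
        obtain ⟨d, hd⟩ := Nat.exists_eq_add_of_le (show (m + 1) * g ≤ C by nlinarith)
        rw [hd, Nat.add_sub_cancel_left, show (m + 1) * g + d - m * g = g + d by
          rw [show (m + 1) * g + d = m * g + (g + d) by ring, Nat.add_sub_cancel_left]]
        nlinarith
      calc (C + g) ^ (m + 1) * (C - (m + 1) * g) = (C + g) ^ m * ((C + g) * (C - (m + 1) * g)) := by ring
        _ ≤ (C + g) ^ m * (C * (C - m * g)) := Nat.mul_le_mul_left _ h1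
        _ = C * ((C + g) ^ m * (C - m * g)) := by ring
        _ ≤ C * (C ^ m * C) := Nat.mul_le_mul_left _ (ih (by omega))
        _ = C ^ (m + 1) * C := by ring
  have h := key g le_rfl
  have h2 : C < 2 * (C - g * g) := by
    have e : 2 * g * g = 2 * (g * g) := by ring
    omega
  by_contra hne
  push_neg at hne
  have h3 : 0 < C ^ g := pow_pos (by omega) g
  nlinarith [Nat.mul_le_mul_right (C - g * g) hne]

variable {Ω : Type u} [Field Ω] [IsAlgClosed Ω] {A : Over (Spec (CommRingCat.of Ω))} [GrpObj A] [IsProper A.hom]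
  [GeometricallyIntegral A.hom] [IsIntegral A.left] {L : A.left.Modules}

/-- **Generators.** For a polarized abelian variety over an algebraically closed field a bounded piece of the section
ring generates the function field. -/
theorem adjoin_W_eq_top (hL : CohB1.IsAmple L) (β : GenFrame L) (s₀ : Γ(L, ⊤))
    (hs₀ : rho β (U := ⊤) trivial s₀ = 1) {g c : ℕ} (hg : topologicalKrullDim A.left = g)
    (hdim : ∀ n, 1 ≤ n → Module.Finite Ω (W β n) ∧ Module.finrank Ω (W β n) = c * n ^ g)
    (C : ℕ) (hC1 : 1 ≤ C) (hC : (C + g) ^ g < 2 * C ^ g) :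
    IntermediateField.adjoin Ω (W β (C * 2) : Set A.left.functionField) = ⊤ := by
  classical
  haveI : Infinite Ω := inferInstance
  let t₀ : Γ(CohB1.tensorPow L 2, ⊤) := AmpleX.powElt s₀ 2
  have hP₀ : rho (powFrame β 2) (U := ⊤) trivial t₀ = 1 := by rw [rho_pow, hs₀, one_pow]
  have hη : genericPoint A.left ∈ TrivBasic.locus s₀ := by
    obtain ⟨a, ha⟩ := β.he.exists_coord le_rfl (AModX.res L le_top s₀)
    rw [AModX.res_self] at ha
    have hb := TrivBasic.locus_eq_basicOpen β.he ha
    have h := congrArg (rho β β.hη) ha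
    rw [rho_res, rho_smul, rho_self, mul_one, hs₀] at h
    have hmem : genericPoint A.left ∈ A.left.basicOpen a := by
      rw [Scheme.mem_basicOpen _ _ _ β.hη]
      show IsUnit (gm β.U β.hη a)
      rw [← h]; exact isUnit_one
    rw [← hb] at hmem
    exact hmem.1
  have hne : (TrivBasic.locus s₀ : Set A.left).Nonempty := ⟨_, hη⟩
  have hl : ∀ {M : A.left.Modules} (σ : Γ(M, ⊤)), TrivBasic.locus σ = AmpleX.locus σ := fun σ => by
    rw [TrivBasic.locus, AmpleX.genLocus_eq_locus, InvX.one_ofSect]
  have hη₀ : genericPoint A.left ∈ TrivBasic.locus t₀ := by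
    rw [hl, AmpleX.locus_powElt hL.1 s₀ 1, ← hl]; exact hη
  obtain ⟨t, ht⟩ := exists_cut hL.1 β hg t₀ hη₀ (exists_section_two hL.1 s₀ hne)
  let z : Fin g → A.left.functionField := fun j => rho (powFrame β 2) (U := ⊤) trivial (t j)
  let T : Option (Fin g) → Γ(CohB1.tensorPow L 2, ⊤) := fun o => o.elim t₀ t
  have hTcov : ∀ x, ∃ o, x ∈ TrivBasic.locus (T o) := fun x => by
    rcases ht x with h | ⟨j, h⟩
    · exact ⟨none, h⟩
    · exact ⟨some j, h⟩
  have hzW : ∀ i, z i ∈ W β 2 := fun i => rho_mem_W β 2 _
  have hval : ∀ O : ValuationSubring A.left.functionField, (∀ a, algebraMap Ω A.left.functionField a ∈ O) →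
      ∀ w, w = 1 ∨ w ∈ Set.range z → w ≠ 0 → (∀ j, z j / w ∈ O) → w⁻¹ ∈ O →
        ∀ n : ℕ, ∀ f ∈ W β (n * 2), f / w ^ n ∈ O := by
    intro O hO w hw hw0 hzw hw1 n f hf
    obtain ⟨o, rfl⟩ : ∃ o, rho (powFrame β 2) (U := ⊤) trivial (T o) = w := by
      rcases hw with rfl | ⟨j, rfl⟩
      · exact ⟨none, hP₀⟩
      · exact ⟨some j, rfl⟩
    refine poles hL.1 β T hTcov O hO o hw0 (fun l => ?_) n hf
    cases l with
    | none =>
      show rho (powFrame β 2) _ t₀ / _ ∈ O
      rw [hP₀, one_div]; exact hw1
    | some j => exact hzw j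
  have h1 : (1 : A.left.functionField) ∈ W β 1 := one_mem_W_one β s₀ hs₀
  have hfrac := exists_frac hL β
  -- algebraic independence by counting
  have hzi : AlgebraicIndependent Ω z := by
    haveI : Algebra.IsAlgebraic (Algebra.adjoin Ω (Set.range z)) A.left.functionField := by
      haveI : Nontrivial (Algebra.adjoin Ω (Set.range z)) := inferInstance
      have halg : ∀ n, ∀ f ∈ W β (n * 2), IsAlgebraic (Algebra.adjoin Ω (Set.range z)) f := fun n f hf => by
        refine IsIntegral.isAlgebraic (isIntegral_of_forall_mem f fun O hO => ?_)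
        have := hval O (fun a => hO ⟨_, Subalgebra.algebraMap_mem _ a⟩) 1 (Or.inl rfl) one_ne_zero
          (fun j => by rw [div_one]; exact hO ⟨z j, Algebra.subset_adjoin ⟨j, rfl⟩⟩)
          (by rw [inv_one]; exact O.one_mem) n f hf
        simpa using this
      refine ⟨fun x => ?_⟩
      obtain ⟨n, a, ha, b, hb, hb0, rfl⟩ := hfrac x
      have e : a / b = (a * b) * (b * b)⁻¹ := by field_simp
      rw [e]
      refine IsAlgebraic.mul (halg n _ ?_) (halg n _ ?_).inv
      · rw [mul_two]; exact mul_mem_W β n n _ _ ha hb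
      · rw [mul_two]; exact mul_mem_W β n n _ _ hb hb
    obtain ⟨u, hu, hub⟩ := exists_isTranscendenceBasis_subset (R := Ω) (Set.range z)
    have hcard : Cardinal.mk u = g := hub.cardinalMk_eq_trdeg.trans (trdeg_eq_dim hg)
    haveI : Fintype u := ((Set.finite_range z).subset hu).fintype
    have hcu : Fintype.card u = g := by
      rw [Cardinal.mk_fintype] at hcard
      exact_mod_cast hcard
    choose p hp using fun x : u => hu x.2
    have hpinj : Function.Injective p := fun x y h => Subtype.ext ((hp x).symm.trans ((congrArg z h).trans (hp y)))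
    have hpb : Function.Bijective p :=
      (Fintype.bijective_iff_injective_and_card p).2 ⟨hpinj, by rw [hcu, Fintype.card_fin]⟩
    have := hub.1
    rw [show ((↑) : u → A.left.functionField) = z ∘ p from funext fun x => (hp x).symm] at this
    have h2 := this.comp _ (Equiv.ofBijective p hpb).symm.injective
    rwa [show (z ∘ p) ∘ (Equiv.ofBijective p hpb).symm = z from funext fun j => congrArg z
      ((Equiv.ofBijective p hpb).apply_symm_apply j)] at h2
  exact adjoin_eq_top (W β) g c 2 one_le_two (mul_mem_W β) (one_mem_W_zero β) h1 hdim hfrac z hzW hzi hval C hC hC1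

end Groth.Agent.TateIsog
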