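import Groth.Agent.TateIsog.Sections
import Groth.Agent.TateIsog.FieldGen
import Groth.Agent.AmpleX.SemiAmple
import Groth.Agent.DivModel.Model
import Mathlib.RingTheory.AlgebraicIndependent.TranscendenceBasis

/-!
# Poles, fractions and transcendence degree on a proper variety with an ample module
-/

noncomputable section

set_option linter.style.haveILetI false
set_option linter.unusedSectionVars false
set_option backward.isDefEq.respectTransparency false
set_option backward.isDefEq.respectTransparency.types false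
set_option maxHeartbeats 1000000
set_option autoImplicit false

universe u

open CategoryTheory CategoryTheory.Limits AlgebraicGeometry TopologicalSpace Opposite

namespace Groth.Agent.TateIsog

open Groth.Agent Groth.Agent.AVDegLib Groth.Agent.InvX Groth.Agent.H23

variable {k : Type u} [Field k] {A : Over (Spec (CommRingCat.of k))} [IsIntegral A.left]
  {L : A.left.Modules}

/-- The frame of a nonzero section on its locus. -/
def frameOf (s : Γ(L, ⊤)) (hs : genericPoint A.left ∈ TrivBasic.locus s) : GenFrame L :=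
  ⟨TrivBasic.locus s, AModX.res L le_top s, TrivBasic.isFrame_res_of_le_locus le_rfl, hs⟩

theorem rho_frameOf (s : Γ(L, ⊤)) (hs : genericPoint A.left ∈ TrivBasic.locus s) :
    rho (frameOf s hs) (U := ⊤) trivial s = 1 := by
  rw [← rho_self (frameOf s hs)]
  exact (rho_res (frameOf s hs) (le_top : TrivBasic.locus s ≤ ⊤) hs s).symm

theorem one_mem_W_one (β : GenFrame L) (s : Γ(L, ⊤)) (h : rho β (U := ⊤) trivial s = 1) :
    (1 : A.left.functionField) ∈ W β 1 := fun V hV e he => by
  obtain ⟨a, ha⟩ := he.exists_coord le_rfl (AModX.res L (le_top : V ≤ ⊤) s)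
  rw [AModX.res_self] at ha
  have h1 := congrArg (rho β hV) ha
  rw [rho_res, rho_smul, show rho β (le_top (α := A.left.Opens) hV) s = 1 from h] at h1
  rw [pow_one, one_div, inv_eq_of_mul_eq_one_left h1.symm]
  exact gm_mem_sect hV a

/-- A valuation ring of the function field contains the sections over some member of any open covering. -/
theorem exists_index_sect_le [IsProper A.hom] {ι : Type*} (U : ι → A.left.Opens) (cover : ∀ x, ∃ i, x ∈ U i)
    (O : ValuationSubring A.left.functionField) (hO : ∀ c : k, algebraMap k A.left.functionField c ∈ O) :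
    ∃ i, ∀ r ∈ sect A (U i), r ∈ O := by
  choose i hi using cover
  have hex : ∀ x : A.left, ∃ V : A.left.Opens, IsAffineOpen V ∧ x ∈ V ∧ V ≤ U (i x) := fun x => by
    obtain ⟨_, ⟨V, hV, rfl⟩, hxV, hle⟩ :=
      A.left.isBasis_affineOpens.exists_subset_of_mem_open (show x ∈ U (i x) from hi x) (U (i x)).2
    exact ⟨V, hV, hxV, hle⟩
  choose V hV hxV hle using hex
  obtain ⟨x, hx⟩ := exists_sect_le V hV (fun x => ⟨x, hxV x⟩) O hO
  exact ⟨i x, fun r hr => hx r (sect_mono (hle x) hr)⟩

/-- A bounded function divided by a section is regular on the locus of the section. -/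
theorem div_mem_sect_locus (hL : PicF.IsInvertible L) (β : GenFrame L) {e n : ℕ} (t : Γ(CohB1.tensorPow L e, ⊤))
    {f : A.left.functionField} (hf : f ∈ W β (n * e)) :
    f / rho (powFrame β e) (U := ⊤) trivial t ^ n ∈ sect A (TrivBasic.locus t) := by
  refine mem_sect_of_local fun x hx => ?_
  obtain ⟨V, hxV, ε, hε⟩ := InvX.exists_frame hL x
  refine ⟨TrivBasic.locus t ⊓ V, ⟨hx, hxV⟩, ?_⟩
  have hV : genericPoint A.left ∈ V := eta_mem A hxV
  have hW : genericPoint A.left ∈ TrivBasic.locus t ⊓ V := eta_mem A (x := x) ⟨hx, hxV⟩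
  obtain ⟨c, hc⟩ := (AmpleX.isFrame_powElt hε e).exists_coord le_rfl (AModX.res _ (le_top : V ≤ ⊤) t)
  rw [AModX.res_self] at hc
  have hT : rho (powFrame β e) (U := ⊤) trivial t = gm V hV c * rho β hV ε ^ e := by
    have h := congrArg (rho (powFrame β e) hV) hc
    rwa [rho_res, rho_smul, rho_pow] at h
  have hb := TrivBasic.locus_eq_basicOpen (AmpleX.isFrame_powElt hε e) hc
  rw [hb] at hW ⊢
  obtain ⟨u, hu⟩ := (A.left.toRingedSpace.isUnit_res_basicOpen c).exists_right_inv
  have hu' : gm (A.left.basicOpen c) hW u = (gm V hV c)⁻¹ := by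
    refine eq_inv_of_mul_eq_one_right ?_
    have := congrArg (gm (A.left.basicOpen c) hW) hu
    rw [map_mul, map_one] at this
    refine Eq.trans ?_ this
    exact congrArg (· * _) (gm_res (A.left.basicOpen_le c) hW c).symm
  have hε0 := rho_ne_zero β hV hε
  rw [hT, show f / (gm V hV c * rho β hV ε ^ e) ^ n = f / rho β hV ε ^ (n * e) * ((gm V hV c)⁻¹) ^ n by
    rw [mul_pow, ← pow_mul, mul_comm e n, inv_pow]; field_simp, ← hu']
  exact mul_mem (sect_mono (A.left.basicOpen_le c) (hf V hV ε hε)) (pow_mem (gm_mem_sect hW u) n)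

/-- **Poles.** Sections `t` of the `e`-th power without common zero control the poles of bounded functions. -/
theorem poles [IsProper A.hom] (hL : PicF.IsInvertible L) (β : GenFrame L) {e : ℕ} {ι : Type*}
    (t : ι → Γ(CohB1.tensorPow L e, ⊤)) (cover : ∀ x, ∃ l, x ∈ TrivBasic.locus (t l))
    (O : ValuationSubring A.left.functionField) (hO : ∀ c : k, algebraMap k A.left.functionField c ∈ O)
    (i : ι) (hi : rho (powFrame β e) (U := ⊤) trivial (t i) ≠ 0)
    (hle : ∀ l, rho (powFrame β e) (U := ⊤) trivial (t l) / rho (powFrame β e) (U := ⊤) trivial (t i) ∈ O)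
    (n : ℕ) {f : A.left.functionField} (hf : f ∈ W β (n * e)) :
    f / rho (powFrame β e) (U := ⊤) trivial (t i) ^ n ∈ O := by
  let Z : ι → A.left.functionField := fun l => rho (powFrame β e) (U := ⊤) trivial (t l)
  let U : {l : ι // (TrivBasic.locus (t l) : Set A.left).Nonempty} → A.left.Opens := fun l => TrivBasic.locus (t l.1)
  obtain ⟨⟨l, x, hx⟩, hl⟩ := exists_index_sect_le U (fun x => by
    obtain ⟨l, hl⟩ := cover x
    exact ⟨⟨l, x, hl⟩, hl⟩) O hO
  have hZl : Z l ≠ 0 := by
    have h := rho_ne_zero (powFrame β e) (eta_mem A hx) (TrivBasic.isFrame_res_of_le_locus (le_refl (TrivBasic.locus (t l))))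
    rwa [rho_res] at h
  have e1 : f / Z i ^ n = f / Z l ^ n * (Z l / Z i) ^ n := by
    rw [div_pow]; field_simp
  show f / Z i ^ n ∈ O
  rw [e1]
  exact O.mul_mem _ _ (hl _ (div_mem_sect_locus hL β (t l) hf)) (pow_mem (hle l) n)

/-- **Fractions.** Every rational function is a quotient of bounded functions. -/
theorem exists_frac [IsProper A.hom] (hL : CohB1.IsAmple L) (β : GenFrame L) (f : A.left.functionField) :
    ∃ n : ℕ, ∃ a ∈ W β n, ∃ b ∈ W β n, b ≠ 0 ∧ f = a / b := by
  classical
  haveI : CompactSpace A.left := hL.2.1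
  haveI : A.left.IsSeparated := ⟨by rw [← Limits.terminal.comp_from A.hom]; infer_instance⟩
  obtain ⟨m, -, κ, _, s, haff, -, hcov⟩ := AmpleX.exists_cover_genLocus hL
  obtain ⟨j, hj⟩ := hcov (genericPoint A.left)
  let t : Γ(CohB1.tensorPow L m, ⊤) := InvX.one (s j)
  have hloc : TrivBasic.locus t = CohB1.genLocus _ (s j) :=
    congrArg (CohB1.genLocus _) (sub_eq_zero.1 (AmpleX.eq_zero_of_one_eq_zero _ (by
      show one (ofSect _) - one (s j) = 0
      rw [one_ofSect]; exact sub_self _)))
  let U := TrivBasic.locus t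
  have hU : IsAffineOpen U := by rw [show U = _ from hloc]; exact haff j
  have hηU : genericPoint A.left ∈ U := by rw [show U = _ from hloc]; exact hj
  obtain ⟨a, ha, b, hb, hb0, rfl⟩ := frac_sect hU hηU f
  let P := rho (powFrame β m) (U := ⊤) trivial t
  have hP : P ≠ 0 := by
    have h := rho_ne_zero (powFrame β m) hηU (TrivBasic.isFrame_res_of_le_locus (le_refl U))
    rwa [rho_res] at h
  -- affine frames
  have hex : ∀ x : A.left, ∃ (V : A.left.Opens) (ε : Γ(L, V)), IsAffineOpen V ∧ x ∈ V ∧ IsFrame ε := fun x => by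
    obtain ⟨U₀, hxU, ε, hε⟩ := InvX.exists_frame hL.1 x
    obtain ⟨_, ⟨V, hV, rfl⟩, hxV, hle⟩ :=
      A.left.isBasis_affineOpens.exists_subset_of_mem_open (show x ∈ U₀ from hxU) U₀.2
    exact ⟨V, _, hV, hxV, hε.res (show V ≤ U₀ from hle)⟩
  choose V ε hVaff hxV hε using hex
  obtain ⟨S, hS⟩ := isCompact_univ.elim_finite_subcover (fun x => (V x : Set A.left)) (fun x => (V x).2)
    (fun x _ => Set.mem_iUnion.2 ⟨x, hxV x⟩)
  have hη : ∀ x, genericPoint A.left ∈ V x := fun x => eta_mem A (hxV x)
  -- clearing poles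
  have key : ∀ c ∈ sect A U, ∃ N, ∀ n, N ≤ n → c * P ^ n ∈ W β (m * n) := by
    intro c hc
    have hstep : ∀ x : A.left, ∃ N : ℕ, ∀ n, N ≤ n → c * P ^ n / rho β (hη x) (ε x) ^ (m * n) ∈ sect A (V x) := by
      intro x
      obtain ⟨d, hd⟩ := (AmpleX.isFrame_powElt (hε x) m).exists_coord le_rfl (AModX.res _ (le_top : V x ≤ ⊤) t)
      rw [AModX.res_self] at hd
      have hPd : P = gm (V x) (hη x) d * rho β (hη x) (ε x) ^ m := by
        have h := congrArg (rho (powFrame β m) (hη x)) hd
        rwa [rho_res, rho_smul, rho_pow] at h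
      have hb' := TrivBasic.locus_eq_basicOpen (AmpleX.isFrame_powElt (hε x) m) hd
      have hW : genericPoint A.left ∈ A.left.basicOpen d := by rw [← hb']; exact ⟨hηU, hη x⟩
      obtain ⟨c', hc'⟩ := sect_mono (show A.left.basicOpen d ≤ U by rw [← hb']; exact inf_le_left) hc hW
      have := (hVaff x).isLocalization_basicOpen d
      obtain ⟨N, c'', he⟩ := IsLocalization.Away.surj d c'
      refine ⟨N, fun n hn => ?_⟩
      obtain ⟨r, rfl⟩ := Nat.exists_eq_add_of_le hn
      have h2 := congrArg (gm _ hW) he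
      rw [map_mul, map_pow, hc'] at h2
      have h3 : ∀ z : Γ(A.left, V x), gm _ hW (algebraMap Γ(A.left, V x) Γ(A.left, A.left.basicOpen d) z) =
          gm (V x) (hη x) z := fun z => gm_res (A.left.basicOpen_le _) hW z
      rw [h3, h3] at h2
      rw [hPd, mul_pow, ← pow_mul, ← mul_assoc, mul_div_assoc, div_self (pow_ne_zero _ (rho_ne_zero β _ (hε x))),
        mul_one, pow_add, ← mul_assoc, h2]
      exact mul_mem (gm_mem_sect (hη x) c'') (pow_mem (gm_mem_sect (hη x) d) r)
    choose N hN using hstep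
    refine ⟨S.sup N, fun n hn => mem_W_of_cover β (fun x : S => V x) (fun x => hη x) (fun x => ε x) (fun x => hε x)
      (fun x => ?_) fun x => hN x n ((Finset.le_sup x.2).trans hn)⟩
    obtain ⟨y, hy, hxy⟩ := Set.mem_iUnion₂.1 (hS (Set.mem_univ x))
    exact ⟨⟨y, hy⟩, hxy⟩
  obtain ⟨Na, hNa⟩ := key a ha
  obtain ⟨Nb, hNb⟩ := key b hb
  let N := max Na Nb
  refine ⟨m * N, a * P ^ N, hNa N (le_max_left _ _), b * P ^ N, hNb N (le_max_right _ _),
    mul_ne_zero hb0 (pow_ne_zero _ hP), ?_⟩
  rw [mul_div_mul_right _ _ (pow_ne_zero _ hP)]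

/-- The transcendence degree of the function field is the dimension. -/
theorem trdeg_eq_dim [LocallyOfFiniteType A.hom] {g : ℕ} (hg : topologicalKrullDim A.left = g) :
    Algebra.trdeg k A.left.functionField = g := by
  have h := VarDim.topologicalKrullDim_eq_deg_genericPoint A.hom
  rw [hg] at h
  have h1 : VarDim.deg A.hom (genericPoint A.left) = g := by exact_mod_cast h.symm
  have h2 := DivModel.deg_genericPoint A.hom
  rw [h1] at h2
  have halg : (DivModel.σ A.hom (genericPoint A.left)).hom.toAlgebra = (ffAlgebra A : Algebra k A.left.functionField) :=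
    Algebra.algebra_ext _ _ fun _ => rfl
  rw [halg] at h2
  exact_mod_cast h2

end Groth.Agent.TateIsog
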