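import Mathlib.NumberTheory.Padics.ProperSpace
import Mathlib.NumberTheory.Padics.RingHoms
import Mathlib.RingTheory.Filtration
import Mathlib.RingTheory.SimpleModule.Basic
import Mathlib.RingTheory.SimpleModule.WedderburnArtin
import Mathlib.RingTheory.Noetherian.Basic
import Mathlib.Topology.MetricSpace.Sequences
import Mathlib.LinearAlgebra.TensorProduct.Tower
import Mathlib.LinearAlgebra.FiniteDimensional.Basic
import Mathlib.LinearAlgebra.Dimension.Free
import Mathlib.RingTheory.PrincipalIdealDomain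

/-!
# The algebra of Tate's argument

Limits in compact sets of endomorphisms, right ideals of semisimple rings, double commutants.
-/

noncomputable section

set_option autoImplicit false
set_option linter.unusedSectionVars false
set_option maxHeartbeats 1000000

open scoped TensorProduct

namespace Groth.Agent.TateIsog

section Limit

variable (l : ℕ) [Fact l.Prime] {T : Type*} [AddCommGroup T] [Module ℤ_[l] T] [Module.Finite ℤ_[l] T]

/-- Submodules of a finite `ℤ_l`-module are closed for the `l`-adic topology. -/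
theorem mem_of_forall_pow {S : Submodule ℤ_[l] T} {x : T}
    (h : ∀ m : ℕ, ∃ y ∈ S, ∃ t : T, x = y + ((l : ℤ_[l]) ^ m) • t) : x ∈ S := by
  rw [← Submodule.Quotient.mk_eq_zero (p := S)]
  have hI : Ideal.span {(l : ℤ_[l])} ≠ ⊤ := by
    rw [Ne, Ideal.span_singleton_eq_top]
    exact PadicInt.prime_p.not_isUnit
  have hb := Ideal.iInf_pow_smul_eq_bot_of_isLocalRing (M := T ⧸ S) (Ideal.span {(l : ℤ_[l])}) hI
  rw [← Submodule.mem_bot (R := ℤ_[l]), ← hb, Submodule.mem_iInf]
  intro m
  obtain ⟨y, hy, t, rfl⟩ := h m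
  rw [Submodule.Quotient.mk_add, (Submodule.Quotient.mk_eq_zero _).2 hy, zero_add, Submodule.Quotient.mk_smul]
  exact Submodule.smul_mem_smul (Ideal.pow_mem_pow (Ideal.mem_span_singleton_self _) m) trivial

/-- **The limit argument.** Tuples in a submodule of endomorphisms which for arbitrarily large `n` have image
between `l ^ c • W₀` and `W₀` modulo `l ^ n` have a limit with image between `l ^ c • W₀` and `W₀`. -/
theorem exists_limit (E : Submodule ℤ_[l] (Module.End ℤ_[l] T)) [Module.Finite ℤ_[l] E] {J : Type*} [Fintype J]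
    (W₀ : Submodule ℤ_[l] T) (c : ℕ)
    (h : ∀ N : ℕ, ∃ n ≥ N, ∃ e : J → Module.End ℤ_[l] T, (∀ j, e j ∈ E) ∧
      (∀ j x, ∃ w ∈ W₀, ∃ t : T, e j x = w + ((l : ℤ_[l]) ^ n) • t) ∧
      ∀ w ∈ W₀, ∃ (x : J → T) (t : T), ∑ j, e j (x j) = ((l : ℤ_[l]) ^ c) • w + ((l : ℤ_[l]) ^ n) • t) :
    ∃ e : J → Module.End ℤ_[l] T, (∀ j, e j ∈ E) ∧ (∀ j x, e j x ∈ W₀) ∧
      ∀ w ∈ W₀, ∃ x : J → T, ∑ j, e j (x j) = ((l : ℤ_[l]) ^ c) • w := by
  obtain ⟨s, π, hπ⟩ := Module.Finite.exists_fin' ℤ_[l] E
  choose N hN e he h1 h2 using h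
  choose a ha using fun N j => hπ ⟨e N j, he N j⟩
  obtain ⟨a₀, -, φ, hφ, hlim⟩ := IsCompact.tendsto_subseq (isCompact_univ (X := J → Fin s → ℤ_[l]))
    (x := fun N => a N) fun _ => Set.mem_univ _
  have hclose : ∀ m M : ℕ, ∃ i ≥ M, ∀ j, ∃ d : Fin s → ℤ_[l], a₀ j = a (φ i) j + ((l : ℤ_[l]) ^ m) • d := by
    intro m M
    have hp : 0 < (l : ℝ) ^ (-(m : ℤ)) := zpow_pos (Nat.cast_pos.2 (Fact.out : l.Prime).pos) _
    obtain ⟨I, hI⟩ := Metric.tendsto_atTop.1 hlim _ hp
    refine ⟨max I M, le_max_right _ _, fun j => ?_⟩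
    have hd : ∀ p, ∃ d : ℤ_[l], a₀ j p - a (φ (max I M)) j p = d * (l : ℤ_[l]) ^ m := fun p => by
      refine Ideal.mem_span_singleton'.1 ((PadicInt.norm_le_pow_iff_mem_span_pow _ m).1 ?_) |>.imp fun d h => h.symm
      have := (dist_le_pi_dist (a₀ j) (a (φ (max I M)) j) p).trans
        ((dist_le_pi_dist a₀ (a (φ (max I M))) j).trans (le_of_lt (by
          rw [dist_comm]
          exact hI _ (le_max_left _ _))))
      rwa [dist_eq_norm] at this
    choose d hd using hd
    refine ⟨d, funext fun p => ?_⟩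
    rw [Pi.add_apply, Pi.smul_apply, smul_eq_mul, _root_.mul_comm, ← hd p]
    ring
  let e₀ : J → Module.End ℤ_[l] T := fun j => (π (a₀ j) : Module.End ℤ_[l] T)
  have key : ∀ m : ℕ, ∃ i, m ≤ N (φ i) ∧ ∀ j, ∃ D : Module.End ℤ_[l] T,
      e₀ j = e (φ i) j + ((l : ℤ_[l]) ^ m) • D := by
    intro m
    obtain ⟨i, hi, hd⟩ := hclose m m
    refine ⟨i, (hi.trans hφ.le_apply).trans (hN _), fun j => ?_⟩
    obtain ⟨d, hd⟩ := hd j
    refine ⟨(π d : Module.End ℤ_[l] T), ?_⟩
    show (π (a₀ j) : Module.End ℤ_[l] T) = _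
    rw [hd, map_add, map_smul, ha]
    rfl
  have hsplit : ∀ {n m : ℕ}, m ≤ n → (l : ℤ_[l]) ^ n = (l : ℤ_[l]) ^ m * (l : ℤ_[l]) ^ (n - m) := fun h => by
    rw [← pow_add, Nat.add_sub_cancel' h]
  refine ⟨e₀, fun j => (π (a₀ j)).2, fun j x => mem_of_forall_pow l fun m => ?_, fun w hw => ?_⟩
  · obtain ⟨i, hi, hD⟩ := key m
    obtain ⟨D, hD⟩ := hD j
    obtain ⟨w, hw, t, ht⟩ := h1 (φ i) j x
    refine ⟨w, hw, (l : ℤ_[l]) ^ (N (φ i) - m) • t + D x, ?_⟩
    rw [hD, LinearMap.add_apply, LinearMap.smul_apply, ht, hsplit hi, mul_smul, smul_add, add_assoc]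
  · let Φ : (J → T) →ₗ[ℤ_[l]] T := ∑ j, (e₀ j) ∘ₗ LinearMap.proj j
    have hΦ : ∀ x, Φ x = ∑ j, e₀ j (x j) := fun x => by simp [Φ]
    have hmem : ((l : ℤ_[l]) ^ c) • w ∈ LinearMap.range Φ := by
      refine mem_of_forall_pow l fun m => ?_
      obtain ⟨i, hi, hD⟩ := key m
      choose D hD using hD
      obtain ⟨x, t, hx⟩ := h2 (φ i) w hw
      refine ⟨Φ x, ⟨x, rfl⟩, -((l : ℤ_[l]) ^ (N (φ i) - m) • t + ∑ j, D j (x j)), ?_⟩
      rw [hΦ]
      simp only [hD, LinearMap.add_apply, LinearMap.smul_apply, Finset.sum_add_distrib, ← Finset.smul_sum]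
      rw [hx, hsplit hi, mul_smul]
      module
    obtain ⟨x, hx⟩ := hmem
    exact ⟨x, (hΦ x).symm.trans hx⟩

end Limit

section Idem

/-- A finitely generated right ideal of a semisimple ring is generated by an element fixing it. -/
theorem exists_right_generator {R : Type*} [Ring R] [IsSemisimpleRing R] {J : Type*} [Fintype J] (e : J → R) :
    ∃ (u : R) (r : J → R), u = ∑ j, e j * r j ∧ ∀ j, u * e j = e j := by
  let I : Ideal Rᵐᵒᵖ := Ideal.span (Set.range fun j => MulOpposite.op (e j))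
  obtain ⟨I', hI⟩ := exists_isCompl I
  obtain ⟨a, ha, b, hb, hab⟩ := Submodule.mem_sup.1 (hI.sup_eq_top.ge (Submodule.mem_top (x := (1 : Rᵐᵒᵖ))))
  obtain ⟨r, hr⟩ := Submodule.mem_span_range_iff_exists_fun _ |>.1 ha
  refine ⟨a.unop, fun j => (r j).unop, ?_, fun j => ?_⟩
  · rw [← hr, Finset.unop_sum]
    exact Finset.sum_congr rfl fun j _ => rfl
  · have hx : MulOpposite.op (e j) ∈ I := Submodule.subset_span ⟨j, rfl⟩
    have h0 : MulOpposite.op (e j) * b = 0 := by
      have h1 : MulOpposite.op (e j) * b ∈ I := by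
        have : MulOpposite.op (e j) * b = MulOpposite.op (e j) * 1 - MulOpposite.op (e j) * a := by
          rw [← hab, mul_add, add_sub_cancel_left]
        rw [this, _root_.mul_one]
        exact I.sub_mem hx (I.smul_mem _ ha)
      exact (Submodule.disjoint_def.1 hI.disjoint) _ h1 (I'.smul_mem _ hb)
    have h2 : MulOpposite.op (e j) * a = MulOpposite.op (e j) := by
      conv_rhs => rw [← _root_.mul_one (MulOpposite.op (e j)), ← hab, mul_add, h0, add_zero]
    exact congrArg MulOpposite.unop h2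

end Idem

section Commutant

variable {K V : Type*} [Field K] [AddCommGroup V] [Module K V]

/-- **Complements.** If every stable subspace is the image of an element of a semisimple algebra of commuting
operators, the action is semisimple. -/
theorem exists_stable_compl (R : Subalgebra K (Module.End K V)) [IsSemisimpleRing R] {ι : Type*}
    (ρ : ι → Module.End K V) (hR : ∀ (r : R) (i : ι), Commute (r : Module.End K V) (ρ i)) (W : Submodule K V)
    (hW : ∃ u : R, LinearMap.range (u : Module.End K V) = W) :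
    ∃ W' : Submodule K V, IsCompl W W' ∧ ∀ i, W'.map (ρ i) ≤ W' := by
  obtain ⟨u, rfl⟩ := hW
  obtain ⟨p, r, hp, hpu⟩ := exists_right_generator (fun _ : Unit => u)
  have hp' : p = u * r () := by simpa using hp
  have hpp : p * p = p := by
    conv_lhs => arg 2; rw [hp']
    rw [← mul_assoc, hpu (), ← hp']
  have hpu' : (p : Module.End K V) * (u : Module.End K V) = u := congrArg Subtype.val (hpu ())
  have hp'' : (p : Module.End K V) = (u : Module.End K V) * (r () : Module.End K V) := congrArg Subtype.val hp'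
  have hrange : LinearMap.range (u : Module.End K V) = LinearMap.range (p : Module.End K V) := by
    refine le_antisymm ?_ ?_
    · rw [← hpu']; exact LinearMap.range_comp_le_range _ _
    · rw [hp'']; exact LinearMap.range_comp_le_range _ _
  have hppV : ∀ x, (p : Module.End K V) ((p : Module.End K V) x) = (p : Module.End K V) x := fun x =>
    LinearMap.congr_fun (congrArg Subtype.val hpp) x
  refine ⟨LinearMap.ker (p : Module.End K V), ?_, fun i => ?_⟩
  · rw [hrange]
    refine ⟨Submodule.disjoint_def.2 ?_, ?_⟩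
    · rintro x ⟨y, rfl⟩ hx
      rw [← hppV y]
      exact hx
    · rw [codisjoint_iff, eq_top_iff]
      intro x _
      exact Submodule.mem_sup.2 ⟨(p : Module.End K V) x, ⟨x, rfl⟩, x - (p : Module.End K V) x,
        by rw [LinearMap.mem_ker, map_sub, hppV, sub_self], add_sub_cancel _ _⟩
  · rintro _ ⟨x, hx, rfl⟩
    have h := LinearMap.congr_fun (hR p i).eq x
    rw [Module.End.mul_apply, Module.End.mul_apply] at h
    rw [SetLike.mem_coe, LinearMap.mem_ker] at hx
    rw [LinearMap.mem_ker, h, hx, map_zero]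

/-- **Double commutant.** An operator commuting with all operators commuting with a semisimple algebra lies in it. -/
theorem mem_of_commutant [FiniteDimensional K V] (R : Subalgebra K (Module.End K V)) [IsSemisimpleRing R]
    (φ : Module.End K V)
    (hφ : ∀ c : Module.End K V, (∀ r : R, Commute c (r : Module.End K V)) → Commute c φ) : φ ∈ R := by
  classical
  let b := Module.finBasis K V
  let f : Module.End (Module.End R V) V :=
    { toFun := φ
      map_add' := map_add φ
      map_smul' := fun c x => by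
        let c' : Module.End K V :=
          { toFun := c
            map_add' := map_add c
            map_smul' := fun a y => by
              have h := c.map_smul (algebraMap K R a) y
              simpa [Subalgebra.smul_def, Module.algebraMap_end_apply] using h }
        have h := hφ c' (fun r => LinearMap.ext fun y => c.map_smul r y)
        exact (LinearMap.congr_fun h.eq x).symm }
  obtain ⟨r, hr⟩ := jacobson_density (R := R) f (Finset.univ.image b)
  have : φ = (r : Module.End K V) := b.ext fun i => hr (b i) (Finset.mem_image_of_mem _ (Finset.mem_univ i))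
  rw [this]
  exact r.2

end Commutant

section Rational

variable (l : ℕ) [Fact l.Prime]

/-- Every vector of `ℚ_l ⊗ T` has an `l`-power multiple coming from `T`. -/
theorem exists_pow_smul_mem {T : Type*} [AddCommGroup T] [Module ℤ_[l] T] (v : ℚ_[l] ⊗[ℤ_[l]] T) :
    ∃ (s : ℕ) (t : T), ((l : ℚ_[l]) ^ s) • v = (1 : ℚ_[l]) ⊗ₜ t := by
  induction v using TensorProduct.induction_on with
  | zero => exact ⟨0, 0, by simp⟩
  | tmul q x =>
    obtain ⟨s, hs⟩ : ∃ s : ℕ, ‖(l : ℚ_[l]) ^ s * q‖ ≤ 1 := by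
      have hl : (1 : ℝ) < l := by exact_mod_cast (Fact.out : l.Prime).one_lt
      obtain ⟨s, hs⟩ := pow_unbounded_of_one_lt ‖q‖ hl
      refine ⟨s, ?_⟩
      rw [norm_mul, norm_pow, Padic.norm_p, inv_pow, inv_mul_le_iff₀ (by positivity), _root_.mul_one]
      exact hs.le
    obtain ⟨z, hz⟩ : ∃ z : ℤ_[l], (z : ℚ_[l]) = (l : ℚ_[l]) ^ s * q := ⟨⟨_, hs⟩, rfl⟩
    refine ⟨s, z • x, ?_⟩
    rw [TensorProduct.smul_tmul', TensorProduct.tmul_smul, smul_eq_mul]
    rw [TensorProduct.smul_tmul', Algebra.smul_def, _root_.mul_one, ← hz]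
    rfl
  | add x y hx hy =>
    obtain ⟨s, t, ht⟩ := hx
    obtain ⟨s', t', ht'⟩ := hy
    refine ⟨s + s', ((l : ℤ_[l]) ^ s') • t + ((l : ℤ_[l]) ^ s) • t', ?_⟩
    rw [TensorProduct.tmul_add, TensorProduct.tmul_smul, TensorProduct.tmul_smul, ← ht, ← ht', smul_add, pow_add,
      mul_smul, smul_comm ((l : ℚ_[l]) ^ s) ((l : ℚ_[l]) ^ s') x, mul_smul]
    congr 1 <;>
      rw [← algebraMap_smul ℚ_[l] ((l : ℤ_[l]) ^ _), map_pow, map_natCast]

end Rational

end Groth.Agent.TateIsog
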