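import Mathlib.RingTheory.Localization.Integer
import Mathlib.RingTheory.Localization.FractionRing
import Mathlib.RingTheory.MvPolynomial.Ideal
import Mathlib.Algebra.MvPolynomial.Funext
import Mathlib.Algebra.MvPolynomial.NoZeroDivisors
import Mathlib.RingTheory.Valuation.LocalSubring
import Mathlib.RingTheory.Norm.Basic
import Mathlib.Data.Sym.Card
import Mathlib.LinearAlgebra.Matrix.Determinant.Basic
import Mathlib.LinearAlgebra.Dimension.Constructions

/-!
# Bounding spaces of functions through the degree of their norms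
-/

set_option autoImplicit false
set_option linter.style.haveILetI false

universe u

noncomputable section

namespace Groth.Agent.TateIsog

open MvPolynomial

/-- Exponents of degree at most `n` in `g` variables, indexed by `Sym (Fin (g + 1)) n`. -/
def symExp {g n : ℕ} (s : Sym (Fin (g + 1)) n) : Fin g →₀ ℕ :=
  Finsupp.equivFunOnFinite.symm fun i => Multiset.count i.succ (s : Multiset (Fin (g + 1)))

theorem symExp_apply {g n : ℕ} (s : Sym (Fin (g + 1)) n) (i : Fin g) :
    symExp s i = Multiset.count i.succ (s : Multiset (Fin (g + 1))) := rfl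

theorem symExp_injective {g n : ℕ} : Function.Injective (symExp (g := g) (n := n)) := by
  intro s t h
  have hi : ∀ i : Fin g, Multiset.count i.succ (s : Multiset (Fin (g + 1))) = Multiset.count i.succ (t : Multiset _) :=
    fun i => by rw [← symExp_apply, h, symExp_apply]
  have hs := Multiset.sum_count_eq_card (s := Finset.univ) (m := (s : Multiset (Fin (g + 1)))) (fun a _ => Finset.mem_univ a)
  have ht := Multiset.sum_count_eq_card (s := Finset.univ) (m := (t : Multiset (Fin (g + 1)))) (fun a _ => Finset.mem_univ a)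
  rw [Fin.sum_univ_succ] at hs ht
  have e : (∑ i : Fin g, Multiset.count i.succ (s : Multiset (Fin (g + 1)))) =
      ∑ i : Fin g, Multiset.count i.succ (t : Multiset (Fin (g + 1))) := Finset.sum_congr rfl fun i _ => hi i
  have hc1 : Multiset.card (s : Multiset (Fin (g + 1))) = n := s.2
  have hc2 : Multiset.card (t : Multiset (Fin (g + 1))) = n := t.2
  refine Sym.coe_injective (Multiset.ext.2 fun a => ?_)
  refine Fin.cases ?_ hi a
  omega

theorem exists_symExp {g n : ℕ} (d : Fin g →₀ ℕ) (hd : d.degree ≤ n) :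
    ∃ s : Sym (Fin (g + 1)) n, symExp s = d := by
  classical
  let m : Multiset (Fin (g + 1)) :=
    Multiset.replicate (n - d.degree) 0 + ∑ i : Fin g, Multiset.replicate (d i) i.succ
  have hm : Multiset.card m = n := by
    simp only [m, Multiset.card_add, Multiset.card_replicate, Multiset.card_sum]
    rw [← Finsupp.degree_eq_sum]
    omega
  refine ⟨⟨m, hm⟩, Finsupp.ext fun i => ?_⟩
  rw [symExp_apply]
  show Multiset.count i.succ m = d i
  simp [m, Multiset.count_replicate, Multiset.count_sum', (Fin.succ_ne_zero i).symm]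

theorem card_sym (g n : ℕ) : Nat.card (Sym (Fin (g + 1)) n) = (n + g).choose g := by
  rw [Nat.card_eq_fintype_card, Sym.card_sym_eq_choose, Fintype.card_fin, show g + 1 + n - 1 = n + g by omega,
    ← Nat.choose_symm (Nat.le_add_left g n), Nat.add_sub_cancel]

theorem choose_mul_factorial_le (g n : ℕ) : (n + g).choose g * g.factorial ≤ (n + g) ^ g := by
  rw [mul_comm, ← Nat.descFactorial_eq_factorial_mul_choose]
  exact Nat.descFactorial_le_pow _ _

theorem pow_le_choose_mul_factorial (g n : ℕ) : n ^ g ≤ (n + g).choose g * g.factorial := by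
  rw [mul_comm, ← Nat.descFactorial_eq_factorial_mul_choose]
  refine le_trans (Nat.pow_le_pow_left ?_ g) (Nat.pow_sub_le_descFactorial (n + g) g)
  omega

variable {Ω : Type u} [Field Ω] {g : ℕ}

/-- The valuation ring of the degree on rational functions. -/
def degV (Ω : Type u) [Field Ω] (g : ℕ) : ValuationSubring (FractionRing (MvPolynomial (Fin g) Ω)) :=
  let am := algebraMap (MvPolynomial (Fin g) Ω) (FractionRing (MvPolynomial (Fin g) Ω))
  have hne : ∀ q : MvPolynomial (Fin g) Ω, q ≠ 0 → am q ≠ 0 := fun q hq h =>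
    hq (IsFractionRing.injective _ _ (h.trans (map_zero _).symm))
  { carrier := {x | ∃ p q : MvPolynomial (Fin g) Ω, q ≠ 0 ∧ p.totalDegree ≤ q.totalDegree ∧ x = am p / am q}
    mul_mem' := by
      rintro _ _ ⟨p, q, hq, hd, rfl⟩ ⟨p', q', hq', hd', rfl⟩
      refine ⟨p * p', q * q', mul_ne_zero hq hq', ?_, ?_⟩
      · rw [totalDegree_mul_of_isDomain hq hq']
        exact (totalDegree_mul p p').trans (by omega)
      · rw [map_mul, map_mul, div_mul_div_comm]
    one_mem' := ⟨1, 1, one_ne_zero, le_rfl, by simp⟩
    add_mem' := by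
      rintro _ _ ⟨p, q, hq, hd, rfl⟩ ⟨p', q', hq', hd', rfl⟩
      refine ⟨p * q' + q * p', q * q', mul_ne_zero hq hq', ?_, ?_⟩
      · rw [totalDegree_mul_of_isDomain hq hq']
        exact (totalDegree_add _ _).trans (max_le ((totalDegree_mul _ _).trans (by omega))
          ((totalDegree_mul _ _).trans (by omega)))
      · rw [map_add, map_mul, map_mul, map_mul, div_add_div _ _ (hne q hq) (hne q' hq')]
    zero_mem' := ⟨0, 1, one_ne_zero, by simp, by simp⟩
    neg_mem' := by
      rintro _ ⟨p, q, hq, hd, rfl⟩
      exact ⟨-p, q, hq, by rwa [totalDegree_neg], by rw [map_neg, neg_div]⟩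
    mem_or_inv_mem' := fun x => by
      obtain ⟨p, q, hq, rfl⟩ := IsFractionRing.div_surjective (A := MvPolynomial (Fin g) Ω) x
      have hq0 : q ≠ 0 := nonZeroDivisors.ne_zero hq
      rcases le_total p.totalDegree q.totalDegree with h | h
      · exact Or.inl ⟨p, q, hq0, h, rfl⟩
      · by_cases hp : p = 0
        · exact Or.inl ⟨p, q, hq0, by simp [hp], rfl⟩
        · exact Or.inr ⟨q, p, hp, h, by rw [inv_div]⟩ }

theorem div_mem_degV {p q : MvPolynomial (Fin g) Ω} (hq : q ≠ 0) (h : p.totalDegree ≤ q.totalDegree) :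
    algebraMap _ (FractionRing (MvPolynomial (Fin g) Ω)) p / algebraMap _ _ q ∈ degV Ω g := ⟨p, q, hq, h, rfl⟩

theorem totalDegree_le_of_mem_degV {N : MvPolynomial (Fin g) Ω} (i : Fin g) (m : ℕ)
    (h : algebraMap _ (FractionRing (MvPolynomial (Fin g) Ω)) N /
      algebraMap (MvPolynomial (Fin g) Ω) _ (X i ^ m) ∈ degV Ω g) :
    N.totalDegree ≤ m := by
  obtain ⟨p, q, hq, hd, he⟩ := h
  have inj := IsFractionRing.injective (MvPolynomial (Fin g) Ω) (FractionRing (MvPolynomial (Fin g) Ω))
  have hne : ∀ q : MvPolynomial (Fin g) Ω, q ≠ 0 → algebraMap _ (FractionRing (MvPolynomial (Fin g) Ω)) q ≠ 0 :=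
    fun q hq h => hq (inj (h.trans (map_zero _).symm))
  have hX : (X i : MvPolynomial (Fin g) Ω) ^ m ≠ 0 := pow_ne_zero _ (X_ne_zero i)
  rw [div_eq_div_iff (hne _ hX) (hne _ hq), ← map_mul, ← map_mul] at he
  have e := inj he
  by_cases hN : N = 0
  · simp [hN]
  have hp : p ≠ 0 := fun hp => mul_ne_zero hN hq (by rw [e, hp, zero_mul])
  have := congrArg totalDegree e
  rw [totalDegree_mul_of_isDomain hN hq, totalDegree_mul_of_isDomain hp hX, totalDegree_X_pow] at this
  omega

/-- A translation does not raise the total degree. -/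
theorem totalDegree_translate_le (a : Fin g → Ω) (N : MvPolynomial (Fin g) Ω) :
    (aeval (fun i => X i + C (a i)) N : MvPolynomial (Fin g) Ω).totalDegree ≤ N.totalDegree := by
  classical
  rw [aeval_def, eval₂_eq]
  refine totalDegree_finsetSum_le fun d hd => ?_
  refine (totalDegree_mul _ _).trans ?_
  have h1 : (algebraMap Ω (MvPolynomial (Fin g) Ω) (coeff d N)).totalDegree = 0 := totalDegree_C _
  rw [h1, zero_add]
  refine ((totalDegree_finsetProd _ _).trans (Finset.sum_le_sum (g := fun i => d i) fun i _ => ?_)).trans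
    (le_totalDegree hd)
  refine (totalDegree_pow _ _).trans ?_
  have h2 : (X i + C (a i) : MvPolynomial (Fin g) Ω).totalDegree ≤ 1 :=
    (totalDegree_add _ _).trans (max_le (totalDegree_X i).le (by rw [totalDegree_C]; exact Nat.zero_le _))
  calc d i * (X i + C (a i) : MvPolynomial (Fin g) Ω).totalDegree ≤ d i * 1 := Nat.mul_le_mul_left _ h2
    _ = d i := mul_one _

variable [Infinite Ω] {F : Type u} [Field F] [Algebra (FractionRing (MvPolynomial (Fin g) Ω)) F]
  [FiniteDimensional (FractionRing (MvPolynomial (Fin g) Ω)) F] [Algebra Ω F]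
  [IsScalarTower Ω (FractionRing (MvPolynomial (Fin g) Ω)) F]

/-- A space of elements whose norms are polynomials of degree at most `r * C` has dimension at most
`r * (C + g).choose g`, where `r` is the degree of the field over the rational functions. -/
theorem finrank_le_of_norm (W : Submodule Ω F) [Module.Finite Ω W] (C : ℕ)
    (hW : ∀ f ∈ W, ∃ N : MvPolynomial (Fin g) Ω,
      Algebra.norm (FractionRing (MvPolynomial (Fin g) Ω)) f = algebraMap _ _ N ∧
        N.totalDegree ≤ Module.finrank (FractionRing (MvPolynomial (Fin g) Ω)) F * C) :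
    Module.finrank Ω W ≤ Module.finrank (FractionRing (MvPolynomial (Fin g) Ω)) F * (C + g).choose g := by
  classical
  let P := MvPolynomial (Fin g) Ω
  let K := FractionRing P
  let r := Module.finrank K F
  let b := Module.finBasis K F
  let w := Module.finBasis Ω W
  -- common denominator
  let fam : (Fin (Module.finrank Ω W) × Fin r) ⊕ (Fin r × Fin r × Fin r) → K := fun
    | .inl (l, i) => b.repr (w l : F) i
    | .inr (i, j, l) => b.repr (b i * b j) l
  obtain ⟨⟨h, hh⟩, hint⟩ := IsLocalization.exist_integer_multiples_of_finite (nonZeroDivisors P) fam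
  have hh0 : h ≠ 0 := nonZeroDivisors.ne_zero hh
  choose q hq using fun (l : Fin (Module.finrank Ω W)) (i : Fin r) => hint (.inl (l, i))
  choose c hc using fun (i : Fin r) (j : Fin r) (l : Fin r) => hint (.inr (i, j, l))
  -- coordinates, cleared
  let Q : W →ₗ[Ω] (Fin r → P) := w.constr Ω fun l i => q l i
  have hQ : ∀ (f : W) (i : Fin r), algebraMap P K (Q f i) = algebraMap P K h * b.repr (f : F) i := by
    intro f i
    let L1 : W →ₗ[Ω] K := ((IsScalarTower.toAlgHom Ω P K).toLinearMap.comp (LinearMap.proj i)).comp Q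
    let L2 : W →ₗ[Ω] K := (LinearMap.mulLeft Ω (algebraMap P K h)).comp
      ((((Finsupp.lapply i).comp b.repr.toLinearMap).restrictScalars Ω).comp W.subtype)
    have : L1 = L2 := w.ext fun l => by
      show algebraMap P K (Q (w l) i) = algebraMap P K h * b.repr (w l : F) i
      rw [w.constr_basis]
      have := hq l i
      rwa [Algebra.smul_def] at this
    exact congrArg (fun L : W →ₗ[Ω] K => L f) this
  -- a point off the denominator
  obtain ⟨a, ha⟩ : ∃ a : Fin g → Ω, eval a h ≠ 0 := by
    by_contra H
    exact hh0 (MvPolynomial.funext fun a => by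
      rw [map_zero]; exact not_not.1 (not_exists.1 H a))
  let τ : P →ₐ[Ω] P := aeval fun i => X i + MvPolynomial.C (a i)
  have hC : ∀ x : Ω, algebraMap Ω P x = MvPolynomial.C x := fun _ => rfl
  have hτ : Function.Injective τ := fun x y hxy => by
    have key : ∀ p, aeval (fun i => X i - MvPolynomial.C (a i)) (τ p) = p := fun p => by
      have : (aeval (fun i => X i - MvPolynomial.C (a i))).comp τ = AlgHom.id Ω P := by
        ext1 i
        simp [τ, hC]
        rfl
      exact AlgHom.congr_fun this p
    rw [← key x, hxy, key]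
  let Φ : W →ₗ[Ω] (Fin r × Sym (Fin (g + 1)) C → Ω) := LinearMap.pi fun p =>
    ((MvPolynomial.lcoeff Ω (symExp p.2)).comp τ.toLinearMap).comp ((LinearMap.proj p.1).comp Q)
  suffices Function.Injective Φ by
    refine (LinearMap.finrank_le_finrank_of_injective this).trans (le_of_eq ?_)
    rw [Module.finrank_pi, ← Nat.card_eq_fintype_card, Nat.card_prod, card_sym, Nat.card_fin]
  rw [← LinearMap.ker_eq_bot, LinearMap.ker_eq_bot']
  intro f hf
  let I := idealOfVars (Fin g) Ω
  have hmem : ∀ i, τ (Q f i) ∈ I ^ (C + 1) := fun i => by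
    rw [mem_pow_idealOfVars_iff']
    intro d hd
    obtain ⟨s, rfl⟩ := exists_symExp d (Nat.lt_succ_iff.1 hd)
    exact congrFun hf (i, s)
  -- the matrix of multiplication
  obtain ⟨N, hN, hdeg⟩ := hW f f.2
  let A : Matrix (Fin r) (Fin r) P := fun l j => ∑ i, Q f i * c i j l
  have hA : A.map (algebraMap P K) = (algebraMap P K h ^ 2) • Algebra.leftMulMatrix b (f : F) := by
    ext l j
    rw [Matrix.smul_apply, Algebra.leftMulMatrix_eq_repr_mul, Matrix.map_apply, map_sum, smul_eq_mul]
    conv_rhs => rw [← b.sum_repr (f : F), Finset.sum_mul, map_sum, Finsupp.coe_finsetSum, Finset.sum_apply,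
      Finset.mul_sum]
    refine Finset.sum_congr rfl fun i _ => ?_
    rw [map_mul, hQ, smul_mul_assoc, map_smul, Finsupp.smul_apply, smul_eq_mul]
    have := hc i j l
    rw [Algebra.smul_def] at this
    rw [this]
    simp only [fam]
    ring
  have hdet : A.det = h ^ (2 * r) * N := by
    apply IsFractionRing.injective P K
    rw [RingHom.map_det, RingHom.mapMatrix_apply, hA, Matrix.det_smul, Fintype.card_fin, map_mul, map_pow, ← pow_mul,
      ← Algebra.norm_eq_matrix_det b, hN]
  have hdetmem : τ A.det ∈ I ^ ((C + 1) * r) := by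
    rw [AlgHom.map_det, AlgHom.mapMatrix_apply, Matrix.det_apply]
    refine Ideal.sum_mem _ fun σ _ => ?_
    rw [Units.smul_def, zsmul_eq_mul]
    refine Ideal.mul_mem_left _ _ ?_
    have key : ∀ s : Finset (Fin r), (∏ i ∈ s, (A.map τ) (σ i) i) ∈ I ^ ((C + 1) * s.card) := by
      intro s
      induction s using Finset.induction with
      | empty => simp
      | insert i s hi ih =>
        rw [Finset.prod_insert hi, Finset.card_insert_of_notMem hi, show (C + 1) * (s.card + 1) =
          (C + 1) + (C + 1) * s.card by ring, pow_add]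
        refine Ideal.mul_mem_mul ?_ ih
        show τ (A (σ i) i) ∈ _
        simp only [A, map_sum, map_mul]
        exact Ideal.sum_mem _ fun j _ => Ideal.mul_mem_right _ _ (hmem j)
    simpa using key Finset.univ
  have hcop : Ideal.span {τ h} ⊔ I = ⊤ := by
    have h1 : τ h - MvPolynomial.C (coeff 0 (τ h)) ∈ I := by
      have : τ h - MvPolynomial.C (coeff 0 (τ h)) ∈ I ^ 1 := by
        rw [mem_pow_idealOfVars_iff']
        intro d hd
        have : d = 0 := (Finsupp.degree_eq_zero_iff d).1 (by omega)
        rw [this, coeff_sub, coeff_C, if_pos rfl, sub_self]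
      rwa [pow_one] at this
    have h2 : coeff 0 (τ h) ≠ 0 := by
      have h3 : coeff 0 (τ h) = eval a h := by
        rw [← constantCoeff_eq]
        have : ((constantCoeff : P →+* Ω).comp τ.toRingHom) = eval a := by
          refine MvPolynomial.ringHom_ext (fun r => ?_) fun i => ?_
          · show constantCoeff (τ (MvPolynomial.C r)) = eval a (MvPolynomial.C r)
            rw [← hC r, AlgHom.commutes, hC]
            simp
          · show constantCoeff (τ (X i)) = eval a (X i)
            rw [show τ (X i) = X i + MvPolynomial.C (a i) from aeval_X _ i]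
            simp
        exact RingHom.congr_fun this h
      rwa [h3]
    refine Ideal.eq_top_of_isUnit_mem _ ?_ ((isUnit_iff_ne_zero.2 h2).map (MvPolynomial.C : Ω →+* P))
    have h4 : τ h - (τ h - MvPolynomial.C (coeff 0 (τ h))) ∈ Ideal.span {τ h} ⊔ I :=
      sub_mem (Ideal.mem_sup_left (Ideal.subset_span rfl)) (Ideal.mem_sup_right h1)
    rwa [sub_sub_cancel] at h4
  have hNI : τ N ∈ I ^ ((C + 1) * r) := by
    have h5 : Ideal.span {τ h} ^ (2 * r) ⊔ I ^ ((C + 1) * r) = ⊤ := Ideal.pow_sup_pow_eq_top hcop
    rw [Ideal.span_singleton_pow] at h5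
    obtain ⟨x, hx, v, hv, hxv⟩ := Submodule.mem_sup.1 (h5 ▸ Submodule.mem_top (x := (1 : P)))
    obtain ⟨u, rfl⟩ := Ideal.mem_span_singleton'.1 hx
    have e : τ N = (u * τ h ^ (2 * r) + v) * τ N := by rw [hxv, _root_.one_mul]
    rw [e, add_mul (u * τ h ^ (2 * r)) v, mul_assoc u, ← map_pow, ← map_mul, ← hdet]
    exact add_mem (Ideal.mul_mem_left _ _ hdetmem) (Ideal.mul_mem_right _ _ hv)
  have hr : 0 < r := Module.finrank_pos
  have hτN : τ N = 0 := by
    ext d
    rw [coeff_zero]
    by_contra hd
    have h1 : (C + 1) * r ≤ d.degree := (mem_pow_idealOfVars_iff _ _).1 hNI d (mem_support_iff.2 hd)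
    have h2 : d.degree ≤ (τ N).totalDegree := le_totalDegree (mem_support_iff.2 hd)
    have h3 : (τ N).totalDegree ≤ N.totalDegree := totalDegree_translate_le a N
    have h4 : N.totalDegree ≤ r * C := hdeg
    nlinarith
  have hN0 : N = 0 := hτ (hτN.trans (map_zero τ).symm)
  rw [hN0, map_zero] at hN
  exact Subtype.ext (Algebra.norm_eq_zero_iff.1 hN)

end Groth.Agent.TateIsog
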