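import Groth.Agent.AVDegLib.Ratio
import Groth.Agent.CurveCohLib.Skyscraper

/-!
# Sections of powers of an invertible module as spaces of rational functions
-/

noncomputable section

set_option linter.style.haveILetI false
set_option linter.unusedSectionVars false
set_option backward.isDefEq.respectTransparency false
set_option backward.isDefEq.respectTransparency.types false
set_option maxHeartbeats 1000000
set_option autoImplicit false

universe u

open CategoryTheory CategoryTheory.Limits AlgebraicGeometry TopologicalSpace Opposite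

namespace Groth.Agent.TateIsog

open Groth.Agent Groth.Agent.AVDegLib Groth.Agent.InvX Groth.Agent.H23

variable {k : Type u} [Field k] {A : Over (Spec (CommRingCat.of k))} [IsIntegral A.left]
  {L : A.left.Modules} (β : GenFrame L)

/-- Rational functions with poles bounded by `n` times the divisor of the frame `β`. -/
def W (n : ℕ) : Submodule k A.left.functionField where
  carrier := {f | ∀ (V : A.left.Opens) (hV : genericPoint A.left ∈ V) (e : Γ(L, V)), IsFrame e →
    f / rho β hV e ^ n ∈ sect A V}
  add_mem' := fun {a b} ha hb V hV e he => by rw [add_div]; exact add_mem (ha V hV e he) (hb V hV e he)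
  zero_mem' := fun V hV e _ => by rw [zero_div]; exact zero_mem _
  smul_mem' := fun c a ha V hV e he => by rw [smul_div_assoc]; exact (sect A V).smul_mem (ha V hV e he) c

theorem mul_mem_W (a b : ℕ) (x y : A.left.functionField) (hx : x ∈ W β a) (hy : y ∈ W β b) :
    x * y ∈ W β (a + b) := fun V hV e he => by
  rw [pow_add, mul_div_mul_comm]
  exact mul_mem (hx V hV e he) (hy V hV e he)

theorem one_mem_W_zero : (1 : A.left.functionField) ∈ W β 0 := fun V hV e _ => by
  rw [pow_zero, div_one]
  exact one_mem _

/-- A function bounded on a covering family of frames is bounded. -/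
theorem mem_W_of_cover {n : ℕ} {f : A.left.functionField} {ι : Type u} (U : ι → A.left.Opens)
    (hU : ∀ i, genericPoint A.left ∈ U i) (σ : ∀ i, Γ(L, U i)) (hσ : ∀ i, IsFrame (σ i))
    (cover : ∀ x, ∃ i, x ∈ U i) (h : ∀ i, f / rho β (hU i) (σ i) ^ n ∈ sect A (U i)) : f ∈ W β n := fun V hV e he =>
  bounded_transfer β U hU σ hσ cover (fun _ : Unit => V) (fun _ => hV) (fun _ => e) (fun _ => he) n f h ()

/-- Frames of an invertible module on an integral scheme covering it. -/
theorem exists_frames (hL : PicF.IsInvertible L) :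
    ∃ (U : A.left → A.left.Opens) (_ : ∀ x, genericPoint A.left ∈ U x) (σ : ∀ x, Γ(L, U x)),
      (∀ x, IsFrame (σ x)) ∧ ∀ x, x ∈ U x := by
  choose U hxU σ hσ using fun x : A.left => InvX.exists_frame hL x
  exact ⟨U, fun x => eta_mem A (hxU x), σ, hσ, hxU⟩

/-- The induced frame of a tensor power. -/
abbrev powFrame (n : ℕ) : GenFrame (CohB1.tensorPow L n) :=
  ⟨β.U, AmpleX.powElt β.e n, AmpleX.isFrame_powElt β.he n, β.hη⟩

/-- A global section of the `n`-th power is a function with poles bounded by `n` times the divisor. -/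
theorem rho_mem_W (n : ℕ) (t : Γ(CohB1.tensorPow L n, ⊤)) :
    rho (powFrame β n) (U := ⊤) trivial t ∈ W β n := fun V hV e he => by
  obtain ⟨a, ha⟩ := (AmpleX.isFrame_powElt he n).exists_coord le_rfl (AModX.res _ (le_top : V ≤ ⊤) t)
  rw [AModX.res_self] at ha
  have h := congrArg (rho (powFrame β n) hV) ha
  rw [rho_res, rho_smul, rho_pow] at h
  rw [show rho (powFrame β n) (U := ⊤) trivial t = rho (powFrame β n) _ t from rfl, h,
    mul_div_assoc, div_self (pow_ne_zero _ (rho_ne_zero β hV he)), mul_one]
  exact gm_mem_sect hV a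

/-- A section is determined by its rational function. -/
theorem rho_injective (hL : PicF.IsInvertible L) {U : A.left.Opens} (hU : genericPoint A.left ∈ U) :
    Function.Injective (rho β hU : Γ(L, U) → A.left.functionField) := by
  intro s t hst
  refine TopCat.Presheaf.section_ext (⟨L.presheaf, L.isSheaf⟩ : TopCat.Sheaf Ab A.left.toTopCat) U _ _ fun x hx => ?_
  obtain ⟨V, hxV, e, he⟩ := InvX.exists_frame hL x
  obtain ⟨a, ha⟩ := he.exists_coord (inf_le_right : U ⊓ V ≤ V) (AModX.res L inf_le_left s)
  obtain ⟨b, hb⟩ := he.exists_coord (inf_le_right : U ⊓ V ≤ V) (AModX.res L inf_le_left t)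
  have hW : genericPoint A.left ∈ U ⊓ V := ⟨hU, eta_mem A hxV⟩
  have h1 := congrArg (rho β hW) ha
  have h2 := congrArg (rho β hW) hb
  rw [rho_res, rho_smul, rho_res] at h1 h2
  have hab : a = b := gm_injective _ hW (mul_right_cancel₀ (rho_ne_zero β (eta_mem A hxV) he)
    (h1.symm.trans (hst.trans h2)))
  have hst' : AModX.res L (inf_le_left : U ⊓ V ≤ U) s = AModX.res L (inf_le_left : U ⊓ V ≤ U) t := by
    rw [ha, hb, hab]
  have := congrArg (fun z => L.presheaf.germ (U ⊓ V) x ⟨hx, hxV⟩ z) hst'
  exact (L.presheaf.germ_res_apply (homOfLE inf_le_left) x _ s).symm.trans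
    (this.trans (L.presheaf.germ_res_apply (homOfLE inf_le_left) x _ t))

/-- Every bounded function comes from a global section. -/
theorem exists_section_of_mem_W (hL : PicF.IsInvertible L) {n : ℕ} {f : A.left.functionField} (hf : f ∈ W β n) :
    ∃ t : Γ(CohB1.tensorPow L n, ⊤), rho (powFrame β n) (U := ⊤) trivial t = f := by
  obtain ⟨U, hU, σ, hσ, hxU⟩ := exists_frames hL
  choose a ha using fun x => (mem_sect (hU x)).1 (hf (U x) (hU x) (σ x) (hσ x))
  let s : ∀ x, Γ(CohB1.tensorPow L n, U x) := fun x => a x • AmpleX.powElt (σ x) n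
  have hs : ∀ x, rho (powFrame β n) (hU x) (s x) = f := fun x => by
    rw [rho_smul, rho_pow, ha, div_mul_cancel₀ _ (pow_ne_zero _ (rho_ne_zero β (hU x) (hσ x)))]
  obtain ⟨t, ht, -⟩ := TopCat.Sheaf.existsUnique_gluing'
    (⟨(CohB1.tensorPow L n).presheaf, (CohB1.tensorPow L n).isSheaf⟩ : TopCat.Sheaf Ab A.left.toTopCat) U ⊤
    (fun x => homOfLE le_top) (fun x _ => Opens.mem_iSup.2 ⟨x, hxU x⟩) s fun x y => by
      refine rho_injective (powFrame β n) (InvX.isInvertible_tensorPow hL n) (U := U x ⊓ U y) ⟨hU x, hU y⟩ ?_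
      exact ((rho_res (powFrame β n) inf_le_left ⟨hU x, hU y⟩ (s x)).trans (hs x)).trans
        ((rho_res (powFrame β n) inf_le_right ⟨hU x, hU y⟩ (s y)).trans (hs y)).symm
  refine ⟨t, ?_⟩
  let x := genericPoint A.left
  rw [← hs x, ← ht x]
  exact (rho_res (powFrame β n) le_top (hU x) t).symm

/-- Global functions act on sections through their rational functions. -/
theorem rho_smul_top (n : ℕ) (c : k) (t : Γ(CohB1.tensorPow L n, ⊤)) :
    rho (powFrame β n) (U := ⊤) trivial
      ((show Γ(A.left, ⊤) from ((Scheme.ΓSpecIso (CommRingCat.of k)).inv ≫ A.hom.appTop) c) • t) =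
      c • rho (powFrame β n) (U := ⊤) trivial t := by
  rw [rho_smul, Algebra.smul_def]
  rfl

/-- The bounded functions form the space of global sections. -/
theorem finrank_W (hL : PicF.IsInvertible L) (n : ℕ) :
    letI : A.left.Over (Spec (CommRingCat.of k)) := ⟨A.hom⟩
    Module.Finite k (Coh.HH A.left (CohB1.tensorPow L n) 0) →
      Module.Finite k (W β n) ∧
        Module.finrank k (W β n) = Module.finrank k (Coh.HH A.left (CohB1.tensorPow L n) 0) := by
  letI : A.left.Over (Spec (CommRingCat.of k)) := ⟨A.hom⟩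
  intro hfin
  let E := Sheaf.H.equiv₀ (Coh.toAb (CohB1.tensorPow L n)) isTerminalTop
  let Φ : Coh.HH A.left (CohB1.tensorPow L n) 0 →ₗ[k] W β n :=
    { toFun := fun t => ⟨rho (powFrame β n) (U := ⊤) trivial (E t : Γ(CohB1.tensorPow L n, ⊤)), rho_mem_W β n _⟩
      map_add' := fun a b => Subtype.ext (by
        show rho (powFrame β n) (U := ⊤) trivial _ = rho (powFrame β n) (U := ⊤) trivial _ +
          rho (powFrame β n) (U := ⊤) trivial _
        rw [map_add]
        refine rho_eq _ _ _ ?_
        rw [add_smul, rho_spec, rho_spec]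
        exact (map_add _ _ _).symm)
      map_smul' := fun c t => Subtype.ext (by
        show rho (powFrame β n) (U := ⊤) trivial _ = c • rho (powFrame β n) (U := ⊤) trivial _
        rw [CurveCohLib.h0Equiv_smul, ← rho_smul_top β n c]
        congr 2
        show (A.left.presheaf.map (homOfLE le_top).op).hom _ = _
        rw [show (homOfLE le_top).op = 𝟙 (Opposite.op (⊤ : A.left.Opens)) from rfl, A.left.presheaf.map_id]
        rfl) }
  let e : Coh.HH A.left (CohB1.tensorPow L n) 0 ≃ₗ[k] W β n := LinearEquiv.ofBijective Φ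
    ⟨fun a b hab => E.injective (rho_injective (powFrame β n) (InvX.isInvertible_tensorPow hL n) _
      (congrArg Subtype.val hab)), fun f => by
      obtain ⟨t, ht⟩ := exists_section_of_mem_W β hL f.2
      exact ⟨E.symm t, Subtype.ext (by
        show rho (powFrame β n) (U := ⊤) trivial (E (E.symm t) : Γ(CohB1.tensorPow L n, ⊤)) = f
        rw [E.apply_symm_apply]; exact ht)⟩⟩
  exact ⟨Module.Finite.equiv e, e.finrank_eq.symm⟩

end Groth.Agent.TateIsog
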